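import Cfsg.Agent.H602.L5.U1_m3
import Cfsg.Agent.BpExc.AsmN_m3
import Cfsg.Agent.H83.RootCount
import Cfsg.Agent.Lib.Refl
import Cfsg.Agent.Lib.MatDec
import Cfsg.Agent.S1065
import Cfsg.Agent.ChevalleyStructure.NSimpleAll
import Mathlib
import Cfsg.Agent.H602.L5.CardAT_m3
import Cfsg.Agent.H795.TorSub
import Cfsg.Agent.H136.EE.Comp_m3
import Cfsg.Agent.S1093
import Cfsg.Agent.Th.E8Run
import Cfsg.Agent.Th.Bit3
import Cfsg.Agent.FastGrp
import Cfsg.Agent.Prune
set_option linter.all false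

section
prune_inst 0x7ffca8fbabf8b9dfffff7e7fa69ecffdd9b9bfffa4dff9cb7fe063ff3b9f6b0089c56bad0be010fe1ed6c01410e87b43f97eeeffe86bd87ffffd1ff41ffbff9ffdf7350851d488340fbc0ffe83f0778e7f3fffffffffffffffffffffffffffbeffbfffffffff

-- part: H865/L5/Norm
section
prune_inst 0x340001004440000000000080010002406000042000030800004008000108244001000e40a48000020228000100010048111000200000000000000000000000000800000092080104040000000000000000000000000000000000000000000004000000000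
set_option linter.all false
open scoped Cfsg.Agent.FastGrp

-- part: H865/L5/Cent
section
/-!
# Centralizer (helper865, S5923, piece F)
-/

set_option autoImplicit false
set_option linter.unusedSectionVars false

namespace Cfsg.Agent.H865.L5

open Subgroup Cfsg Cfsg.Lie Cfsg.Agent.H858.L5

theorem center_aux : ∀ b : ZMod 5, us 0 b 0 * vm 0 1 = vm 0 1 * us 0 b 0 → us 0 b 0 = 1 := by decide +kernel

theorem cent_eq {f : SL35 →* G3} (h : GoodIn ⊤ f) (hf : Function.Injective f) :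
    Subgroup.centralizer (f.range : Set G3) = ⊥ := by
  rw [eq_bot_iff]
  intro y hy
  have h1 : ∀ s, y * f s = f s * y := fun s => (Subgroup.mem_centralizer_iff.1 hy (f s) ⟨s, rfl⟩).symm
  obtain ⟨s, hs, rfl⟩ := h.centS y (Subgroup.mem_top y) fun s _ => h1 s
  have h2 : ∀ x, s * x = x * s := fun x => hf (by rw [map_mul, map_mul]; exact h1 x)
  obtain ⟨b, rfl⟩ := cent_US fun x _ => h2 x
  rw [Subgroup.mem_bot, center_aux b (h2 _), map_one]

/-- the automorphism induced by an element of the normalizer -/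
theorem exists_aut {G : Type*} [Group G] {f : SL35 →* G} (hf : Function.Injective f) {τ : G}
    (hτ : τ ∈ Subgroup.normalizer (f.range : Set G)) : ∃ α : SL35 ≃* SL35, ∀ x, f (α x) = τ * f x * τ⁻¹ := by
  have h1 : ∀ x, ∃ y, f y = τ * f x * τ⁻¹ := fun x => (Subgroup.mem_normalizer_iff.1 hτ (f x)).1 ⟨x, rfl⟩
  have h2 : ∀ x, ∃ y, f y = τ⁻¹ * f x * τ := fun x => by
    have := (Subgroup.mem_normalizer_iff.1 (inv_mem hτ) (f x)).1 ⟨x, rfl⟩
    rwa [inv_inv] at this
  choose a ha using h1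
  choose b hb using h2
  exact ⟨{ toFun := a
           invFun := b
           left_inv := fun x => hf (by rw [hb, ha]; group)
           right_inv := fun x => hf (by rw [ha, hb]; group)
           map_mul' := fun x y => hf (by rw [ha, map_mul, map_mul, ha, ha]; group) }, ha⟩

end Cfsg.Agent.H865.L5
end

-- part: H602/L5/Irr
section
/-!
# S5923, E1 (helper602): the module of a good homomorphism is irreducible

* `scalar` : on a module `M` of dimension 4 over `ZMod 3` with `J² = -1`, `R³ = 1`, `R ≠ 1`, every `G` with `G⁸ = 1`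
  commuting with `J` and `R` is `a + b J`;
* `irr` : for `Hyp ρ` the only invariant submodules are `⊥` and `⊤`; `irred` : the same for `Good f`.
-/

set_option autoImplicit false
set_option linter.unusedSectionVars false

open Module

namespace Cfsg.Agent.H602.L5

open Cfsg.Agent.H865.L5

/-! ### Modules of dimension 4 -/

section Abs

variable {M : Type*} [AddCommGroup M] [Module (ZMod 3) M] [FiniteDimensional (ZMod 3) M]

theorem even_of_sq (J : Module.End (ZMod 3) M) (hJ : J * J = -1) : Even (finrank (ZMod 3) M) := by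
  by_contra hodd
  rw [Nat.not_even_iff_odd] at hodd
  have h1 := congrArg LinearMap.det hJ
  rw [map_mul] at h1
  have h2 : LinearMap.det (-1 : Module.End (ZMod 3) M) = (-1 : ZMod 3) := by
    have h3 : (-1 : Module.End (ZMod 3) M) = (-1 : ZMod 3) • (1 : Module.End (ZMod 3) M) := by
      rw [neg_smul, one_smul]
    rw [h3, LinearMap.det_smul, hodd.neg_one_pow, map_one, mul_one]
  rw [h2] at h1
  revert h1
  generalize (LinearMap.det J : ZMod 3) = x
  revert x
  decide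

theorem even_of_inv (J : Module.End (ZMod 3) M) (hJ : ∀ v, J (J v) = -v) (A : Submodule (ZMod 3) M)
    (hA : ∀ v ∈ A, J v ∈ A) : Even (finrank (ZMod 3) A) := by
  refine even_of_sq (J.restrict hA) ?_
  apply LinearMap.ext
  intro v
  apply Subtype.ext
  exact hJ v

theorem eq_comb (J : Module.End (ZMod 3) M) (hJ : ∀ v, J (J v) = -v) (A : Submodule (ZMod 3) M)
    (hA : ∀ v ∈ A, J v ∈ A) (h2 : finrank (ZMod 3) A = 2) {v : M} (hv : v ∈ A) (h0 : v ≠ 0) {w : M} (hw : w ∈ A) :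
    ∃ a b : ZMod 3, w = a • v + b • J v := by
  let φ : (ZMod 3 × ZMod 3) →ₗ[ZMod 3] A :=
    LinearMap.coprod (LinearMap.toSpanSingleton _ _ ⟨v, hv⟩) (LinearMap.toSpanSingleton _ _ ⟨J v, hA v hv⟩)
  have hφ : ∀ p, (φ p : M) = p.1 • v + p.2 • J v := fun p => rfl
  have hinj : Function.Injective φ := by
    rw [injective_iff_map_eq_zero]
    rintro ⟨a, b⟩ hab
    have h1 : a • v + b • J v = 0 := by
      have := congrArg Subtype.val hab
      exact this
    have h3 : (a * a + b * b) • v = 0 := by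
      have h4 := congrArg J h1
      rw [map_add, map_smul, map_smul, hJ, map_zero] at h4
      have h5 : a • (a • v + b • J v) - b • (a • J v + b • -v) = (a * a + b * b) • v := by
        module
      rw [← h5, h1, h4, smul_zero, smul_zero, sub_zero]
    have h6 : a * a + b * b = 0 := (smul_eq_zero.1 h3).resolve_right h0
    have h7 : ∀ a b : ZMod 3, a * a + b * b = 0 → a = 0 ∧ b = 0 := by decide
    obtain ⟨rfl, rfl⟩ := h7 a b h6
    rfl
  have hfr : finrank (ZMod 3) (ZMod 3 × ZMod 3) = finrank (ZMod 3) A := by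
    rw [Module.finrank_prod, finrank_self, h2]
  obtain ⟨p, hp⟩ := (LinearMap.injective_iff_surjective_of_finrank_eq_finrank hfr).1 hinj ⟨w, hw⟩
  exact ⟨p.1, p.2, by rw [← hφ, hp]⟩

theorem scalar (hM : finrank (ZMod 3) M = 4) (J R G : Module.End (ZMod 3) M) (hJ : ∀ v, J (J v) = -v) (hR3 : R ^ 3 = 1)
    (hR : R ≠ 1) (hG : G ^ 8 = 1) (hRJ : R * J = J * R) (hGJ : G * J = J * G) (hRG : R * G = G * R) :
    ∃ a b : ZMod 3, G = a • 1 + b • J := by
  have : Nontrivial M := Module.nontrivial_of_finrank_pos (R := ZMod 3) (by rw [hM]; norm_num)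
  have : CharP (Module.End (ZMod 3) M) 3 :=
    charP_of_injective_algebraMap (FaithfulSMul.algebraMap_injective (ZMod 3) (Module.End (ZMod 3) M)) 3
  set N := R - 1 with hN
  have hN3 : N ^ 3 = 0 := by
    rw [hN, sub_pow_char_of_commute 3 (Commute.one_right R), hR3, one_pow, sub_self]
  have hN0 : N ≠ 0 := fun h => hR (sub_eq_zero.1 h)
  have hNJ : ∀ v, N (J v) = J (N v) := by
    intro v
    have := congrArg (fun f : Module.End (ZMod 3) M => f v) hRJ
    show R (J v) - J v = J (R v - v)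
    rw [map_sub]
    exact congrArg (· - J v) this
  have hNG : ∀ v, N (G v) = G (N v) := by
    intro v
    have := congrArg (fun f : Module.End (ZMod 3) M => f v) hRG
    show R (G v) - G v = G (R v - v)
    rw [map_sub]
    exact congrArg (· - G v) this
  have hN3' : ∀ v, N (N (N v)) = 0 := by
    intro v
    have := congrArg (fun f : Module.End (ZMod 3) M => f v) hN3
    exact this
  -- the kernel
  set A := LinearMap.ker N with hAdef
  set B := LinearMap.range N with hBdef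
  have hAJ : ∀ v ∈ A, J v ∈ A := by
    intro v hv
    rw [hAdef, LinearMap.mem_ker] at hv ⊢
    rw [hNJ, hv, map_zero]
  have hBJ : ∀ v ∈ B, J v ∈ B := by
    rintro _ ⟨w, rfl⟩
    exact ⟨J w, hNJ w⟩
  have hCJ : ∀ v ∈ (B ⊓ A : Submodule (ZMod 3) M), J v ∈ (B ⊓ A : Submodule (ZMod 3) M) :=
    fun v hv => ⟨hBJ v hv.1, hAJ v hv.2⟩
  have hAe := even_of_inv J hJ A hAJ
  have hBe := even_of_inv J hJ B hBJ
  have hCe := even_of_inv J hJ _ hCJ
  have hsum : finrank (ZMod 3) B + finrank (ZMod 3) A = 4 := by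
    rw [← hM]
    exact LinearMap.finrank_range_add_finrank_ker N
  have hC0 : (B ⊓ A : Submodule (ZMod 3) M) ≠ ⊥ := by
    intro h
    have h1 : ∀ v, N (N v) = 0 → N v = 0 := by
      intro v hv
      have h2 : N v ∈ (B ⊓ A : Submodule (ZMod 3) M) := ⟨⟨v, rfl⟩, hv⟩
      rw [h] at h2
      exact (Submodule.mem_bot _).1 h2
    apply hN0
    apply LinearMap.ext
    intro v
    exact h1 v (h1 (N v) (hN3' v))
  have hCpos : 0 < finrank (ZMod 3) (B ⊓ A : Submodule (ZMod 3) M) := by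
    rw [Nat.pos_iff_ne_zero]
    intro h
    exact hC0 (Submodule.finrank_eq_zero.1 h)
  have hCA : finrank (ZMod 3) (B ⊓ A : Submodule (ZMod 3) M) ≤ finrank (ZMod 3) A := Submodule.finrank_mono inf_le_right
  have hCB : finrank (ZMod 3) (B ⊓ A : Submodule (ZMod 3) M) ≤ finrank (ZMod 3) B := Submodule.finrank_mono inf_le_left
  have hC2 : finrank (ZMod 3) (B ⊓ A : Submodule (ZMod 3) M) = 2 := by
    obtain ⟨a, ha⟩ := hAe
    obtain ⟨b, hb⟩ := hBe
    obtain ⟨c, hc⟩ := hCe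
    omega
  have hA2 : finrank (ZMod 3) A = 2 := by
    obtain ⟨a, ha⟩ := hAe
    obtain ⟨b, hb⟩ := hBe
    omega
  have hB2 : finrank (ZMod 3) B = 2 := by omega
  have hBA : B ≤ A := by
    have h1 : (B ⊓ A : Submodule (ZMod 3) M) = B := Submodule.eq_of_le_of_finrank_eq inf_le_left (by rw [hC2, hB2])
    rw [← h1]
    exact inf_le_right
  -- a vector of the kernel
  obtain ⟨v, hvA, hv0⟩ : ∃ v ∈ A, v ≠ 0 := by
    by_contra hcon
    push Not at hcon
    have : A = ⊥ := (Submodule.eq_bot_iff _).2 hcon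
    rw [this, finrank_bot] at hA2
    omega
  have hGv : G v ∈ A := by
    rw [hAdef, LinearMap.mem_ker] at hvA ⊢
    rw [hNG, hvA, map_zero]
  obtain ⟨a, b, hab⟩ := eq_comb J hJ A hAJ hA2 hvA hv0 hGv
  refine ⟨a, b, ?_⟩
  set L : Module.End (ZMod 3) M := a • 1 + b • J with hL
  have hLapp : ∀ w, L w = a • w + b • J w := fun w => rfl
  have hGJ' : ∀ w, G (J w) = J (G w) := fun w => congrArg (fun f : Module.End (ZMod 3) M => f w) hGJ
  have hker : ∀ w ∈ A, G w = L w := by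
    intro w hw
    obtain ⟨c, d, rfl⟩ := eq_comb J hJ A hAJ hA2 hvA hv0 hw
    rw [map_add, map_smul, map_smul, hGJ', hab, hLapp]
    simp only [map_add, map_smul, hJ]
    module
  have hNL : ∀ w, N (L w) = L (N w) := by
    intro w
    rw [hLapp, hLapp, map_add, map_smul, map_smul, hNJ]
  have hsq : (G - L) ^ 2 = 0 := by
    apply LinearMap.ext
    intro w
    rw [pow_two]
    show G (G w - L w) - L (G w - L w) = 0
    have h1 : G w - L w ∈ A := by
      rw [hAdef, LinearMap.mem_ker, map_sub, hNG, hNL, hker _ (hBA ⟨w, rfl⟩), sub_self]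
    rw [hker _ h1, sub_self]
  have hcomm : Commute G L := by
    rw [hL]
    refine Commute.add_right ?_ ?_
    · exact (Commute.one_right G).smul_right a
    · exact (show Commute G J from hGJ).smul_right b
  have h9 : G ^ 9 = L ^ 9 := by
    have h1 : (G - L) ^ 3 ^ 2 = 0 := by
      have h2 : (3 : ℕ) ^ 2 = 2 + 7 := by norm_num
      rw [h2, pow_add, hsq, zero_mul]
    rw [sub_pow_char_pow_of_commute 3 2 hcomm] at h1
    exact sub_eq_zero.1 h1
  have hJ2 : J * J = -1 := LinearMap.ext hJ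
  have hL9 : L ^ 9 = L := by
    have h1 : ∀ c : ZMod 3, c ^ 9 = c := by decide
    have h2 : L ^ 3 ^ 2 = (a • (1 : Module.End (ZMod 3) M)) ^ 3 ^ 2 + (b • J) ^ 3 ^ 2 := by
      rw [hL]
      exact add_pow_char_pow_of_commute 3 2 (((Commute.one_left J).smul_left a).smul_right b)
    have h3 : (3 : ℕ) ^ 2 = 9 := by norm_num
    rw [h3] at h2
    rw [h2, smul_pow, smul_pow, h1, h1, one_pow, hL]
    congr 2
    calc J ^ 9 = (J * J) * (J * J) * (J * J) * (J * J) * J := by simp only [pow_succ, pow_zero, one_mul, mul_assoc]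
      _ = J := by rw [hJ2]; simp
  have hG9 : G ^ 9 = G := by
    rw [pow_succ, hG, one_mul]
  rw [← hG9, h9, hL9]

end Abs

/-! ### Invariant submodules -/

/-- `u = I + e₁₂` -/
def mu : SL35 := us 0 0 1
/-- order 3, in the derived subgroup of the Levi subgroup -/
def mr : SL35 := ⟨!![1, 0, 0; 0, 0, 1; 0, 4, 4], by decide +kernel⟩
/-- order 8, commutes with `mr` -/
def mg : SL35 := ⟨!![2, 0, 0; 0, 1, 2; 0, 3, 4], by decide +kernel⟩
/-- an element of the Levi subgroup -/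
def mh : SL35 := ⟨!![2, 0, 0; 0, 0, 1; 0, 2, 0], by decide +kernel⟩
/-- an element of the Levi subgroup -/
def mk : SL35 := ⟨!![3, 0, 0; 0, 0, 1; 0, 3, 1], by decide +kernel⟩
/-- an element of the Levi subgroup -/
def mh1 : SL35 := ⟨!![4, 0, 0; 0, 0, 1; 0, 1, 0], by decide +kernel⟩
/-- an element of the Levi subgroup -/
def mh2 : SL35 := ⟨!![4, 0, 0; 0, 0, 1; 0, 1, 1], by decide +kernel⟩

theorem mr_mg : mr * mg = mg * mr := by decide +kernel
theorem mr_pow : mr ^ 3 = 1 := by (set_option synthInstance.maxSize 20000 in open scoped Cfsg.Agent.Lib.MatDec in decide +kernel)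
theorem mg_pow : mg ^ 8 = 1 := by decide +kernel
theorem mr_z0 : mr * z0 = z0 * mr := by decide +kernel
theorem mg_z0 : mg * z0 = z0 * mg := by decide +kernel
theorem mh_z0 : mh * z0 = z0 * mh := by decide +kernel
theorem comm_eq : mg * mh = mk * mr * mk⁻¹ * mh * mg := by (set_option synthInstance.maxSize 20000 in open scoped Cfsg.Agent.Lib.MatDec in decide +kernel)
theorem mu_eq : mu = (mh1 * mr * mh1⁻¹ * (mh2 * mr * mh2⁻¹)) ^ 2 := by (set_option synthInstance.maxSize 20000 in open scoped Cfsg.Agent.Lib.MatDec in decide +kernel)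
theorem mu_pow : mu ^ 5 = 1 := by decide +kernel

theorem us_pow (n : ℕ) : us 0 0 (n : ZMod 5) = mu ^ n := by
  induction n with
  | zero =>
    rw [Nat.cast_zero, pow_zero]
    decide
  | succ n ih =>
    rw [Nat.cast_succ, ← us_mul_us, ih, pow_succ]
    rfl

section Irr

variable {V : Type*} [AddCommGroup V] [Module (ZMod 3) V] {ρ : SL35 →* Module.End (ZMod 3) V}

theorem ep_mem_of_inv {W : Submodule (ZMod 3) V} (hW : ∀ x, ∀ v ∈ W, ρ x v ∈ W) {v : V} (hv : v ∈ W) : ep ρ v ∈ W := by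
  rw [ep_apply]
  exact Submodule.sum_mem _ fun ab _ => hW _ v hv

theorem eq_bot_of [FiniteDimensional (ZMod 3) V] (h : Hyp ρ) {W : Submodule (ZMod 3) V} (hW : ∀ x, ∀ v ∈ W, ρ x v ∈ W)
    (h0 : W ⊓ fx ρ VP = ⊥) : W = ⊥ := by
  rw [Submodule.eq_bot_iff]
  intro v hv
  rw [← sum_eq_apply h v]
  refine Finset.sum_eq_zero fun q _ => ?_
  obtain ⟨x, rfl⟩ := QuotientGroup.mk_surjective q
  have h1 : ep ρ (ρ x⁻¹ v) ∈ W ⊓ fx ρ VP := ⟨ep_mem_of_inv hW (hW _ v hv), ep_mem ρ _⟩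
  rw [h0] at h1
  rw [eq_apply_eq, (Submodule.mem_bot _).1 h1, map_zero]

theorem eq_top_of [FiniteDimensional (ZMod 3) V] (h : Hyp ρ) {W : Submodule (ZMod 3) V} (hW : ∀ x, ∀ v ∈ W, ρ x v ∈ W)
    (h0 : W ⊓ fx ρ VP = fx ρ VP) : W = ⊤ := by
  rw [Submodule.eq_top_iff']
  intro v
  rw [← sum_eq_apply h v]
  refine Submodule.sum_mem _ fun q _ => ?_
  obtain ⟨x, rfl⟩ := QuotientGroup.mk_surjective q
  have h1 : ep ρ (ρ x⁻¹ v) ∈ W ⊓ fx ρ VP := by
    rw [h0]
    exact ep_mem ρ _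
  rw [eq_apply_eq]
  exact hW x _ h1.1

/-- the action of `P0` on an invariant submodule -/
def act (ρ : SL35 →* Module.End (ZMod 3) V) (A : Submodule (ZMod 3) V) (hA : ∀ y ∈ P0, ∀ v ∈ A, ρ y v ∈ A) :
    P0 →* Module.End (ZMod 3) A where
  toFun y := (ρ y.1).restrict (hA y.1 y.2)
  map_one' := by
    apply LinearMap.ext
    intro v
    apply Subtype.ext
    show ρ (1 : SL35) v = v
    rw [map_one]
    rfl
  map_mul' x y := by
    apply LinearMap.ext
    intro v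
    apply Subtype.ext
    exact rho_mul ρ x.1 y.1 v

theorem eq_zero_of_mu (h : Hyp ρ) {v : V} (hv : v ∈ fx ρ VP) (hu : ρ mu v = v) : v = 0 := by
  apply h.fixS
  rintro _ ⟨a, b, c, rfl⟩
  rw [us_eq, rho_mul, hv _ ⟨a, b, rfl⟩, ← ZMod.natCast_zmod_val c, us_pow]
  generalize c.val = n
  induction n with
  | zero =>
    rw [pow_zero, map_one]
    rfl
  | succ n ih => rw [pow_succ, rho_mul, hu, ih]

/-- the function defined by a linear map -/
def toFE (A : Type*) [AddCommGroup A] [Module (ZMod 3) A] : Module.End (ZMod 3) A →* Function.End A where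
  toFun g := (fun v => g v : A → A)
  map_one' := rfl
  map_mul' _ _ := rfl

theorem mem_fixedPoints_toFE {A : Type*} [AddCommGroup A] [Module (ZMod 3) A] {g : Module.End (ZMod 3) A} {v : A} :
    v ∈ Function.fixedPoints (toFE A g) ↔ g v = v := Iff.rfl

theorem eq_bot_or (h : Hyp ρ) [FiniteDimensional (ZMod 3) V] {A : Submodule (ZMod 3) V}
    (hA : ∀ y ∈ P0, ∀ v ∈ A, ρ y v ∈ A) (hU : A ≤ fx ρ VP) : A = ⊥ ∨ A = fx ρ VP := by
  classical
  by_contra hcon
  push Not at hcon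
  obtain ⟨h0, h1⟩ := hcon
  set σ := act ρ A hA with hσ
  have hpos : 0 < finrank (ZMod 3) A := by
    rw [Nat.pos_iff_ne_zero]
    intro h
    exact h0 (Submodule.finrank_eq_zero.1 h)
  have hlt : finrank (ZMod 3) A < 8 := by
    rw [← h.dim]
    exact Submodule.finrank_lt_finrank_of_lt (lt_of_le_of_ne hU h1)
  let u : P0 := ⟨mu, rfl, rfl⟩
  let r : P0 := ⟨mr, rfl, rfl⟩
  let g : P0 := ⟨mg, rfl, rfl⟩
  let x : P0 := ⟨mh, rfl, rfl⟩
  let k : P0 := ⟨mk, rfl, rfl⟩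
  let x1 : P0 := ⟨mh1, rfl, rfl⟩
  let x2 : P0 := ⟨mh2, rfl, rfl⟩
  let z : P0 := ⟨z0, rfl, rfl⟩
  have hu0 : ∀ v : A, σ u v = v → v = 0 := by
    intro v hv
    apply Subtype.ext
    exact eq_zero_of_mu h (hU v.2) (congrArg Subtype.val hv)
  -- the dimension
  have hfin : Finite A := Module.finite_of_finite (ZMod 3)
  have := Fintype.ofFinite A
  have h5 : Nat.Prime 5 := by norm_num
  have hcard := @Equiv.Perm.card_fixedPoints_modEq A _ _ (toFE A (σ u)) 5 1 ⟨h5⟩ (by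
    rw [← map_pow, ← map_pow]
    have : u ^ 5 ^ 1 = 1 := Subtype.ext mu_pow
    rw [this, map_one, map_one])
  have hfix : ∀ inst : Fintype ↑(Function.fixedPoints (toFE A (σ u))), @Fintype.card _ inst = 1 := by
    intro inst
    rw [Fintype.card_eq_one_iff]
    refine ⟨⟨0, mem_fixedPoints_toFE.2 (map_zero (σ u))⟩, ?_⟩
    rintro ⟨v, hv⟩
    apply Subtype.ext
    exact hu0 v (mem_fixedPoints_toFE.1 hv)
  rw [hfix, Module.card_eq_pow_finrank (K := ZMod 3), ZMod.card] at hcard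
  have hd : finrank (ZMod 3) A = 4 := by
    revert hcard hpos hlt
    generalize finrank (ZMod 3) A = d
    intro h2 h3 h4
    interval_cases d <;> revert h4 <;> decide
  -- the centralizer
  have hr1 : σ r = 1 := by
    by_contra hr
    have hzz : ∀ v, σ z (σ z v) = -v := fun v => Subtype.ext (h.zz v (hU v.2))
    have e1 : r * z = z * r := Subtype.ext mr_z0
    have e2 : g * z = z * g := Subtype.ext mg_z0
    have e3 : r * g = g * r := Subtype.ext mr_mg
    have e4 : x * z = z * x := Subtype.ext mh_z0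
    have e5 : r ^ 3 = 1 := Subtype.ext mr_pow
    have e6 : g ^ 8 = 1 := Subtype.ext mg_pow
    have e7 : g * x = k * r * k⁻¹ * (x * g) := by
      apply Subtype.ext
      show mg * mh = mk * mr * mk⁻¹ * (mh * mg)
      rw [comm_eq, mul_assoc _ mh mg]
    obtain ⟨a, b, hab⟩ := scalar hd (σ z) (σ r) (σ g) hzz (by rw [← map_pow, e5, map_one]) hr
      (by rw [← map_pow, e6, map_one]) (by rw [← map_mul, ← map_mul, e1]) (by rw [← map_mul, ← map_mul, e2])
      (by rw [← map_mul, ← map_mul, e3])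
    have e8 : σ g * σ x = σ x * σ g := by
      rw [hab, add_mul, mul_add, smul_mul_assoc, smul_mul_assoc, mul_smul_comm, mul_smul_comm, one_mul, mul_one,
        ← map_mul, ← map_mul, e4]
    have e9 : σ (k * r * k⁻¹) = 1 := by
      have e10 : σ (k * r * k⁻¹) * σ (x * g) = σ (x * g) := by
        rw [← map_mul, ← e7, map_mul, e8, map_mul]
      calc σ (k * r * k⁻¹) = σ (k * r * k⁻¹) * (σ (x * g) * σ (x * g)⁻¹) := by
            rw [← map_mul σ (x * g), mul_inv_cancel, map_one, mul_one]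
        _ = 1 := by rw [← mul_assoc, e10, ← map_mul, mul_inv_cancel, map_one]
    apply hr
    have e11 : r = k⁻¹ * (k * r * k⁻¹) * k := by group
    rw [e11, map_mul, map_mul, e9, mul_one, ← map_mul, inv_mul_cancel, map_one]
  have hconj : ∀ y : P0, σ (y * r * y⁻¹) = 1 := by
    intro y
    rw [map_mul, map_mul, hr1, mul_one, ← map_mul, mul_inv_cancel, map_one]
  have hu1 : σ u = 1 := by
    have e : u = (x1 * r * x1⁻¹ * (x2 * r * x2⁻¹)) ^ 2 := Subtype.ext mu_eq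
    rw [e, map_pow, map_mul, hconj, hconj, mul_one, one_pow]
  apply h0
  rw [Submodule.eq_bot_iff]
  intro v hv
  have h2 := hu0 ⟨v, hv⟩ (by rw [hu1]; rfl)
  exact congrArg Subtype.val h2

/-- **Irreducibility** -/
theorem irr (h : Hyp ρ) [FiniteDimensional (ZMod 3) V] (W : Submodule (ZMod 3) V) (hW : ∀ x, ∀ v ∈ W, ρ x v ∈ W) :
    W = ⊥ ∨ W = ⊤ := by
  have hA : ∀ y ∈ P0, ∀ v ∈ W ⊓ fx ρ VP, ρ y v ∈ W ⊓ fx ρ VP := fun y hy v hv =>
    ⟨hW y v hv.1, map_mem_fx ρ hy hv.2⟩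
  rcases eq_bot_or h hA inf_le_right with h0 | h0
  · exact Or.inl (eq_bot_of h hW h0)
  · exact Or.inr (eq_top_of h hW h0)

end Irr

/-- E1 -/
theorem irred {f : SL35 →* G3} (h : Good f) (W : Submodule (ZMod 3) (Cfsg.Lie.chevE8.Idx → ZMod 3))
    (hW : ∀ x, ∀ v ∈ W, ac (f x) v ∈ W) : W = ⊥ ∨ W = ⊤ :=
  irr (hyp_rp h) W hW

end Cfsg.Agent.H602.L5
end

-- part: H947/L5/JJ
section
/-!
# S5923, E2 and E3 (helper947)

* `exists_J` : the endomorphism `J` with `J² = -1` commuting with `SL₃(5)` and acting as `z0` on the fixed vectors of `VP`;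
* `dim_graph` : an involution inducing the inverse transpose has a fixed space of dimension 124.
-/

set_option autoImplicit false
set_option linter.unusedSectionVars false

open Module

namespace Cfsg.Agent.H947.L5

open Cfsg.Agent.H865.L5 Cfsg.Agent.H602.L5

/-! ### Elements of `SL₃(5)` -/

theorem z0_mem : z0 ∈ P0 := ⟨rfl, rfl⟩

/-- `z0` is central modulo `VP` in the stabilizer of `p₀` -/
theorem conj_z0 {y : SL35} (hy : y ∈ P0) : ∃ a b : ZMod 5, y * z0 * y⁻¹ = z0 * vp a b := by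
  obtain ⟨hy1, hy2⟩ := hy
  obtain ⟨hz1, hz2⟩ := P0.inv_mem ⟨hy1, hy2⟩
  set z := y⁻¹ with hz
  have hyz : y.1 * z.1 = 1 := by
    have : y * z = 1 := mul_inv_cancel y
    exact (congrArg Subtype.val this :)
  have h : ∀ i j, y.1 i 0 * z.1 0 j + y.1 i 1 * z.1 1 j + y.1 i 2 * z.1 2 j = (1 : Matrix (Fin 3) (Fin 3) (ZMod 5)) i j := by
    intro i j
    rw [← hyz, Matrix.mul_apply, Fin.sum_univ_three]
  have h00 : y.1 0 0 * z.1 0 0 = 1 := by
    have := h 0 0
    rw [hz1, hz2] at this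
    simpa only [_root_.Fin.isValue, _root_.MulZeroClass.mul_zero, _root_.add_zero, _root_.Matrix.one_apply_eq] using this
  -- `y z0 y⁻¹ = 2 + 2 y E₀₀ y⁻¹`
  have e : ∀ i j, (y.1 * z0.1 * z.1) i j =
      2 * (y.1 i 0 * z.1 0 j + y.1 i 1 * z.1 1 j + y.1 i 2 * z.1 2 j) + 2 * y.1 i 0 * z.1 0 j := by
    intro i j
    simp only [z0, Matrix.mul_apply, Fin.sum_univ_three, _root_.Matrix.of_apply, _root_.Matrix.cons_val', _root_.Matrix.cons_val_fin_one, _root_.Fin.isValue, _root_.Matrix.cons_val_zero, _root_.Matrix.cons_val_one, _root_.Matrix.cons_val, _root_.MulZeroClass.mul_zero, _root_.add_zero, _root_.zero_add]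
    ring
  refine ⟨3 * y.1 0 0 * z.1 0 1, 3 * y.1 0 0 * z.1 0 2, ?_⟩
  apply Subtype.ext
  show y.1 * z0.1 * z.1 = z0.1 * (vp _ _).1
  ext i j
  rw [e, h, Matrix.mul_apply, Fin.sum_univ_three]
  have h12 : (4 : ZMod 5) * 3 = 2 := by decide
  have h4 : (2 : ZMod 5) + 2 = 4 := by decide
  have h13 : ∀ t : ZMod 5, 2 * t = 4 * (3 * t) := fun t => by rw [← mul_assoc, h12]
  fin_cases i <;> fin_cases j <;> simp only [vp, z0, hy1, hy2, mul_assoc, h00, h4, ← h13, _root_.Matrix.one_apply_eq, _root_.mul_one, _root_.Fin.zero_eta, _root_.Fin.isValue, _root_.Matrix.of_apply, _root_.Matrix.cons_val', _root_.Matrix.cons_val_zero, _root_.Matrix.cons_val_fin_one, _root_.Matrix.cons_val_one, _root_.MulZeroClass.mul_zero, _root_.add_zero, _root_.Matrix.cons_val, _root_.Fin.mk_one, _root_.ne_eq, _root_.zero_ne_one, _root_.not_false_eq_true, _root_.Matrix.one_apply_ne, _root_.zero_add, _root_.Fin.reduceFinMk, _root_.Fin.reduceEq, _root_.one_ne_zero,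 _root_.MulZeroClass.zero_mul]

theorem z0_vm (a b : ZMod 5) : z0⁻¹ * vm a b * z0 = vm (2 * a) (2 * b) := by
  have e : vm a b * z0 = z0 * vm (2 * a) (2 * b) := by
    apply Subtype.ext
    rw [mul_val, mul_val]
    ext i j
    (revert i j; simp only [vm, z0, Matrix.mul_apply, Fin.sum_univ_three, _root_.Fin.forall_fin_succ, _root_.Matrix.of_apply, _root_.Matrix.cons_val', _root_.Matrix.cons_val_fin_one, Fin.isValue, _root_.Matrix.cons_val_zero, _root_.Matrix.cons_val_one, _root_.Matrix.cons_val, _root_.MulZeroClass.mul_zero, _root_.add_zero, _root_.mul_one, _root_.Matrix.cons_val_succ, _root_.zero_add, _root_.forall_const, _root_.one_mul, _root_.MulZeroClass.zero_mul, _root_.and_self, _root_.and_true, _root_.true_and]) <;> (repeat' with_reducible apply And.intro) <;> ring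
  rw [mul_assoc, e, inv_mul_cancel_left]

theorem vm_mul (a b c d : ZMod 5) : vm a b * vm c d = vm (a + c) (b + d) := by
  apply Subtype.ext
  rw [mul_val]
  ext i j
  fin_cases i <;> fin_cases j <;> simp [vm, Matrix.mul_apply, Fin.sum_univ_three, add_comm]

theorem vm_zero : vm 0 0 = 1 := by
  apply Subtype.ext
  ext i j
  fin_cases i <;> fin_cases j <;> rfl

theorem vm_mem_iff {a b : ZMod 5} : vm a b ∈ P0 ↔ a = 0 ∧ b = 0 := Iff.rfl

theorem io_vp (a b : ZMod 5) : io (vp a b) = vm (-a) (-b) := by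
  rw [io_apply]
  have e : (vp a b)⁻¹ = vp (-a) (-b) := by
    rw [inv_eq_iff_mul_eq_one, vp_mul, add_neg_cancel, add_neg_cancel, vp_zero]
  rw [e]
  apply Subtype.ext
  ext i j
  fin_cases i <;> fin_cases j <;> rfl

theorem io_z0 : io z0 = z0⁻¹ := by decide +kernel

section Rep

variable {V : Type*} [AddCommGroup V] [Module (ZMod 3) V] (ρ : SL35 →* Module.End (ZMod 3) V)

/-- the part of `J` at the point `q` -/
def jq (q : SL35 ⧸ P0) : Module.End (ZMod 3) V :=
  Quotient.liftOn' q (fun x => ρ x * (ρ z0 * ep ρ) * ρ x⁻¹) (by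
    intro x y hxy
    have h := QuotientGroup.leftRel_apply.1 hxy
    obtain ⟨z, hz⟩ : ∃ z, z = x⁻¹ * y := ⟨_, rfl⟩
    have e : y = x * z := by rw [hz]; group
    rw [← hz] at h
    show ρ x * (ρ z0 * ep ρ) * ρ x⁻¹ = ρ y * (ρ z0 * ep ρ) * ρ y⁻¹
    obtain ⟨a, b, hab⟩ := conj_z0 h
    have h1 : ρ z * (ρ z0 * ep ρ) * ρ z⁻¹ = ρ z0 * ep ρ := by
      have h2 : ρ z⁻¹ * ep ρ = ep ρ * ρ z⁻¹ := comm_ep ρ (P0.inv_mem h)
      rw [mul_assoc, mul_assoc (ρ z0), ← h2, ← mul_assoc (ρ z0), ← mul_assoc (ρ z), ← map_mul, ← map_mul, ← mul_assoc z, hab,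
        map_mul, mul_assoc]
      congr 1
      ext v
      exact ep_mem ρ v _ ⟨a, b, rfl⟩
    subst e
    rw [mul_inv_rev, map_mul, map_mul ρ z⁻¹]
    calc ρ x * (ρ z0 * ep ρ) * ρ x⁻¹ = ρ x * (ρ z * (ρ z0 * ep ρ) * ρ z⁻¹) * ρ x⁻¹ := by rw [h1]
      _ = _ := by simp only [mul_assoc])

theorem jq_mk (x : SL35) : jq ρ (x : SL35 ⧸ P0) = ρ x * (ρ z0 * ep ρ) * ρ x⁻¹ := rfl

theorem jq_one : jq ρ ((1 : SL35) : SL35 ⧸ P0) = ρ z0 * ep ρ := by
  rw [jq_mk, inv_one, map_one, one_mul, mul_one]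

theorem jq_smul (g : SL35) (q : SL35 ⧸ P0) : ρ g * jq ρ q = jq ρ (g • q) * ρ g := by
  obtain ⟨x, rfl⟩ := QuotientGroup.mk_surjective q
  show ρ g * (ρ x * (ρ z0 * ep ρ) * ρ x⁻¹) = (ρ (g * x) * (ρ z0 * ep ρ) * ρ (g * x)⁻¹) * ρ g
  rw [mul_inv_rev, map_mul, map_mul ρ x⁻¹]
  rw [mul_assoc _ _ (ρ g), mul_assoc (ρ x⁻¹), rho_inv_mul, mul_one]
  simp only [mul_assoc]

theorem jq_mul_eq (q : SL35 ⧸ P0) : jq ρ q * eq ρ q = jq ρ q := by
  obtain ⟨x, rfl⟩ := QuotientGroup.mk_surjective q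
  rw [eq_mk, jq_mk]
  calc ρ x * (ρ z0 * ep ρ) * ρ x⁻¹ * (ρ x * ep ρ * ρ x⁻¹)
      = ρ x * ρ z0 * ep ρ * (ρ x⁻¹ * ρ x) * ep ρ * ρ x⁻¹ := by simp only [mul_assoc]
    _ = ρ x * ρ z0 * (ep ρ * ep ρ) * ρ x⁻¹ := by rw [rho_inv_mul, mul_one]; simp only [mul_assoc]
    _ = _ := by rw [ep_mul_self]; simp only [mul_assoc]

theorem eq_mul_jq (q : SL35 ⧸ P0) : eq ρ q * jq ρ q = jq ρ q := by
  obtain ⟨x, rfl⟩ := QuotientGroup.mk_surjective q
  rw [eq_mk, jq_mk]
  have h1 : ρ z0 * ep ρ = ep ρ * ρ z0 := comm_ep ρ z0_mem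
  calc ρ x * ep ρ * ρ x⁻¹ * (ρ x * (ρ z0 * ep ρ) * ρ x⁻¹)
      = ρ x * ep ρ * (ρ x⁻¹ * ρ x) * (ρ z0 * ep ρ) * ρ x⁻¹ := by simp only [mul_assoc]
    _ = ρ x * (ep ρ * ep ρ) * ρ z0 * ρ x⁻¹ := by rw [rho_inv_mul, mul_one, h1]; simp only [mul_assoc]
    _ = ρ x * (ρ z0 * ep ρ) * ρ x⁻¹ := by rw [ep_mul_self, h1]; simp only [mul_assoc]

theorem jq_mul_self {ρ : SL35 →* Module.End (ZMod 3) V} (h : Hyp ρ) (q : SL35 ⧸ P0) : jq ρ q * jq ρ q = -eq ρ q := by
  obtain ⟨x, rfl⟩ := QuotientGroup.mk_surjective q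
  rw [eq_mk, jq_mk]
  have h1 : ρ z0 * ep ρ = ep ρ * ρ z0 := comm_ep ρ z0_mem
  have h2 : ρ z0 * (ρ z0 * ep ρ) = -ep ρ := by
    ext v
    exact h.zz _ (ep_mem ρ v)
  calc ρ x * (ρ z0 * ep ρ) * ρ x⁻¹ * (ρ x * (ρ z0 * ep ρ) * ρ x⁻¹)
      = ρ x * (ρ z0 * ep ρ) * (ρ x⁻¹ * ρ x) * (ρ z0 * ep ρ) * ρ x⁻¹ := by simp only [mul_assoc]
    _ = ρ x * (ρ z0 * (ep ρ * ρ z0) * ep ρ) * ρ x⁻¹ := by rw [rho_inv_mul, mul_one]; simp only [mul_assoc]
    _ = ρ x * ((ρ z0 * (ρ z0 * ep ρ)) * ep ρ) * ρ x⁻¹ := by rw [← h1]; 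
    _ = -(ρ x * ep ρ * ρ x⁻¹) := by
      rw [h2, neg_mul, ep_mul_self, mul_neg, neg_mul]

theorem jq_mul_of_ne {ρ : SL35 →* Module.End (ZMod 3) V} (h : ∀ v ∈ fx ρ US, v = 0) {q q' : SL35 ⧸ P0} (hq : q ≠ q') :
    jq ρ q * eq ρ q' = 0 := by
  rw [← jq_mul_eq, mul_assoc, eq_mul_of_ne h hq, mul_zero]

/-- the endomorphism `J` -/
noncomputable def jj : Module.End (ZMod 3) V := ∑ q : SL35 ⧸ P0, jq ρ q

theorem jj_comm (g : SL35) : jj ρ * ρ g = ρ g * jj ρ := by
  rw [jj, Finset.mul_sum, Finset.sum_mul]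
  refine (Fintype.sum_equiv (MulAction.toPerm g) _ _ fun q => ?_).symm
  exact jq_smul ρ g q

theorem jj_mul_jj {ρ : SL35 →* Module.End (ZMod 3) V} [FiniteDimensional (ZMod 3) V] (h : Hyp ρ) : jj ρ * jj ρ = -1 := by
  have h1 : ∀ q, jq ρ q * jj ρ = -eq ρ q := by
    intro q
    rw [jj, Finset.mul_sum, Finset.sum_eq_single q, jq_mul_self h]
    · intro q' _ hq
      rw [← eq_mul_jq ρ q', ← mul_assoc, jq_mul_of_ne h.fixS hq.symm, zero_mul]
    · intro h; exact absurd (Finset.mem_univ _) h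
  rw [← sum_eq h, ← Finset.sum_neg_distrib]
  conv_lhs => rw [jj, Finset.sum_mul]
  exact Finset.sum_congr rfl fun q _ => h1 q

theorem jj_of_mem {ρ : SL35 →* Module.End (ZMod 3) V} (h : ∀ v ∈ fx ρ US, v = 0) {v : V} (hv : v ∈ fx ρ VP) :
    jj ρ v = ρ z0 v := by
  have h1 : jj ρ * ep ρ = ρ z0 * ep ρ := by
    rw [jj, Finset.sum_mul, Finset.sum_eq_single ((1 : SL35) : SL35 ⧸ P0)]
    · rw [jq_one, mul_assoc, ep_mul_self]
    · intro q _ hq
      rw [← eq_one, jq_mul_of_ne h hq]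
    · intro h; exact absurd (Finset.mem_univ _) h
  have h2 := congrArg (fun f : Module.End (ZMod 3) V => f v) h1
  have h3 : jj ρ (ep ρ v) = ρ z0 (ep ρ v) := h2
  rwa [ep_of_mem ρ hv] at h3

/-! ### Involutions inducing the inverse transpose -/

/-- a nonzero fixed vector of `VM` on which `J` acts as `z0` -/
theorem exists_vm {ρ : SL35 →* Module.End (ZMod 3) V} (h : Hyp ρ) :
    ∃ c : V, c ≠ 0 ∧ (∀ a b, ρ (vm a b) c = c) ∧ jj ρ c = ρ z0 c := by
  obtain ⟨c0, hc0, hne⟩ : ∃ c0 ∈ fx ρ VP, c0 ≠ 0 := by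
    by_contra hcon
    push Not at hcon
    have h1 : fx ρ VP = ⊥ := (Submodule.eq_bot_iff _).2 hcon
    have h2 := h.dim
    rw [h1, finrank_bot] at h2
    exact absurd h2 (by norm_num)
  refine ⟨∑ ab : ZMod 5 × ZMod 5, ρ (vm ab.1 ab.2) c0, ?_, ?_, ?_⟩
  · intro hz
    apply hne
    have h1 : ep ρ (∑ ab : ZMod 5 × ZMod 5, ρ (vm ab.1 ab.2) c0) = c0 := by
      rw [map_sum, Finset.sum_eq_single ((0, 0) : ZMod 5 × ZMod 5)]
      · rw [vm_zero, map_one]
        exact ep_of_mem ρ hc0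
      · rintro ⟨a, b⟩ _ hab
        have h2 : vm a b ∉ P0 := fun h3 => hab (Prod.ext (vm_mem_iff.1 h3).1 (vm_mem_iff.1 h3).2)
        have h4 := congrArg (fun f : Module.End (ZMod 3) V => f c0) (ep_mul_ep h.fixS h2)
        have h5 : ep ρ (ρ (vm a b) (ep ρ c0)) = 0 := h4
        rwa [ep_of_mem ρ hc0] at h5
      · intro h; exact absurd (Finset.mem_univ _) h
    rw [← h1, hz, map_zero]
  · intro a b
    rw [map_sum]
    refine Fintype.sum_equiv (Equiv.addLeft (a, b)) _ _ fun ab => ?_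
    rw [← rho_mul, vm_mul]
    rfl
  · rw [map_sum, map_sum]
    have h1 : ∀ x : SL35, jj ρ (ρ x c0) = ρ x (ρ z0 c0) := by
      intro x
      have h2 := congrArg (fun f : Module.End (ZMod 3) V => f c0) (jj_comm ρ x)
      have h3 : jj ρ (ρ x c0) = ρ x (jj ρ c0) := h2
      rw [h3, jj_of_mem h.fixS hc0]
    let e : ZMod 5 × ZMod 5 ≃ ZMod 5 × ZMod 5 :=
      { toFun := fun ab => (2 * ab.1, 2 * ab.2)
        invFun := fun ab => (3 * ab.1, 3 * ab.2)
        left_inv := fun ab => by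
          have h6 : (3 : ZMod 5) * 2 = 1 := by decide
          refine Prod.ext ?_ ?_
          · show 3 * (2 * ab.1) = ab.1
            rw [← mul_assoc, h6, one_mul]
          · show 3 * (2 * ab.2) = ab.2
            rw [← mul_assoc, h6, one_mul]
        right_inv := fun ab => by
          have h6 : (2 : ZMod 5) * 3 = 1 := by decide
          refine Prod.ext ?_ ?_
          · show 2 * (3 * ab.1) = ab.1
            rw [← mul_assoc, h6, one_mul]
          · show 2 * (3 * ab.2) = ab.2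
            rw [← mul_assoc, h6, one_mul] }
    refine Fintype.sum_equiv e _ _ fun ab => ?_
    rw [h1, ← rho_mul, ← rho_mul]
    have h7 : vm ab.1 ab.2 * z0 = z0 * vm (2 * ab.1) (2 * ab.2) := by
      rw [← z0_vm]; group
    rw [h7]
    rfl

/-- **The graph involutions** -/
theorem finrank_graph {ρ : SL35 →* Module.End (ZMod 3) V} [FiniteDimensional (ZMod 3) V] (h : Hyp ρ)
    (T : Module.End (ZMod 3) V) (hT : T * T = 1) (hTx : ∀ x, T * ρ x = ρ (io x) * T)
    (A : Submodule (ZMod 3) V) (hA : ∀ v, v ∈ A ↔ T v = v) : finrank (ZMod 3) A = 124 := by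
  have hTT : ∀ v, T (T v) = v := fun v => congrArg (fun f : Module.End (ZMod 3) V => f v) hT
  have hT' : ∀ x v, T (ρ x v) = ρ (io x) (T v) := fun x v => congrArg (fun f : Module.End (ZMod 3) V => f v) (hTx x)
  have hJ : ∀ x v, jj ρ (ρ x v) = ρ x (jj ρ v) := fun x v =>
    congrArg (fun f : Module.End (ZMod 3) V => f v) (jj_comm ρ x)
  have hJJ : ∀ v, jj ρ (jj ρ v) = -v := fun v => congrArg (fun f : Module.End (ZMod 3) V => f v) (jj_mul_jj h)
  obtain ⟨c, hc0, hc, hcz⟩ := exists_vm h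
  -- `T J T + J` is zero
  let W : Submodule (ZMod 3) V := LinearMap.ker (T * jj ρ * T + jj ρ)
  have hW : ∀ v, v ∈ W ↔ T (jj ρ (T v)) + jj ρ v = 0 := fun v => LinearMap.mem_ker
  have hWx : ∀ x, ∀ v ∈ W, ρ x v ∈ W := by
    intro x v hv
    rw [hW] at hv ⊢
    rw [hT', hJ, hT', io_io, hJ, ← map_add, hv, map_zero]
  have hcW : c ∈ W := by
    rw [hW]
    have h1 : T c ∈ fx ρ VP := by
      rintro _ ⟨a, b, rfl⟩
      have h2 : vp a b = io (io (vp a b)) := (io_io _).symm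
      rw [h2, ← hT', io_vp, hc]
    have h3 : ρ z0 (T c) = T (ρ z0⁻¹ c) := by
      rw [hT', ← io_z0, io_io]
    rw [jj_of_mem h.fixS h1, h3, hTT, hcz]
    -- `z0² c = -c`
    have h4 : ρ z0 (ρ z0 c) = -c := by
      rw [← hJJ c, hcz, hJ, hcz]
    have h5 : ρ z0⁻¹ c = -ρ z0 c := by
      have h6 : ρ z0⁻¹ (ρ z0 (ρ z0 c)) = ρ z0 c := by
        rw [← rho_mul, inv_mul_cancel, map_one]; rfl
      rw [h4, map_neg] at h6
      rw [← h6, neg_neg]
    rw [h5, neg_add_cancel]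
  have hWtop : W = ⊤ := by
    rcases irr h W hWx with h1 | h1
    · exact absurd ((Submodule.mem_bot _).1 (h1 ▸ hcW)) hc0
    · exact h1
  have hanti : ∀ v, T (jj ρ v) = -jj ρ (T v) := by
    intro v
    have h1 : T v ∈ W := hWtop ▸ Submodule.mem_top
    rw [hW, hTT] at h1
    exact eq_neg_of_add_eq_zero_left h1
  -- the two eigenspaces
  let B : Submodule (ZMod 3) V := LinearMap.ker (T + 1)
  have hB : ∀ v, v ∈ B ↔ T v = -v := by
    intro v
    rw [LinearMap.mem_ker]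
    exact eq_neg_iff_add_eq_zero.symm
  have two : ∀ v : V, v = -v → v = 0 := by
    intro v hv
    have h1 : (3 : ℕ) • v = 0 := by
      rw [← Nat.cast_smul_eq_nsmul (ZMod 3), (by decide : ((3 : ℕ) : ZMod 3) = 0), zero_smul]
    have h2 : v + v = 0 := by
      nth_rewrite 2 [hv]
      exact add_neg_cancel v
    rw [succ_nsmul, two_nsmul, h2, zero_add] at h1
    exact h1
  have three : ∀ v : V, v + v + v = 0 := by
    intro v
    have h1 : (3 : ℕ) • v = 0 := by
      rw [← Nat.cast_smul_eq_nsmul (ZMod 3), (by decide : ((3 : ℕ) : ZMod 3) = 0), zero_smul]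
    rw [succ_nsmul, two_nsmul] at h1
    exact h1
  have hcompl : IsCompl A B := by
    constructor
    · rw [Submodule.disjoint_def]
      intro v h1 h2
      rw [hA] at h1
      rw [hB, h1] at h2
      exact two v h2
    · rw [codisjoint_iff, eq_top_iff]
      intro v _
      refine Submodule.mem_sup.2 ⟨-(v + T v), ?_, -(v - T v), ?_, ?_⟩
      · rw [hA, map_neg, map_add, hTT, add_comm]
      · rw [hB, map_neg, map_sub, hTT]
        abel
      · have h1 := three v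
        have h2 : -(v + T v) + -(v - T v) = v - (v + v + v) := by abel
        rw [h2, h1, sub_zero]
  have hle1 : finrank (ZMod 3) A ≤ finrank (ZMod 3) B := by
    let φ : A →ₗ[ZMod 3] B := (jj ρ ∘ₗ A.subtype).codRestrict B fun v => by
      rw [hB]
      show T (jj ρ v) = -jj ρ v
      rw [hanti, (hA v).1 v.2]
    refine LinearMap.finrank_le_finrank_of_injective (f := φ) fun v w hvw => ?_
    have h1 : jj ρ (v : V) = jj ρ (w : V) := congrArg Subtype.val hvw
    have h2 := congrArg (jj ρ) h1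
    rw [hJJ, hJJ] at h2
    exact Subtype.ext (neg_injective h2)
  have hle2 : finrank (ZMod 3) B ≤ finrank (ZMod 3) A := by
    let φ : B →ₗ[ZMod 3] A := (jj ρ ∘ₗ B.subtype).codRestrict A fun v => by
      rw [hA]
      show T (jj ρ v) = jj ρ v
      rw [hanti, (hB v).1 v.2, map_neg, neg_neg]
    refine LinearMap.finrank_le_finrank_of_injective (f := φ) fun v w hvw => ?_
    have h1 : jj ρ (v : V) = jj ρ (w : V) := congrArg Subtype.val hvw
    have h2 := congrArg (jj ρ) h1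
    rw [hJJ, hJJ] at h2
    exact Subtype.ext (neg_injective h2)
  have hsum := Submodule.finrank_add_eq_of_isCompl hcompl
  have hdim := h.dimV
  have e1 : finrank (ZMod 3) A = finrank (ZMod 3) B := le_antisymm hle1 hle2
  rw [← e1] at hsum
  clear hle1 hle2 e1
  rw [hdim] at hsum
  generalize finrank (ZMod 3) A = a at hsum ⊢
  clear * - hsum
  omega

end Rep

/-- E3 -/
theorem dim_graph {f : SL35 →* G3} (h : Good f) {τ : G3} (h2 : τ * τ = 1) (hτ : ∀ x, τ * f x * τ⁻¹ = f (io x)) :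
    Module.finrank (ZMod 3) (Fx {τ}) = 124 := by
  refine finrank_graph (hyp_rp h) (ac τ) ?_ (fun x => ?_) _ (fun v => ?_)
  · apply LinearMap.ext
    intro v
    show ac τ (ac τ v) = v
    rw [← ac_mul, h2, ac_one]
  · apply LinearMap.ext
    intro v
    show ac τ (ac (f x) v) = ac (f (io x)) (ac τ v)
    rw [← ac_mul, ← ac_mul, ← hτ, inv_mul_cancel_right]
  · rw [mem_Fx]
    exact ⟨fun h => h τ rfl, fun h g hg => by rw [Set.mem_singleton_iff.1 hg]; exact h⟩

end Cfsg.Agent.H947.L5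
end

-- part: H969/L5/InvNe
section
/-!
# S5923, E4 (helper969): the fixed space of an involution of `E₈(3)` does not have dimension 124

`inv_ne`.
-/

set_option autoImplicit false
set_option linter.unusedSectionVars false

namespace Cfsg.Agent.H969.L5

open CoxeterSystem Subgroup Cfsg Cfsg.Lie Cfsg.Lie.ChevalleyDatum
open Cfsg.Agent.ChevalleyStructure Cfsg.Agent.ChevalleyStructure.Elts Cfsg.Agent.ChevalleyStructure.CoxeterGeom
  Cfsg.Agent.ChevalleyStructure.CoxeterGeomTypes Cfsg.Agent.ChevalleyStructure.NPerm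
open Cfsg.Agent.Tits.Roots Cfsg.Agent.Tits.Core Cfsg.Agent.Nodes Cfsg.Agent.Nodes.SubComb Cfsg.Agent.Nodes.Reps
  Cfsg.Agent.Nodes.BNOf Cfsg.Agent.Nodes.RGDChev Cfsg.Agent.Nodes.Bruhat Cfsg.Agent.Nodes.Coroot
open Cfsg.Agent.KFacts.RgdField Cfsg.Agent.KFacts.RgdChevCoord Cfsg.Agent.BpExc.TorCent Cfsg.Agent.BpExc.TorChev
open Cfsg.Agent.GpExc.Field Cfsg.Agent.BpExc.Tow Cfsg.Agent.BpExc.TowChev Cfsg.Agent.BpExc.Fr
  Cfsg.Agent.BpExc.LangFr Cfsg.Agent.BpExc.FamField Cfsg.Agent.BpExc.FamInst Cfsg.Agent.H129.TorusChar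
  Cfsg.Agent.H795.LangT Cfsg.Agent.BpExc.FamExt Cfsg.Agent.BpExc.FamUntw Cfsg.Agent.H378.TorDual Cfsg.Agent.H378.TorChar
  Cfsg.Agent.H378.TorFin Cfsg.Agent.H378.RankOne Cfsg.Agent.H378.RootTor Cfsg.Agent.H865.EE Cfsg.Agent.H865.L5

attribute [local irreducible] w8

/-- the rank of a matrix is invariant under field extensions -/
theorem rank_map {F K n : Type*} [Field F] [Field K] [Fintype n] [DecidableEq n] (φ : F →+* K) (M : Matrix n n F) :
    (M.map φ).rank = M.rank := by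
  classical
  obtain ⟨V, U, e, hV, hU, h⟩ := Matrix.exists_rank_normal_form M
  have hmap : ∀ A B : Matrix n n F, (A * B).map φ = A.map φ * B.map φ := fun A B => Matrix.map_mul
  have hunit : ∀ A : Matrix n n F, IsUnit A → IsUnit (A.map φ).det := fun A hA => by
    have h1 : (A.map φ).det = φ A.det := (RingHom.map_det φ A).symm
    rw [h1]
    exact ((Matrix.isUnit_iff_isUnit_det _).1 hA).map φ
  have h1 := congrArg (fun A : Matrix n n F => (A.map φ).rank) h
  simp only [hmap] at h1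
  rw [Matrix.rank_mul_eq_left_of_isUnit_det _ _ (hunit U hU), Matrix.rank_mul_eq_right_of_isUnit_det _ _ (hunit V hV)] at h1
  rw [h1, ← Matrix.submatrix_map, Matrix.rank_submatrix, Matrix.fromBlocks_map]
  have h2 : (Matrix.fromBlocks ((1 : Matrix (Fin M.rank) (Fin M.rank) F).map φ) ((0 : Matrix (Fin M.rank) (Fin (Fintype.card n - M.rank)) F).map φ)
      ((0 : Matrix (Fin (Fintype.card n - M.rank)) (Fin M.rank) F).map φ) ((0 : Matrix (Fin (Fintype.card n - M.rank)) (Fin (Fintype.card n - M.rank)) F).map φ)) =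
      Matrix.diagonal (Sum.elim (fun _ => (1 : K)) (fun _ => 0)) := by
    ext i j
    rcases i with i | i <;> rcases j with j | j
    · by_cases hij : i = j
      · subst hij; simp
      · simp [hij]
    · simp
    · simp
    · by_cases hij : i = j
      · subst hij; simp
      · simp [hij]
  rw [h2, Matrix.rank_diagonal]
  have h3 : Fintype.card {i : Fin M.rank ⊕ Fin (Fintype.card n - M.rank) //
      (Sum.elim (fun _ => (1 : K)) (fun _ => 0)) i ≠ 0} = Fintype.card (Fin M.rank) := by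
    symm
    refine Fintype.card_congr (Equiv.ofBijective (fun i => ⟨Sum.inl i, one_ne_zero⟩) ⟨?_, ?_⟩)
    · intro a b hab
      exact Sum.inl_injective (congrArg Subtype.val hab)
    · rintro ⟨i | i, hi⟩
      · exact ⟨i, rfl⟩
      · exact absurd rfl hi
  rw [h3, Fintype.card_fin]

/-! ### Parities -/

/-- the roots modulo 2 -/
def ML : List ℕ := [
  82, 210, 146, 178, 162, 170, 174, 168, 172, 164, 180, 148, 212, 84, 175, 173, 165, 181, 149, 213, 85, 161,
  177, 145, 209, 81, 185, 153, 217, 89, 137, 201, 73, 233, 105, 41, 187, 155, 219, 91, 139, 203, 75, 235, 107,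
  43, 131, 195, 67, 227, 99, 35, 243, 115, 51, 19, 135, 199, 71, 231, 103, 39, 247, 119, 55, 23, 255, 127, 63,
  31, 15, 253, 125, 61, 29, 13, 5, 1, 134, 198, 70, 230, 102, 38, 246, 118, 54, 22, 254, 126, 62, 30, 14, 250,
  122, 58, 26, 10, 2, 252, 124, 60, 28, 12, 4, 248, 120, 56, 24, 8, 240, 112, 48, 16, 224, 96, 32, 192, 64, 128,
  128, 64, 192, 32, 96, 224, 16, 48, 112, 240, 8, 24, 56, 120, 248, 4, 12, 28, 60, 124, 252, 2, 10, 26, 58, 122,
  250, 14, 30, 62, 126, 254, 22, 54, 118, 246, 38, 102, 230, 70, 198, 134, 1, 5, 13, 29, 61, 125, 253, 15, 31,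
  63, 127, 255, 23, 55, 119, 247, 39, 103, 231, 71, 199, 135, 19, 51, 115, 243, 35, 99, 227, 67, 195, 131, 43,
  107, 235, 75, 203, 139, 91, 219, 155, 187, 41, 105, 233, 73, 201, 137, 89, 217, 153, 185, 81, 209, 145, 177,
  161, 85, 213, 149, 181, 165, 173, 175, 84, 212, 148, 180, 164, 172, 168, 174, 170, 162, 178, 146, 210, 82]

/-- parity table -/
def PT : ℕ := 47758914269546354982683078068829456704164423862093743397580034411621752859030

/-- a vector modulo 2 as a number -/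
def mk2 (l : List ℤ) : ℕ := ((List.range 8).map (fun i => (l.getD i 0 % 2).toNat * 2 ^ i)).sum

theorem ML_eq : RL.map mk2 = ML := by decide +kernel

/-- parity of the pairing of two masks -/
def pq (v m : ℕ) : Bool := PT.testBit (m &&& v)

theorem count_ne : ∀ v < 256, ML.countP (pq v) ≠ 124 := by (set_option synthInstance.maxSize 100000 in exact Cfsg.Agent.Lib.Refl.of (by decide +kernel))

theorem PT_bit : ∀ x < 256, PT.testBit x = ((List.range 8).map (fun i => x.testBit i)).foldl xor false := by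
  decide +kernel

/-! ### Characters of order 2 of the root lattice -/

section Sgn

variable {k : Type} [Field k] [CharP k 3]

/-- signs -/
def sgn (k : Type) [Field k] (b : Bool) : k := if b then -1 else 1

theorem sgn_ne_one (b : Bool) : sgn k b ≠ 1 ↔ b = true := by
  have h : (-1 : k) ≠ 1 := by
    intro h
    have h2 : ((2 : ℕ) : k) = 0 := by
      have : (1 : k) + 1 = 0 := by nth_rewrite 1 [← h]; ring
      push_cast
      rw [← one_add_one_eq_two, this]
    rw [CharP.cast_eq_zero_iff k 3] at h2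
    omega
  cases b
  · simp [sgn]
  · simp [sgn, h]

theorem sgn_xor (a b : Bool) : sgn k (a ^^ b) = sgn k a * sgn k b := by
  cases a <;> cases b <;> simp [sgn]

theorem foldl_sgn (l : List Bool) (a : Bool) : sgn k (l.foldl xor a) = sgn k a * (l.map (sgn k)).prod := by
  induction l generalizing a with
  | nil => simp
  | cons b l ih => rw [List.foldl_cons, ih, sgn_xor, List.map_cons, List.prod_cons, mul_assoc]

theorem sgn_zpow (b : Bool) (n : ℤ) : sgn k b ^ n = sgn k (b && decide (n % 2 = 1)) := by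
  cases b
  · simp [sgn]
  · rcases Int.even_or_odd n with h | h
    · have h2 : n % 2 = 0 := Int.even_iff.1 h
      simp [sgn, h.neg_one_zpow, h2]
    · have h2 : n % 2 = 1 := Int.odd_iff.1 h
      simp [sgn, h.neg_one_zpow, h2]

end Sgn

/-- bits of a number given by booleans -/
def ofB (b : Fin 8 → Bool) : ℕ := ((List.finRange 8).map (fun i => (b i).toNat * 2 ^ (i : ℕ))).sum

theorem bits (b : Fin 8 → Bool) (i : Fin 8) : (ofB b).testBit i = b i := by
  have key : ∀ b0 b1 b2 b3 b4 b5 b6 b7 : Bool, ∀ i : Fin 8,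
      (ofB ![b0, b1, b2, b3, b4, b5, b6, b7]).testBit i = (![b0, b1, b2, b3, b4, b5, b6, b7] : Fin 8 → Bool) i := by
    decide +kernel
  have h : b = ![b 0, b 1, b 2, b 3, b 4, b 5, b 6, b 7] := by
    funext j
    fin_cases j <;> rfl
  rw [h]
  exact key _ _ _ _ _ _ _ _ i

theorem ofB_lt (b : Fin 8 → Bool) : ofB b < 256 := by
  have key : ∀ b0 b1 b2 b3 b4 b5 b6 b7 : Bool, ofB ![b0, b1, b2, b3, b4, b5, b6, b7] < 256 := by
    decide +kernel
  have h : b = ![b 0, b 1, b 2, b 3, b 4, b 5, b 6, b 7] := by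
    funext j
    fin_cases j <;> rfl
  rw [h]
  exact key _ _ _ _ _ _ _ _

theorem mk2_eq (a : Fin 8 → ℤ) : mk2 (toL a) = ofB (fun i => decide (a i % 2 = 1)) := by
  unfold mk2 ofB
  have h1 : ∀ n : ℤ, (n % 2).toNat = (decide (n % 2 = 1)).toNat := by
    intro n
    rcases Int.emod_two_eq_zero_or_one n with h | h <;> simp [h]
  have h2 : (List.range 8) = (List.finRange 8).map (fun i : Fin 8 => (i : ℕ)) := by decide
  rw [h2, List.map_map]
  congr 1
  refine List.map_congr_left fun i _ => ?_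
  show ((toL a).getD (i : ℕ) 0 % 2).toNat * 2 ^ (i : ℕ) = _
  rw [getD_toL, h1]

section Main

variable {k : Type} [Field k] [CharP k 3]

/-- the value of a character of order 2 -/
theorem cX_parity {t : ↥(chevE8.group k)} {b : Fin 8 → Bool} (hb : ∀ i, cX tp8 t (sr i) = sgn k (b i)) (a : Fin 8 → ℤ) :
    cX tp8 t a ≠ 1 ↔ pq (ofB b) (mk2 (toL a)) = true := by
  have h1 : cX tp8 t a = ∏ i, sgn k (b i && decide (a i % 2 = 1)) := by
    unfold cX
    refine Finset.prod_congr rfl fun i _ => ?_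
    rw [← cX_sr, hb, sgn_zpow]
  have h2 : ∏ i, sgn k (b i && decide (a i % 2 = 1)) =
      sgn k (((List.range 8).map (fun i => ((mk2 (toL a)) &&& ofB b).testBit i)).foldl xor false) := by
    rw [foldl_sgn, show sgn k false = 1 from rfl, one_mul, List.map_map]
    have h3 : (List.range 8) = (List.finRange 8).map (fun i : Fin 8 => (i : ℕ)) := by decide
    rw [h3, List.map_map, ← List.ofFn_eq_map, List.prod_ofFn]
    refine Finset.prod_congr rfl fun i _ => ?_
    show _ = sgn k (((mk2 (toL a)) &&& ofB b).testBit (i : ℕ))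
    rw [Nat.testBit_land, mk2_eq, bits, bits, Bool.and_comm]
  rw [h1, h2, sgn_ne_one, pq, PT_bit _ (lt_of_le_of_lt (Nat.and_le_right) (ofB_lt b))]

theorem card_eq_count {n : ℕ} (P : ℕ → Prop) [DecidablePred P] :
    Nat.card {s : Fin n // P s} = (List.range n).countP (fun s => decide (P s)) := by
  have h1 : Nat.card {s : Fin n // P s} = Nat.card ↥((Finset.range n).filter P) :=
    Nat.card_congr ⟨fun s => ⟨s.1, Finset.mem_filter.2 ⟨Finset.mem_range.2 s.1.2, s.2⟩⟩,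
      fun s => ⟨⟨s.1, Finset.mem_range.1 (Finset.mem_filter.1 s.2).1⟩, (Finset.mem_filter.1 s.2).2⟩,
      fun _ => rfl, fun _ => rfl⟩
  rw [h1, Nat.card_eq_fintype_card, Fintype.card_coe, List.countP_eq_length_filter]
  rfl

theorem sq_eq_one_iff_cases {x : k} (h : x ^ 2 = 1) : x = 1 ∨ x = -1 := by
  have h1 : (x - 1) * (x + 1) = 0 := by
    rw [show (x - 1) * (x + 1) = x ^ 2 - 1 by ring, h, sub_self]
  rcases mul_eq_zero.1 h1 with h2 | h2
  · exact Or.inl (sub_eq_zero.1 h2)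
  · exact Or.inr (eq_neg_of_add_eq_zero_left h2)

theorem card_ne {t : ↥(chevE8.group k)} (ht : t ∈ TT chevE8 k) (h2 : t ^ 2 = 1) :
    Nat.card {s : Fin chevE8.nroots // cX tp8 t (vec chevE8 8 s) ≠ 1} ≠ 124 := by
  classical
  have hb : ∀ i, ∃ b : Bool, cX tp8 t (sr i) = sgn k b := by
    intro i
    have h1 := cX_pow tp8 ht 2 (sr i)
    rw [h2, cX_one] at h1
    rcases sq_eq_one_iff_cases h1.symm with h | h
    · exact ⟨false, h⟩
    · exact ⟨true, h⟩
  choose b hb using hb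
  have hn : chevE8.nroots = 240 := by decide +kernel
  rw [hn, card_eq_count (fun s => cX tp8 t (vec chevE8 8 s) ≠ 1)]
  have h3 : (List.range 240).countP (fun s => decide (cX tp8 t (vec chevE8 8 s) ≠ 1)) = ML.countP (pq (ofB b)) := by
    rw [← ML_eq, ← vec_tab, List.map_map, List.countP_map]
    refine List.countP_congr fun s _ => ?_
    rw [decide_eq_true_eq]
    exact cX_parity hb _
  rw [h3]
  exact count_ne _ (ofB_lt b)

end Main

theorem finrank_Fx {K : Type} [Field K] (τ : ↥(chevE8.group K)) :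
    Module.finrank K (Fx {τ}) + (((τ : GL chevE8.Idx K) : Matrix chevE8.Idx chevE8.Idx K) - 1).rank = 248 := by
  have h1 : Fx {τ} = LinearMap.ker (Matrix.mulVecLin (((τ : GL chevE8.Idx K) : Matrix chevE8.Idx chevE8.Idx K) - 1)) := by
    ext v
    rw [mem_Fx, LinearMap.mem_ker, Matrix.mulVecLin_apply, Matrix.sub_mulVec, Matrix.one_mulVec, sub_eq_zero]
    constructor
    · intro h
      exact h τ rfl
    · rintro h g rfl
      exact h
  have h2 := LinearMap.finrank_range_add_finrank_ker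
    (Matrix.mulVecLin (((τ : GL chevE8.Idx K) : Matrix chevE8.Idx chevE8.Idx K) - 1))
  have h3 : Module.finrank K (chevE8.Idx → K) = 248 := by
    rw [Module.finrank_fintype_fun_eq_card]
    decide +kernel
  rw [h3] at h2
  rw [h1, Matrix.rank, add_comm]
  exact h2

/-- E4 -/
theorem inv_ne {τ : G3} (h2 : τ * τ = 1) : Module.finrank (ZMod 3) (Fx {τ}) ≠ 124 := by
  intro h
  have h3 := finrank_Fx τ
  rw [h] at h3
  let k := AlgebraicClosure (ZMod 3)
  let φ : ZMod 3 →+* k := algebraMap (ZMod 3) k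
  have hk : BpExc.TorAll.HAlg 3 k := BpExc.TorAll.hAlg_of_isAlgebraic 3 k
  have hchar : CharP k 3 := inferInstance
  set τ' := emb tp8.inList φ τ with hτ'
  have h4 : τ' ^ 2 = 1 := by rw [hτ', ← map_pow, sq, h2, map_one]
  obtain ⟨g, hg⟩ := BpExc.TorAll.exists_conj_mem_TT tp8 3 hk Nat.prime_two (by norm_num) h4
  have h5 : (g * τ' * g⁻¹) ^ 2 = 1 := by rw [conj_pow, h4, mul_one, mul_inv_cancel]
  apply card_ne hg h5
  rw [← H83.RootCount.rank_sub_one tp8 hg]
  have h6 : (((g * τ' * g⁻¹ : ↥(chevE8.group k)) : GL chevE8.Idx k) : Matrix chevE8.Idx chevE8.Idx k) - 1 =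
      ((g : GL chevE8.Idx k) : Matrix chevE8.Idx chevE8.Idx k) *
        (((τ' : GL chevE8.Idx k) : Matrix chevE8.Idx chevE8.Idx k) - 1) *
        (((g⁻¹ : ↥(chevE8.group k)) : GL chevE8.Idx k) : Matrix chevE8.Idx chevE8.Idx k) := by
    rw [mul_sub, sub_mul, mul_one, ← Units.val_mul, ← Units.val_mul, ← Units.val_mul, ← Subgroup.coe_mul,
      ← Subgroup.coe_mul, ← Subgroup.coe_mul, mul_inv_cancel]
    rfl
  rw [h6, Matrix.rank_mul_eq_left_of_isUnit_det, Matrix.rank_mul_eq_right_of_isUnit_det]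
  · have h7 : ((τ' : GL chevE8.Idx k) : Matrix chevE8.Idx chevE8.Idx k) - 1 =
        (((τ : GL chevE8.Idx (ZMod 3)) : Matrix chevE8.Idx chevE8.Idx (ZMod 3)) - 1).map φ := by
      rw [hτ', coe_emb, coe_glMap, Matrix.map_sub φ (fun a b => map_sub φ a b), Matrix.map_one φ (map_zero φ) (map_one φ)]
    rw [h7, rank_map]
    omega
  · exact (Matrix.isUnit_iff_isUnit_det _).1 (Units.isUnit _)
  · exact (Matrix.isUnit_iff_isUnit_det _).1 (Units.isUnit _)

end Cfsg.Agent.H969.L5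
end

-- part: H865/L5/Norm
section
/-!
# Normalizer (helper865, S5923, piece F)
-/

set_option autoImplicit false
set_option linter.unusedSectionVars false

namespace Cfsg.Agent.H865.L5

open Subgroup Cfsg Cfsg.Lie
open Cfsg.Agent.H858.L5 (aut_SL)
open Cfsg.Agent.H947.L5 (dim_graph)
open Cfsg.Agent.H969.L5 (inv_ne)

theorem norm_eq {f : SL35 →* G3} (h : GoodIn ⊤ f) (hf : Function.Injective f) :
    Subgroup.normalizer (f.range : Set G3) = f.range := by
  refine le_antisymm (fun τ hτ => ?_) Subgroup.le_normalizer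
  obtain ⟨α, hα⟩ := exists_aut hf hτ
  have hone : ∀ y : G3, (∀ x, y * f x * y⁻¹ = f x) → y = 1 := by
    intro y hy
    have : y ∈ Subgroup.centralizer (f.range : Set G3) := by
      rw [Subgroup.mem_centralizer_iff]
      rintro _ ⟨x, rfl⟩
      have := hy x
      rw [mul_inv_eq_iff_eq_mul] at this
      exact this.symm
    rwa [cent_eq h hf, Subgroup.mem_bot] at this
  rcases aut_SL α with ⟨x, hx⟩ | ⟨x, hx⟩
  · have h1 : (f x)⁻¹ * τ = 1 := hone _ fun g => by
      have h2 := hα g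
      rw [hx, map_mul, map_mul, map_inv] at h2
      calc (f x)⁻¹ * τ * f g * ((f x)⁻¹ * τ)⁻¹ = (f x)⁻¹ * (τ * f g * τ⁻¹) * f x := by group
        _ = (f x)⁻¹ * (f x * f g * (f x)⁻¹) * f x := by rw [h2]
        _ = f g := by group
    rw [inv_mul_eq_one] at h1
    exact ⟨x, h1⟩
  · exfalso
    have h1 : ∀ g, (f x)⁻¹ * τ * f g * ((f x)⁻¹ * τ)⁻¹ = f (io g) := by
      intro g
      have h2 := hα g
      rw [hx, map_mul, map_mul, map_inv] at h2
      calc (f x)⁻¹ * τ * f g * ((f x)⁻¹ * τ)⁻¹ = (f x)⁻¹ * (τ * f g * τ⁻¹) * f x := by group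
        _ = (f x)⁻¹ * (f x * f (io g) * (f x)⁻¹) * f x := by rw [h2]
        _ = f (io g) := by group
    have h2 : ((f x)⁻¹ * τ) * ((f x)⁻¹ * τ) = 1 := hone _ fun g => by
      calc (f x)⁻¹ * τ * ((f x)⁻¹ * τ) * f g * ((f x)⁻¹ * τ * ((f x)⁻¹ * τ))⁻¹
          = (f x)⁻¹ * τ * ((f x)⁻¹ * τ * f g * ((f x)⁻¹ * τ)⁻¹) * ((f x)⁻¹ * τ)⁻¹ := by group
        _ = f g := by rw [h1, h1, io_io]
    exact inv_ne h2 (dim_graph h.toGood h2 h1)

end Cfsg.Agent.H865.L5
end

private theorem dce_707dcbd690e3 : _root_.True := by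
  try have : _root_.True := by simp only [_root_.Cfsg.Agent.H947.L5.jj.eq_1]
  try have : _root_.True := by simp only [_root_.Cfsg.Agent.H969.L5.sgn.eq_1]
  try have : _root_.True := by simp only [_root_.Cfsg.Agent.H969.L5.pq.eq_1]
  exact _root_.True.intro
end

-- part: H865/L5/Reg
section
prune_inst 0x45004000062000000000004120000400000042000030000000000040000006000000e0018000000022200010000002811000000424000000e000800000400000000000080480000020010000000000000000000000000000000000000000000000000000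
set_option linter.all false
open scoped Cfsg.Agent.FastGrp

-- part: H865/L5/Nrm
section
/-!
# Centralizers and normalizers of regular subsets of `T5` (helper865, S5923, pieces A4, A5)
-/

set_option autoImplicit false
set_option linter.unusedSectionVars false

namespace Cfsg.Agent.H865.L5

open CoxeterSystem Subgroup Cfsg Cfsg.Lie Cfsg.Lie.ChevalleyDatum
open Cfsg.Agent.ChevalleyStructure Cfsg.Agent.ChevalleyStructure.Elts Cfsg.Agent.ChevalleyStructure.CoxeterGeom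
  Cfsg.Agent.ChevalleyStructure.CoxeterGeomTypes Cfsg.Agent.ChevalleyStructure.NPerm
open Cfsg.Agent.Tits.Roots Cfsg.Agent.Tits.Core Cfsg.Agent.Nodes Cfsg.Agent.Nodes.SubComb Cfsg.Agent.Nodes.Reps
  Cfsg.Agent.Nodes.BNOf Cfsg.Agent.Nodes.RGDChev Cfsg.Agent.Nodes.Bruhat Cfsg.Agent.Nodes.Coroot
open Cfsg.Agent.KFacts.RgdField Cfsg.Agent.KFacts.RgdChevCoord Cfsg.Agent.BpExc.TorCent Cfsg.Agent.BpExc.TorChev
open Cfsg.Agent.GpExc.Field Cfsg.Agent.BpExc.Tow Cfsg.Agent.BpExc.TowChev Cfsg.Agent.BpExc.Fr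
  Cfsg.Agent.BpExc.LangFr Cfsg.Agent.BpExc.FamField Cfsg.Agent.BpExc.FamInst Cfsg.Agent.H129.TorusChar
  Cfsg.Agent.H795.LangT Cfsg.Agent.BpExc.FamExt Cfsg.Agent.BpExc.FamUntw Cfsg.Agent.H378.TorDual Cfsg.Agent.H378.TorChar
  Cfsg.Agent.H378.TorFin Cfsg.Agent.H378.RankOne Cfsg.Agent.H378.RootTor Cfsg.Agent.H865.EE

attribute [local irreducible] w8

section Nrm

variable {k : Type} [Field k] [CharP k 3] [IsAlgClosed k] [PerfectRing k 3]

/-- A4 : an element commuting with a regular subset of `T5` represents an element of the Weyl group -/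
theorem cent_reg (hk : LocFin k) {S : Set ↥(chevE8.group k)} (hS : S ⊆ T5 k) (hr : Reg S) {y : ↥(chevE8.group k)}
    (h : ∀ t ∈ S, y * t = t * y) : ∃ w : W8, Rp cs8 (nsysL tp8 cs8 hk 3) w y ∧
      ∀ t ∈ S, ∀ x, cX tp8 t (_root_.Cfsg.Agent.H865.EE.act w x) = cX tp8 t x := by
  choose s hs hsa using fun a : Cfsg.Agent.H241.L5.Ph8 => hr a.1 a.2
  obtain ⟨w, n, hn, -, hnc⟩ := Cfsg.Agent.H241.L5.exists_rp_conj hk (s := s) (t := s) (fun a => (hS (hs a)).1.1)
    (fun a => (hS (hs a)).1.1) (c := y) (fun a => h _ (hs a))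
  have e := hnc fun a ha => ⟨⟨a, ha⟩, hsa ⟨a, ha⟩⟩
  rw [e] at hn
  refine ⟨w, hn, fun t ht x => ?_⟩
  have h1 := cX_rp tp8 cs8 hk 3 hn (hS ht).1.1 x
  rwa [h t ht, mul_inv_cancel_right] at h1

/-- facts A1 and A2 on `T5` -/
theorem reg_T5_of {ζ : k} (hζ : IsPrimitiveRoot ζ 5) {e : Module.Dual (ZMod 5) (Fin 4 → ZMod 5) → ↥(chevE8.group k)}
    (he : Set.range e = T5 k) (hch : ∀ φ x, cX tp8 (e φ) x = ζ ^ (φ (_root_.Cfsg.Agent.H865.EE.PP x)).val) : Reg (T5 k) := by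
  intro a ha
  obtain ⟨j, hj⟩ := Function.ne_iff.1 (PP_ne_zero ha)
  let φ : Module.Dual (ZMod 5) (Fin 4 → ZMod 5) := LinearMap.proj j
  refine ⟨e φ, he ▸ ⟨φ, rfl⟩, fun h => hj ?_⟩
  rw [hch] at h
  have h1 := hζ.pow_inj (ZMod.val_lt (φ (_root_.Cfsg.Agent.H865.EE.PP a))) (by norm_num : 0 < 5) (by rw [h, pow_zero])
  exact (ZMod.val_eq_zero _).1 h1

/-- A5 -/
theorem norm_T5_of (hk : LocFin k) {ζ : k} (hζ : IsPrimitiveRoot ζ 5)
    {e : Module.Dual (ZMod 5) (Fin 4 → ZMod 5) → ↥(chevE8.group k)}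
    (he : Set.range e = T5 k) (hch : ∀ φ x, cX tp8 (e φ) x = ζ ^ (φ (_root_.Cfsg.Agent.H865.EE.PP x)).val) {y : ↥(chevE8.group k)}
    (hy : y ∈ GT k) (h : ∀ t ∈ T5 k, y * t * y⁻¹ ∈ T5 k) : ∃ v ∈ CW, Rp cs8 (nsysL tp8 cs8 hk 3) v y := by
  have hfin : Finite ↥(T5 k) := by
    rw [← he]
    have : Finite (Module.Dual (ZMod 5) (Fin 4 → ZMod 5)) := Module.finite_of_finite (ZMod 5)
    exact (Set.finite_range e).to_subtype
  have hsurj : Function.Surjective (fun t : ↥(T5 k) => (⟨y * t.1 * y⁻¹, h t.1 t.2⟩ : ↥(T5 k))) := by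
    apply Finite.injective_iff_surjective.1
    intro s t hst
    exact Subtype.ext (mul_left_cancel (mul_right_cancel (congrArg Subtype.val hst)))
  have h1 : ∀ a : Cfsg.Agent.H241.L5.Ph8, ∃ s t : ↥(T5 k), y * s.1 = t.1 * y ∧ cX tp8 t.1 a.1 ≠ 1 := by
    intro a
    obtain ⟨t, ht, hne⟩ := reg_T5_of hζ he hch a.1 a.2
    obtain ⟨s, hs⟩ := hsurj ⟨t, ht⟩
    refine ⟨s, ⟨t, ht⟩, ?_, hne⟩
    rw [← congrArg Subtype.val hs]
    show y * s.1 = y * s.1 * y⁻¹ * y
    group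
  choose s t hst hne using h1
  obtain ⟨w, n, hn, -, hnc⟩ := Cfsg.Agent.H241.L5.exists_rp_conj hk (s := fun a => (s a).1) (t := fun a => (t a).1)
    (fun a => (s a).2.1.1) (fun a => (t a).2.1.1) (c := y) hst
  have e1 := hnc fun a ha => ⟨⟨a, ha⟩, hne ⟨a, ha⟩⟩
  rw [e1] at hn
  exact ⟨w, Cfsg.Agent.H602.L5.cw_of_rp hk hy hn, hn⟩

end Nrm

end Cfsg.Agent.H865.L5
end

-- part: H887/L5/Transport
section
/-!
# Transport from `GT k` to `E₈(3)` (helper887, S5923 / S5924, piece A8)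

* `finrank_fix` : base change for common fixed spaces of families of matrices;
* `exists_conj` : `z⁻¹ E₈(3) z = GT k`; `exists_equiv`; `transport`.
-/

set_option autoImplicit false
set_option linter.unusedSectionVars false

namespace Cfsg.Agent.H887.L5

open CoxeterSystem Subgroup Cfsg Cfsg.Lie Cfsg.Lie.ChevalleyDatum
open Cfsg.Agent.ChevalleyStructure Cfsg.Agent.ChevalleyStructure.Elts Cfsg.Agent.ChevalleyStructure.CoxeterGeom
  Cfsg.Agent.ChevalleyStructure.CoxeterGeomTypes Cfsg.Agent.ChevalleyStructure.NPerm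
open Cfsg.Agent.Tits.Roots Cfsg.Agent.Tits.Core Cfsg.Agent.Nodes Cfsg.Agent.Nodes.SubComb Cfsg.Agent.Nodes.Reps
  Cfsg.Agent.Nodes.BNOf Cfsg.Agent.Nodes.RGDChev Cfsg.Agent.Nodes.Bruhat Cfsg.Agent.Nodes.Coroot
open Cfsg.Agent.KFacts.RgdField Cfsg.Agent.KFacts.RgdChevCoord Cfsg.Agent.BpExc.TorCent Cfsg.Agent.BpExc.TorChev
open Cfsg.Agent.GpExc.Field Cfsg.Agent.BpExc.Tow Cfsg.Agent.BpExc.TowChev Cfsg.Agent.BpExc.Fr
  Cfsg.Agent.BpExc.LangFr Cfsg.Agent.BpExc.FamField Cfsg.Agent.BpExc.FamInst Cfsg.Agent.H129.TorusChar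
  Cfsg.Agent.H795.LangT Cfsg.Agent.BpExc.FamExt Cfsg.Agent.BpExc.FamUntw Cfsg.Agent.H378.TorDual Cfsg.Agent.H378.TorChar
  Cfsg.Agent.H378.TorFin Cfsg.Agent.H378.RankOne Cfsg.Agent.H378.RootTor Cfsg.Agent.H865.EE Cfsg.Agent.H865.L5

attribute [local irreducible] w8

/-! ### base change of common fixed spaces -/

section Fix

/-- the common fixed space of a family of matrices -/
def cfix {K : Type*} [Field K] {n ι : Type*} [Fintype n] (A : ι → Matrix n n K) : Submodule K (n → K) where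
  carrier := {v | ∀ i, (A i).mulVec v = v}
  zero_mem' := fun i => Matrix.mulVec_zero _
  add_mem' := fun {a b} ha hb i => by rw [Matrix.mulVec_add, ha i, hb i]
  smul_mem' := fun c a ha i => by rw [Matrix.mulVec_smul, ha i]

theorem mem_cfix {K : Type*} [Field K] {n ι : Type*} [Fintype n] {A : ι → Matrix n n K} {v : n → K} :
    v ∈ cfix A ↔ ∀ i, (A i).mulVec v = v := Iff.rfl

/-- **base change for the common fixed space** -/
theorem finrank_fix {F K : Type*} [Field F] [Field K] (f : F →+* K) {n ι : Type*} [Fintype n]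
    (A : ι → Matrix n n F) :
    Module.finrank K (cfix fun i => (A i).map f) = Module.finrank F (cfix A) := by
  classical
  let _ : Algebra F K := f.toAlgebra
  have hsm : ∀ (a : F) (x : K), a • x = f a * x := fun a x => rfl
  let b := Module.Basis.ofVectorSpace F K
  let co : Module.Basis.ofVectorSpaceIndex F K → (n → K) → (n → F) := fun j v a => b.repr (v a) j
  have hco : ∀ j (i : ι) (v : n → K), co j (((A i).map f).mulVec v) = (A i).mulVec (co j v) := by
    intro j i v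
    funext a
    show b.repr (∑ c, f (A i a c) * v c) j = ∑ c, A i a c * b.repr (v c) j
    have h1 : (∑ c, f (A i a c) * v c) = ∑ c, A i a c • v c := rfl
    rw [h1, map_sum, Finsupp.finsetSum_apply]
    refine Finset.sum_congr rfl fun c _ => ?_
    rw [map_smul]
    rfl
  have hco1 : ∀ j (v : n → K), v ∈ cfix (fun i => (A i).map f) → co j v ∈ cfix A := fun j v hv i => by
    rw [← hco, hv i]
  set d := Module.finrank F (cfix A) with hd
  let e : Module.Basis (Fin d) F (cfix A) := Module.finBasis F (cfix A)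
  have hw : ∀ i : Fin d, (fun a => f (((e i : n → F) a :))) ∈ cfix (fun i => (A i).map f) := by
    intro i j
    funext a
    show ∑ c, f (A j a c) * f ((e i : n → F) c) = f ((e i : n → F) a)
    rw [← congrFun ((e i).2 j) a]
    show _ = f (∑ c, A j a c * (e i : n → F) c)
    rw [map_sum]
    exact Finset.sum_congr rfl fun c _ => (map_mul f _ _).symm
  let Φ : (Fin d → K) →ₗ[K] (cfix fun i => (A i).map f) :=
    { toFun := fun c => ∑ i, c i • ⟨_, hw i⟩
      map_add' := fun x y => by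
        rw [← Finset.sum_add_distrib]
        exact Finset.sum_congr rfl fun i _ => by rw [Pi.add_apply, add_smul]
      map_smul' := fun c x => by
        rw [RingHom.id_apply, Finset.smul_sum]
        exact Finset.sum_congr rfl fun i _ => by rw [Pi.smul_apply, smul_eq_mul, mul_smul] }
  have hΦ : ∀ c a, ((Φ c : cfix fun i => (A i).map f) : n → K) a = ∑ i, c i * f (((e i : n → F) a :)) := by
    intro c a
    show ((∑ i, c i • (⟨_, hw i⟩ : cfix fun i => (A i).map f) : cfix fun i => (A i).map f) : n → K) a = _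
    rw [Submodule.coe_sum, Finset.sum_apply]
    rfl
  have hinj : Function.Injective Φ := by
    rw [← LinearMap.ker_eq_bot, LinearMap.ker_eq_bot']
    intro c hc
    have h1 : ∀ j, ∑ i, (b.repr (c i) j) • (e i) = 0 := by
      intro j
      apply Subtype.ext
      funext a
      rw [Submodule.coe_sum, Finset.sum_apply]
      have h2 := hΦ c a
      rw [hc] at h2
      have h3 : b.repr _ j = b.repr _ j := congrArg (fun x => b.repr x j) h2
      rw [map_sum, Finsupp.finsetSum_apply] at h3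
      have h4 : ∀ i, b.repr (c i * f ((e i : n → F) a)) j = b.repr (c i) j * (e i : n → F) a := by
        intro i
        have : c i * f ((e i : n → F) a) = (e i : n → F) a • c i := by rw [hsm, mul_comm]
        rw [this, map_smul, Finsupp.smul_apply, smul_eq_mul, mul_comm]
      rw [Finset.sum_congr rfl fun i _ => h4 i] at h3
      have h5 : b.repr ((((0 : cfix fun i => (A i).map f) : n → K) a :)) j = 0 := by
        show b.repr (0 : K) j = 0
        rw [map_zero]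
        rfl
      rw [h5] at h3
      exact h3.symm
    have h6 : ∀ j i, b.repr (c i) j = 0 := fun j i =>
      Fintype.linearIndependent_iff.1 e.linearIndependent (fun i => b.repr (c i) j) (h1 j) i
    funext i
    apply b.repr.injective
    rw [Pi.zero_apply, map_zero]
    exact Finsupp.ext fun j => h6 j i
  have hsurj : Function.Surjective Φ := by
    rintro ⟨v, hv⟩
    let J : Finset (Module.Basis.ofVectorSpaceIndex F K) := Finset.univ.biUnion fun a => (b.repr (v a)).support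
    refine ⟨fun i => ∑ j ∈ J, e.repr ⟨co j v, hco1 j v hv⟩ i • b j, ?_⟩
    apply Subtype.ext
    funext a
    rw [hΦ]
    show _ = v a
    have h1 : ∀ j, ∑ i, e.repr ⟨co j v, hco1 j v hv⟩ i * (e i : n → F) a = b.repr (v a) j := by
      intro j
      have h2 : ((_ : cfix A) : n → F) a = _ :=
        congrArg (fun x : cfix A => (x : n → F) a) (e.sum_repr ⟨co j v, hco1 j v hv⟩)
      rw [Submodule.coe_sum, Finset.sum_apply] at h2
      exact h2
    have h3 : ∀ i, (∑ j ∈ J, e.repr ⟨co j v, hco1 j v hv⟩ i • b j) * f ((e i : n → F) a) =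
        ∑ j ∈ J, (e.repr ⟨co j v, hco1 j v hv⟩ i * (e i : n → F) a) • b j := by
      intro i
      rw [Finset.sum_mul]
      refine Finset.sum_congr rfl fun j _ => ?_
      rw [hsm, hsm, map_mul]
      ring
    rw [Finset.sum_congr rfl fun i _ => h3 i, Finset.sum_comm]
    have h4 : ∀ j ∈ J, ∑ i, (e.repr ⟨co j v, hco1 j v hv⟩ i * (e i : n → F) a) • b j = b.repr (v a) j • b j := by
      intro j _
      rw [← Finset.sum_smul, h1]
    rw [Finset.sum_congr rfl h4]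
    conv_rhs => rw [← b.linearCombination_repr (v a), Finsupp.linearCombination_apply]
    symm
    apply Finsupp.sum_of_support_subset
    · exact Finset.subset_biUnion_of_mem (fun a => (b.repr (v a)).support) (Finset.mem_univ a)
    · intro i _
      exact zero_smul _ _
  have E := LinearEquiv.ofBijective Φ ⟨hinj, hsurj⟩
  rw [← E.finrank_eq, Module.finrank_fin_fun]

end Fix

/-! ### `GT k` is `E₈(3)` -/

section Grp

variable (k : Type) [Field k] [CharP k 3]

/-- the embedding of the prime field -/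
noncomputable def f3 : ZMod 3 →+* k := ZMod.castHom (dvd_refl 3) k

/-- the embedding of `E₈(3)` -/
noncomputable def e3 : G3 →* ↥(chevE8.group k) := emb tp8.inList (f3 k)

theorem e3_injective : Function.Injective (e3 k) := emb_injective tp8.inList (f3 k)

theorem coe_e3 (x : G3) : ((e3 k x : GL chevE8.Idx k) : Matrix chevE8.Idx chevE8.Idx k) =
    ((x : GL chevE8.Idx (ZMod 3)) : Matrix chevE8.Idx chevE8.Idx (ZMod 3)).map (f3 k) := by
  rw [e3, coe_emb, coe_glMap]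

/-- the embedding of the vectors -/
noncomputable def ve (v : chevE8.Idx → ZMod 3) : chevE8.Idx → k := fun a => f3 k (v a)

theorem ve_injective : Function.Injective (ve k) := fun _ _ h =>
  funext fun a => (f3 k).injective (congrFun h a)

theorem ac_e3 (x : G3) (v : chevE8.Idx → ZMod 3) : ac (e3 k x) (ve k v) = ve k (ac x v) := by
  funext a
  show Matrix.mulVec ((e3 k x : GL chevE8.Idx k) : Matrix chevE8.Idx chevE8.Idx k) (ve k v) a = _
  rw [coe_e3]
  show ∑ c : chevE8.Idx, f3 k (((x : GL chevE8.Idx (ZMod 3)) : Matrix chevE8.Idx chevE8.Idx (ZMod 3)) a c) * f3 k (v c) =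
    f3 k (∑ c : chevE8.Idx, ((x : GL chevE8.Idx (ZMod 3)) : Matrix chevE8.Idx chevE8.Idx (ZMod 3)) a c * v c)
  rw [map_sum]
  exact Finset.sum_congr rfl fun c _ => (map_mul _ _ _).symm

theorem ve_neg (v : chevE8.Idx → ZMod 3) : ve k (-v) = -ve k v := funext fun a => map_neg (f3 k) (v a)

theorem ve_zero : ve k 0 = 0 := funext fun _ => map_zero (f3 k)

variable [IsAlgClosed k] [PerfectRing k 3]

/-- **`GT k` is conjugate to `E₈(3)`** -/
theorem exists_conj : ∃ z : ↥(chevE8.group k), (∀ x : G3, z⁻¹ * e3 k x * z ∈ GT k) ∧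
    ∀ y ∈ GT k, ∃ x : G3, y = z⁻¹ * e3 k x * z := by
  obtain ⟨z, hz⟩ := lang' tp8 3 one_pos (n0 k)
  have hz' : phi chevE8 k 3 1 z = z * n0 k := by rw [← hz]; group
  have hcard : Nat.card (ZMod 3) = 3 ^ 1 := by simp
  refine ⟨z, fun x => ?_, fun y hy => ?_⟩
  · show tau chevE8 k 3 1 (n0 k) (z⁻¹ * e3 k x * z) = z⁻¹ * e3 k x * z
    have h2 : phi chevE8 k 3 1 (e3 k x) = e3 k x := phi_emb' tp8 (f3 k) 3 hcard x
    rw [tau_apply, map_mul, map_mul, map_inv, hz', h2]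
    group
  · obtain ⟨x, hx⟩ := fix_mem tp8 (f3 k) 3 hcard invC_E8 (fix_of_tau 3 hz hy)
    have hx' : e3 k x = z * y * z⁻¹ := hx
    exact ⟨x, by rw [hx']; group⟩

/-- **`GT k` is isomorphic to `E₈(3)`** -/
theorem equiv_GT : Nonempty (G3 ≃* ↥(GT k)) := by
  obtain ⟨z, h1, h2⟩ := exists_conj k
  let φ : G3 →* ↥(GT k) := ((MulAut.conj z⁻¹).toMonoidHom.comp (e3 k)).codRestrict (GT k) fun x => by
    have := h1 x
    show z⁻¹ * e3 k x * z⁻¹⁻¹ ∈ GT k
    rwa [inv_inv]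
  refine ⟨MulEquiv.ofBijective φ ⟨fun a b hab => ?_, fun y => ?_⟩⟩
  · exact e3_injective k ((MulAut.conj z⁻¹).injective (congrArg Subtype.val hab))
  · obtain ⟨x, hx⟩ := h2 y.1 y.2
    refine ⟨x, Subtype.ext ?_⟩
    rw [hx]
    show z⁻¹ * e3 k x * z⁻¹⁻¹ = _
    rw [inv_inv]

variable {k}

/-- the homomorphism into the conjugate -/
noncomputable def cj (z : ↥(chevE8.group k)) (h : SL35 →* G3) : SL35 →* ↥(chevE8.group k) :=
  (MulAut.conj z⁻¹).toMonoidHom.comp ((e3 k).comp h)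

theorem cj_apply (z : ↥(chevE8.group k)) (h : SL35 →* G3) (s : SL35) : cj z h s = z⁻¹ * e3 k (h s) * z := by
  show z⁻¹ * e3 k (h s) * z⁻¹⁻¹ = _
  rw [inv_inv]

theorem ac_inv_ac (z : ↥(chevE8.group k)) (v : chevE8.Idx → k) : ac z⁻¹ (ac z v) = v := by
  rw [← ac_mul, inv_mul_cancel, ac_one]

theorem ac_ac_inv (z : ↥(chevE8.group k)) (v : chevE8.Idx → k) : ac z (ac z⁻¹ v) = v := by
  rw [← ac_mul, mul_inv_cancel, ac_one]

theorem mem_Fx_cj {z : ↥(chevE8.group k)} {h : SL35 →* G3} {S : Set SL35} {v : chevE8.Idx → k} :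
    v ∈ Fx (cj z h '' S) ↔ ∀ s ∈ S, ac (e3 k (h s)) (ac z v) = ac z v := by
  rw [mem_Fx]
  constructor
  · intro h1 s hs
    have h2 := h1 _ ⟨s, hs, rfl⟩
    rw [cj_apply, ac_mul, ac_mul] at h2
    have h3 := congrArg (ac z) h2
    rwa [ac_ac_inv] at h3
  · rintro h1 _ ⟨s, hs, rfl⟩
    rw [cj_apply, ac_mul, ac_mul, h1 s hs, ac_inv_ac]

theorem finrank_Fx_cj (z : ↥(chevE8.group k)) (h : SL35 →* G3) (S : Set SL35) :
    Module.finrank k (Fx (cj z h '' S)) = Module.finrank (ZMod 3) (Fx (h '' S)) := by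
  have h1 := finrank_fix (f3 k)
    (fun s : S => ((h s.1 : GL chevE8.Idx (ZMod 3)) : Matrix chevE8.Idx chevE8.Idx (ZMod 3)))
  have h2 : cfix (fun s : S => ((h s.1 : GL chevE8.Idx (ZMod 3)) : Matrix chevE8.Idx chevE8.Idx (ZMod 3))) =
      Fx (h '' S) := by
    ext v
    rw [mem_cfix, mem_Fx]
    constructor
    · rintro h3 _ ⟨s, hs, rfl⟩
      exact h3 ⟨s, hs⟩
    · intro h3 s
      exact h3 _ ⟨s.1, s.2, rfl⟩
  rw [← h2, ← h1]
  let A : (chevE8.Idx → k) ≃ₗ[k] (chevE8.Idx → k) := LinearEquiv.ofLinearMap (ac z) (ac z⁻¹)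
    (LinearMap.ext fun v => ac_ac_inv z v) (LinearMap.ext fun v => ac_inv_ac z v)
  rw [← LinearEquiv.finrank_map_eq A]
  have h3 : (Fx (cj z h '' S)).map (A : (chevE8.Idx → k) →ₗ[k] (chevE8.Idx → k)) =
      cfix (fun s : S => ((h s.1 : GL chevE8.Idx (ZMod 3)) : Matrix chevE8.Idx chevE8.Idx (ZMod 3)).map (f3 k)) := by
    ext v
    rw [Submodule.mem_map, mem_cfix]
    constructor
    · rintro ⟨w, hw, rfl⟩ s
      have h4 := mem_Fx_cj.1 hw s.1 s.2
      rw [← coe_e3]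
      exact h4
    · intro h4
      refine ⟨ac z⁻¹ v, mem_Fx_cj.2 fun s hs => ?_, ac_ac_inv z v⟩
      rw [ac_ac_inv]
      have h5 := h4 ⟨s, hs⟩
      rw [← coe_e3] at h5
      exact h5
  rw [h3]

theorem mem_Fx_ve {z : ↥(chevE8.group k)} {h : SL35 →* G3} {S : Set SL35} {v : chevE8.Idx → ZMod 3}
    (hv : v ∈ Fx (h '' S)) : ac z⁻¹ (ve k v) ∈ Fx (cj z h '' S) := by
  rw [mem_Fx_cj]
  intro s hs
  rw [ac_ac_inv, ac_e3, (mem_Fx.1 hv) _ ⟨s, hs, rfl⟩]

/-- **Good homomorphisms come from good homomorphisms** -/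
theorem back {z : ↥(chevE8.group k)} (hz : ∀ x : G3, z⁻¹ * e3 k x * z ∈ GT k) {h : SL35 →* G3}
    (hg : GoodIn (GT k) (cj z h)) : GoodIn ⊤ h where
  dim := by rw [← finrank_Fx_cj z h VP, hg.dim]
  zz v hv := by
    have h1 := hg.zz _ (mem_Fx_ve (z := z) hv)
    rw [cj_apply, ac_mul, ac_mul, ac_mul, ac_mul, ac_ac_inv, ac_ac_inv, ac_e3, ac_e3, ← map_neg] at h1
    have h2 := congrArg (ac z) h1
    rw [ac_ac_inv, ac_ac_inv, ← ve_neg] at h2
    exact ve_injective k h2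
  fixS v hv := by
    have h1 := hg.fixS _ (mem_Fx_ve (z := z) hv)
    have h2 := congrArg (ac z) h1
    rw [ac_ac_inv, map_zero, ← ve_zero k] at h2
    exact ve_injective k h2
  centS g _ hc := by
    obtain ⟨s, hs, h1⟩ := hg.centS _ (hz g) fun s hs => by
      rw [cj_apply]
      have h2 : e3 k g * e3 k (h s) = e3 k (h s) * e3 k g := by rw [← map_mul, hc s hs, map_mul]
      calc z⁻¹ * e3 k g * z * (z⁻¹ * e3 k (h s) * z) = z⁻¹ * (e3 k g * e3 k (h s)) * z := by group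
        _ = z⁻¹ * (e3 k (h s) * e3 k g) * z := by rw [h2]
        _ = _ := by group
    refine ⟨s, hs, e3_injective k ?_⟩
    rw [cj_apply] at h1
    exact mul_left_cancel (mul_right_cancel h1)
  centV g _ g' _ hc hc' := by
    have key : ∀ g : G3, (∀ s ∈ VP, g * h s = h s * g) → ∀ s ∈ VP,
        z⁻¹ * e3 k g * z * cj z h s = cj z h s * (z⁻¹ * e3 k g * z) := by
      intro g hc s hs
      rw [cj_apply]
      have h2 : e3 k g * e3 k (h s) = e3 k (h s) * e3 k g := by rw [← map_mul, hc s hs, map_mul]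
      calc z⁻¹ * e3 k g * z * (z⁻¹ * e3 k (h s) * z) = z⁻¹ * (e3 k g * e3 k (h s)) * z := by group
        _ = z⁻¹ * (e3 k (h s) * e3 k g) * z := by rw [h2]
        _ = _ := by group
    have h1 := hg.centV _ (hz g) _ (hz g') (key g hc) (key g' hc')
    apply e3_injective k
    rw [map_mul, map_mul]
    have h2 : z⁻¹ * (e3 k g * e3 k g') * z = z⁻¹ * (e3 k g' * e3 k g) * z := by
      calc z⁻¹ * (e3 k g * e3 k g') * z = z⁻¹ * e3 k g * z * (z⁻¹ * e3 k g' * z) := by group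
        _ = z⁻¹ * e3 k g' * z * (z⁻¹ * e3 k g * z) := h1
        _ = _ := by group
    exact mul_left_cancel (mul_right_cancel h2)

end Grp

/-- **A8, the isomorphism** -/
theorem exists_equiv : ∃ (k : Type) (_ : Field k) (_ : CharP k 3) (_ : IsAlgClosed k) (_ : PerfectRing k 3)
    (_ : LocFin k), Nonempty (G3 ≃* ↥(GT k)) := by
  have hk : LocFin (AlgebraicClosure (ZMod 3)) := locFin_of_isAlgebraic 3 _
  have h1 : CharP (AlgebraicClosure (ZMod 3)) 3 := charP_of_injective_algebraMap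
    (algebraMap (ZMod 3) (AlgebraicClosure (ZMod 3))).injective 3
  have h2 : PerfectRing (AlgebraicClosure (ZMod 3)) 3 := PerfectField.toPerfectRing 3
  exact ⟨AlgebraicClosure (ZMod 3), inferInstance, h1, inferInstance, h2, hk, equiv_GT _⟩

/-- **A8 : transport** -/
theorem transport
    (key : ∀ (k : Type) [Field k] [CharP k 3] [IsAlgClosed k] [PerfectRing k 3] (_ : LocFin k)
      (f : SL35 →* ↥(chevE8.group k)), Function.Injective f → (∀ x, f x ∈ GT k) →
      GoodIn (GT k) f ∨ GoodIn (GT k) (f.comp io.toMonoidHom))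
    (f : SL35 →* G3) (hf : Function.Injective f) : GoodIn ⊤ f ∨ GoodIn ⊤ (f.comp io.toMonoidHom) := by
  obtain ⟨k, _, _, _, _, hk, -⟩ := exists_equiv
  obtain ⟨z, hz, -⟩ := exists_conj k
  rcases key k hk (cj z f) (fun a b hab => hf (e3_injective k ((MulAut.conj z⁻¹).injective hab)))
    (fun x => by rw [cj_apply]; exact hz _) with h | h
  · exact Or.inl (back hz h)
  · exact Or.inr (back hz (h := f.comp io.toMonoidHom) h)

end Cfsg.Agent.H887.L5
end

-- part: H865/L5/Iso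
section
/-!
# `T5` is the dual of `F₅⁴`, the order of `GT k` (helper865, S5923, pieces A1, A2, A5, A7)
-/

set_option autoImplicit false
set_option linter.unusedSectionVars false

namespace Cfsg.Agent.H865.L5

open CoxeterSystem Subgroup Cfsg Cfsg.Lie Cfsg.Lie.ChevalleyDatum
open Cfsg.Agent.ChevalleyStructure Cfsg.Agent.ChevalleyStructure.Elts Cfsg.Agent.ChevalleyStructure.CoxeterGeom
  Cfsg.Agent.ChevalleyStructure.CoxeterGeomTypes Cfsg.Agent.ChevalleyStructure.NPerm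
open Cfsg.Agent.Tits.Roots Cfsg.Agent.Tits.Core Cfsg.Agent.Nodes Cfsg.Agent.Nodes.SubComb Cfsg.Agent.Nodes.Reps
  Cfsg.Agent.Nodes.BNOf Cfsg.Agent.Nodes.RGDChev Cfsg.Agent.Nodes.Bruhat Cfsg.Agent.Nodes.Coroot
open Cfsg.Agent.KFacts.RgdField Cfsg.Agent.KFacts.RgdChevCoord Cfsg.Agent.BpExc.TorCent Cfsg.Agent.BpExc.TorChev
open Cfsg.Agent.GpExc.Field Cfsg.Agent.BpExc.Tow Cfsg.Agent.BpExc.TowChev Cfsg.Agent.BpExc.Fr
  Cfsg.Agent.BpExc.LangFr Cfsg.Agent.BpExc.FamField Cfsg.Agent.BpExc.FamInst Cfsg.Agent.H129.TorusChar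
  Cfsg.Agent.H795.LangT Cfsg.Agent.BpExc.FamExt Cfsg.Agent.BpExc.FamUntw Cfsg.Agent.H378.TorDual Cfsg.Agent.H378.TorChar
  Cfsg.Agent.H378.TorFin Cfsg.Agent.H378.RankOne Cfsg.Agent.H378.RootTor Cfsg.Agent.H865.EE

attribute [local irreducible] w8

theorem exists_zeta3 (k : Type) [Field k] [CharP k 3] [IsAlgClosed k] : ∃ ζ : k, IsPrimitiveRoot ζ 5 := by
  have : NeZero ((5 : ℕ) : k) := ⟨by
    intro h
    rw [CharP.cast_eq_zero_iff k 3] at h
    omega⟩
  obtain ⟨ζ, hζ⟩ := IsAlgClosed.exists_root (Polynomial.cyclotomic 5 k) (by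
    rw [Polynomial.degree_cyclotomic]
    exact_mod_cast (Nat.totient_pos.2 (by norm_num)).ne')
  exact ⟨ζ, (Polynomial.isRoot_cyclotomic_iff).1 hζ⟩

section A

variable {k : Type} [Field k] [CharP k 3] [IsAlgClosed k] [PerfectRing k 3]

/-- A1 -/
theorem mem_T5 (hk : LocFin k) {t : ↥(chevE8.group k)} :
    t ∈ T5 k ↔ t ∈ TT chevE8 k ∧ ∀ x, cX tp8 t (_root_.Cfsg.Agent.H865.EE.act w8 x) = cX tp8 t x ^ 2 :=
  ⟨fun h => ⟨h.1.1, fun x => Cfsg.Agent.H602.L5.T5_w8 hk h x⟩, fun h => Cfsg.Agent.H241.L5.mem_T5_of hk h.1 h.2⟩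

theorem cX_T5_eq_of_PP (hk : LocFin k) {t : ↥(chevE8.group k)} (ht : t ∈ T5 k) {x y : Fin 8 → ℤ} (h : _root_.Cfsg.Agent.H865.EE.PP x = _root_.Cfsg.Agent.H865.EE.PP y) :
    cX tp8 t x = cX tp8 t y := by
  obtain ⟨z, hz⟩ := PP_eq_iff.1 h
  obtain ⟨hT, h1⟩ := (mem_T5 hk).1 ht
  have hm := isMC_cX tp8 hT
  have h2 : x = y + (_root_.Cfsg.Agent.H865.EE.act w8 z - 2 • z) := by rw [← hz]; abel
  rw [h2, hm.add, sub_eq_add_neg, hm.add, hm.neg, hm.nsmul, h1, mul_inv_cancel₀ (pow_ne_zero _ (hm.ne_zero z)), mul_one]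

theorem zvadd {ζ : k} (hζ : IsPrimitiveRoot ζ 5) (a b : ZMod 5) : ζ ^ (a + b).val = ζ ^ a.val * ζ ^ b.val := by
  rw [← pow_add]
  exact pow_eq_pow_of_modEq (by rw [ZMod.val_add]; exact Nat.mod_modEq _ _) hζ.pow_eq_one

theorem zvinj {ζ : k} (hζ : IsPrimitiveRoot ζ 5) {a b : ZMod 5} (h : ζ ^ a.val = ζ ^ b.val) : a = b :=
  ZMod.val_injective 5 (hζ.pow_inj (ZMod.val_lt a) (ZMod.val_lt b) h)

theorem exists_T5 (hk : LocFin k) {ζ : k} (hζ : IsPrimitiveRoot ζ 5) (φ : (Fin 4 → ZMod 5) →+ ZMod 5) :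
    ∃ t ∈ T5 k, ∀ x, cX tp8 t x = ζ ^ (φ (_root_.Cfsg.Agent.H865.EE.PP x)).val := by
  have hmc : IsMC (fun x : Fin 8 → ℤ => ζ ^ (φ (_root_.Cfsg.Agent.H865.EE.PP x)).val) :=
    { zero := by
        show ζ ^ (φ (_root_.Cfsg.Agent.H865.EE.PP 0)).val = 1
        rw [map_zero, map_zero, ZMod.val_zero, pow_zero]
      add := fun x y => by
        show ζ ^ (φ (_root_.Cfsg.Agent.H865.EE.PP (x + y))).val = _
        rw [map_add, map_add, zvadd hζ] }
  obtain ⟨t, ht, h⟩ := exists_cX tp8 invC_E8 one_ne_zero hmc fun i => ⟨_, pow_one _⟩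
  refine ⟨t, (mem_T5 hk).2 ⟨ht, fun x => ?_⟩, h⟩
  rw [h, h, PP_w8, map_nsmul, two_nsmul, zvadd hζ, sq]

/-- A2 : the dual space is `T5` -/
theorem exists_iso3 (hk : LocFin k) {ζ : k} (hζ : IsPrimitiveRoot ζ 5) :
    ∃ e : Module.Dual (ZMod 5) (Fin 4 → ZMod 5) → ↥(chevE8.group k), Function.Injective e ∧ Set.range e = T5 k ∧
      (∀ φ ψ, e (φ + ψ) = e φ * e ψ) ∧ ∀ φ x, cX tp8 (e φ) x = ζ ^ (φ (_root_.Cfsg.Agent.H865.EE.PP x)).val := by
  have h1 : ∀ φ : Module.Dual (ZMod 5) (Fin 4 → ZMod 5), ∃ t ∈ T5 k, ∀ x, cX tp8 t x = ζ ^ (φ (_root_.Cfsg.Agent.H865.EE.PP x)).val :=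
    fun φ => exists_T5 hk hζ φ.toAddMonoidHom
  choose f hf hc using h1
  have hinj : ∀ {s t : ↥(chevE8.group k)}, s ∈ TT chevE8 k → t ∈ TT chevE8 k → (∀ x, cX tp8 s x = cX tp8 t x) → s = t :=
    fun hs ht h => cX_inj tp8 hs ht fun i => h _
  refine ⟨f, fun φ ψ h => ?_, ?_, fun φ ψ => ?_, hc⟩
  · have h2 : ∀ c, φ c = ψ c := fun c => by
      obtain ⟨x, rfl⟩ := PP_surj c
      apply zvinj hζ
      rw [← hc, ← hc, h]
    exact LinearMap.ext h2
  · apply Set.Subset.antisymm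
    · rintro _ ⟨φ, rfl⟩
      exact hf φ
    · intro t ht
      have h1 : ∀ x, ∃ a : ZMod 5, cX tp8 t x = ζ ^ a.val := fun x => by
        obtain ⟨i, hi, h⟩ := hζ.eq_pow_of_pow_eq_one (Cfsg.Agent.H602.L5.cX_T5_pow hk ht x)
        refine ⟨(i : ZMod 5), ?_⟩
        rw [ZMod.val_natCast, Nat.mod_eq_of_lt hi, h]
      choose g hg using h1
      have hgP : ∀ x y : Fin 8 → ℤ, _root_.Cfsg.Agent.H865.EE.PP x = _root_.Cfsg.Agent.H865.EE.PP y → g x = g y := fun x y h => by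
        apply zvinj hζ
        rw [← hg, ← hg, cX_T5_eq_of_PP hk ht h]
      have hm := isMC_cX tp8 ht.1.1
      have hga : ∀ x y : Fin 8 → ℤ, g (x + y) = g x + g y := fun x y => by
        apply zvinj hζ
        rw [← hg, hm.add, hg, hg, zvadd hζ]
      choose s hs using PP_surj
      let φ0 : (Fin 4 → ZMod 5) →+ ZMod 5 := AddMonoidHom.mk' (fun c => g (s c)) (fun a b => by
        rw [← hga]
        exact hgP _ _ (by rw [hs, map_add, hs, hs]))
      have hφ : ∀ x, φ0 (_root_.Cfsg.Agent.H865.EE.PP x) = g x := fun x => hgP _ _ (hs _)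
      refine ⟨φ0.toZModLinearMap 5, hinj (hf _).1.1 ht.1.1 fun x => ?_⟩
      rw [hc, AddMonoidHom.coe_toZModLinearMap, hφ, hg]
  · refine hinj (hf _).1.1 (mul_mem (hf _).1.1 (hf _).1.1) fun x => ?_
    rw [cX_mul tp8 (hf _).1.1 (hf _).1.1, hc, hc, hc, LinearMap.add_apply, zvadd hζ]

theorem card_T5 (hk : LocFin k) : Nat.card ↥(T5 k) = 625 := by
  obtain ⟨ζ, hζ⟩ := exists_zeta3 k
  obtain ⟨e, hi, he, -, -⟩ := exists_iso3 hk hζ
  rw [← he, Nat.card_congr (Equiv.ofInjective e hi).symm, Module.natCard_eq_pow_finrank (K := ZMod 5),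
    Subspace.dual_finrank_eq, Module.finrank_fin_fun, Nat.card_eq_fintype_card, ZMod.card]
  norm_num

/-- A5 -/
theorem norm_T5 (hk : LocFin k) {y : ↥(chevE8.group k)} (hy : y ∈ GT k) (h : ∀ t ∈ T5 k, y * t * y⁻¹ ∈ T5 k) :
    ∃ v ∈ CW, Rp cs8 (nsysL tp8 cs8 hk 3) v y := by
  obtain ⟨ζ, hζ⟩ := exists_zeta3 k
  obtain ⟨e, -, he, -, hch⟩ := exists_iso3 hk hζ
  exact norm_T5_of hk hζ he hch hy h

theorem cw_of_rp (hk : LocFin k) {y : ↥(chevE8.group k)} (hy : y ∈ GT k) {w : W8}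
    (h : Rp cs8 (nsysL tp8 cs8 hk 3) w y) : w ∈ CW := Cfsg.Agent.H602.L5.cw_of_rp hk hy h

/-- A7 -/
theorem finite_GT : Finite ↥(GT k) := by
  obtain ⟨e⟩ := Cfsg.Agent.H887.L5.equiv_GT k
  exact Finite.of_equiv G3 e.toEquiv

theorem not_dvd_GT : ¬ 5 ^ 6 ∣ Nat.card ↥(GT k) := by
  obtain ⟨e⟩ := Cfsg.Agent.H887.L5.equiv_GT k
  rw [← Nat.card_congr e.toEquiv, Cfsg.Agent.S1065.result (F := ZMod 3) (ZMod.card 3)]
  norm_num

end A

end Cfsg.Agent.H865.L5
end

-- part: H559/L5/FiveReg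
section
/-!
# S5923 / S5924, B4 (helper559): the pointwise stabiliser of a regular set of characters mod 5 is a 5-group
-/

set_option autoImplicit false
set_option linter.unusedSectionVars false

namespace Cfsg.Agent.H559.L5

open CoxeterSystem Subgroup Cfsg Cfsg.Lie Cfsg.Lie.ChevalleyDatum
open Cfsg.Agent.ChevalleyStructure Cfsg.Agent.ChevalleyStructure.Elts Cfsg.Agent.ChevalleyStructure.CoxeterGeom
  Cfsg.Agent.ChevalleyStructure.CoxeterGeomTypes Cfsg.Agent.ChevalleyStructure.NPerm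
open Cfsg.Agent.Tits.Roots Cfsg.Agent.Tits.Core Cfsg.Agent.Nodes Cfsg.Agent.Nodes.SubComb Cfsg.Agent.Nodes.Reps
  Cfsg.Agent.Nodes.BNOf Cfsg.Agent.Nodes.RGDChev Cfsg.Agent.Nodes.Bruhat Cfsg.Agent.Nodes.Coroot
open Cfsg.Agent.KFacts.RgdField Cfsg.Agent.KFacts.RgdChevCoord Cfsg.Agent.BpExc.TorCent Cfsg.Agent.BpExc.TorChev
open Cfsg.Agent.GpExc.Field Cfsg.Agent.BpExc.Tow Cfsg.Agent.BpExc.TowChev Cfsg.Agent.BpExc.Fr
  Cfsg.Agent.BpExc.LangFr Cfsg.Agent.BpExc.FamField Cfsg.Agent.BpExc.FamInst Cfsg.Agent.H129.TorusChar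
  Cfsg.Agent.H795.LangT Cfsg.Agent.BpExc.FamExt Cfsg.Agent.BpExc.FamUntw Cfsg.Agent.H378.TorDual Cfsg.Agent.H378.TorChar
  Cfsg.Agent.H378.TorFin Cfsg.Agent.H378.RankOne Cfsg.Agent.H378.RootTor Cfsg.Agent.H865.EE Cfsg.Agent.H865.L5

attribute [local irreducible] w8

/-- B4 : the pointwise stabiliser of a regular subset is a 5-group -/
theorem five_of_reg {Φ : Set (Module.Dual (ZMod 5) (Fin 4 → ZMod 5))} (hr : ∀ a, Rt a → ∃ φ ∈ Φ, φ (_root_.Cfsg.Agent.H865.EE.PP a) ≠ 0)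
    {w : W8} (hw : ∀ φ ∈ Φ, ∀ x, φ (_root_.Cfsg.Agent.H865.EE.PP (_root_.Cfsg.Agent.H865.EE.act w x)) = φ (_root_.Cfsg.Agent.H865.EE.PP x)) : ∃ n : ℕ, w ^ 5 ^ n = 1 := by
  have hp : Nat.Prime 5 := by norm_num
  have hpos := orderOf_pos w
  obtain ⟨n, m, hm, ho⟩ := Nat.exists_eq_pow_mul_and_not_dvd hpos.ne' 5 (by norm_num)
  refine ⟨n, ?_⟩
  by_contra hv
  have hm0 : 0 < m := Nat.pos_of_ne_zero (by rintro rfl; exact hm (dvd_zero 5))
  have hl : (w ^ 5 ^ n) ^ m = 1 := by rw [← pow_mul, ← ho, pow_orderOf_eq_one]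
  obtain ⟨a, ha, hsum⟩ := Cfsg.Agent.BpExc.Fix.exists_root_sum_eq_zero (cs := cs8) (h := tp8.isCartan) hv hm0 hl
  obtain ⟨φ, hφ, hne⟩ := hr a ha
  -- the powers of `w`
  have hpow : ∀ k : ℕ, ∀ x, φ (_root_.Cfsg.Agent.H865.EE.PP (_root_.Cfsg.Agent.H865.EE.act (w ^ k) x)) = φ (_root_.Cfsg.Agent.H865.EE.PP x) := by
    intro k
    induction k with
    | zero => intro x; rw [pow_zero, act_one]
    | succ k ih => intro x; rw [pow_succ, act_mul, ih, hw φ hφ]
  apply hne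
  have h1 : φ (_root_.Cfsg.Agent.H865.EE.PP (∑ i ∈ Finset.range m, _root_.Cfsg.Agent.H865.EE.act ((w ^ 5 ^ n) ^ i) a)) = (m : ZMod 5) * φ (_root_.Cfsg.Agent.H865.EE.PP a) := by
    rw [map_sum, map_sum, Finset.sum_congr rfl (fun i _ => by rw [← pow_mul, hpow] :
      ∀ i ∈ Finset.range m, φ (_root_.Cfsg.Agent.H865.EE.PP (_root_.Cfsg.Agent.H865.EE.act ((w ^ 5 ^ n) ^ i) a)) = φ (_root_.Cfsg.Agent.H865.EE.PP a)), Finset.sum_const, Finset.card_range, nsmul_eq_mul]
  have h2 : (m : ZMod 5) * φ (_root_.Cfsg.Agent.H865.EE.PP a) = 0 := by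
    rw [← h1]
    have h3 : ∑ i ∈ Finset.range m, _root_.Cfsg.Agent.H865.EE.act ((w ^ 5 ^ n) ^ i) a = 0 := hsum
    rw [h3, map_zero, map_zero]
  have hm5 : (m : ZMod 5) ≠ 0 := by
    rw [Ne, ZMod.natCast_eq_zero_iff]
    exact hm
  exact (mul_eq_zero.1 h2).resolve_left hm5

end Cfsg.Agent.H559.L5
end

-- part: H342/L5/FixVec
section
/-!
# Fixed vectors (S5923 / S5924, piece C, helper342)
-/

set_option autoImplicit false
set_option linter.unusedSectionVars false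

namespace Cfsg.Agent.H342.L5

open CoxeterSystem Subgroup Cfsg Cfsg.Lie Cfsg.Lie.ChevalleyDatum
open Cfsg.Agent.ChevalleyStructure Cfsg.Agent.ChevalleyStructure.Elts Cfsg.Agent.ChevalleyStructure.CoxeterGeom
  Cfsg.Agent.ChevalleyStructure.CoxeterGeomTypes Cfsg.Agent.ChevalleyStructure.NPerm
open Cfsg.Agent.Tits.Roots Cfsg.Agent.Tits.Core Cfsg.Agent.Nodes Cfsg.Agent.Nodes.SubComb Cfsg.Agent.Nodes.Reps
  Cfsg.Agent.Nodes.BNOf Cfsg.Agent.Nodes.RGDChev Cfsg.Agent.Nodes.Bruhat Cfsg.Agent.Nodes.Coroot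
open Cfsg.Agent.KFacts.RgdField Cfsg.Agent.KFacts.RgdChevCoord Cfsg.Agent.BpExc.TorCent Cfsg.Agent.BpExc.TorChev
open Cfsg.Agent.GpExc.Field Cfsg.Agent.BpExc.Tow Cfsg.Agent.BpExc.TowChev Cfsg.Agent.BpExc.Fr
  Cfsg.Agent.BpExc.LangFr Cfsg.Agent.BpExc.FamField Cfsg.Agent.BpExc.FamInst Cfsg.Agent.H129.TorusChar
  Cfsg.Agent.H795.LangT Cfsg.Agent.BpExc.FamExt Cfsg.Agent.BpExc.FamUntw Cfsg.Agent.H378.TorDual Cfsg.Agent.H378.TorChar
  Cfsg.Agent.H378.TorFin Cfsg.Agent.H378.RankOne Cfsg.Agent.H378.RootTor Cfsg.Agent.H865.EE Cfsg.Agent.H865.L5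

attribute [local irreducible] w8

section C
variable {k : Type} [Field k] [CharP k 3] [IsAlgClosed k] [PerfectRing k 3] (hk : LocFin k)

/-- the action of a torus element -/
theorem ac_TT {t : ↥(chevE8.group k)} (ht : t ∈ TT chevE8 k) (v : chevE8.Idx → k) :
    ac t v = fun i => (Sum.elim (fun _ => (1 : k)) (fun s : Fin chevE8.nroots => cX tp8 t (vec chevE8 8 s)) i) * v i := by
  funext i
  show Matrix.mulVec ((t : GL chevE8.Idx k) : Matrix chevE8.Idx chevE8.Idx k) v i = _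
  rw [H83.RootCount.coe_eq_diagonal tp8 ht, Matrix.mulVec_diagonal]

/-- C1 -/
theorem mem_Fx_reg {S : Set ↥(chevE8.group k)} (hS : S ⊆ TT chevE8 k) (hr : Reg S) {v : chevE8.Idx → k} :
    v ∈ Fx S ↔ ∀ r, v (Sum.inr r) = 0 := by
  rw [mem_Fx]
  constructor
  · intro h r
    obtain ⟨t, ht, hne⟩ := hr _ (isRoot_vec tp8 cs8 r.2)
    have h1 := congrFun (h t ht) (Sum.inr r)
    rw [ac_TT (hS ht)] at h1
    simp only [Sum.elim_inr] at h1
    have h2 : (cX tp8 t (vec chevE8 8 r) - 1) * v (Sum.inr r) = 0 := by rw [sub_mul, one_mul, h1, sub_self]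
    exact (mul_eq_zero.1 h2).resolve_left (sub_ne_zero.2 hne)
  · intro h t ht
    rw [ac_TT (hS ht)]
    funext i
    rcases i with i | r
    · rw [Sum.elim_inl, one_mul]
    · rw [h r, mul_zero]

/-- the Cartan matrix -/
theorem cartan_simple : ∀ i j : Fin 8, chevE8.cartan j (chevE8.simple i) = C8 i j := by decide +kernel

theorem coe_nc (i : Fin 8) :
    ((nc tp8 k i : GL chevE8.Idx k) : Matrix chevE8.Idx chevE8.Idx k) = chevE8.nMat k (chevE8.simple i) 1 :=
  coe_nG tp8.inList _ _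

theorem facts8 (i : Fin 8) : NSimple.Facts chevE8 i :=
  NSimpleAll.facts (by simp) i.2

/-- the entries of the simple reflections -/
theorem act_simple_sr (i j i' : Fin 8) :
    _root_.Cfsg.Agent.H865.EE.act (cs8.simple i) (sr j) i' = (if i' = j then 1 else 0) - (if i' = i then C8 i j else 0) := by
  rw [act_simple]
  show (if i' = i then (sr j : Fin 8 → ℤ) i - ∑ k, C8 i k * (sr j : Fin 8 → ℤ) k else (sr j : Fin 8 → ℤ) i') = _
  have h1 : ∑ k, C8 i k * (sr j : Fin 8 → ℤ) k = C8 i j := by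
    simp [sr, Pi.single_apply]
  have h2 : ∀ m, (sr j : Fin 8 → ℤ) m = if m = j then 1 else 0 := fun m => by
    simp [sr, Pi.single_apply]
  rw [h1, h2, h2]
  by_cases h : i' = i
  · subst h
    simp
  · simp [h]

/-- the vector of the Cartan part with given coordinates -/
def cv (c : Fin 8 → k) : chevE8.Idx → k := Sum.elim c 0

theorem cv_inr (c : Fin 8 → k) (r : Fin chevE8.nroots) : cv c (Sum.inr r) = 0 := rfl

theorem cv_ext {v : chevE8.Idx → k} {c : Fin 8 → k} (h1 : ∀ i : Fin 8, v (Sum.inl i) = c i)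
    (h2 : ∀ r : Fin chevE8.nroots, v (Sum.inr r) = 0) : v = cv c := by
  funext row
  rcases row with i | r
  · exact h1 i
  · exact h2 r

theorem ac_nc_apply (i : Fin 8) (v : chevE8.Idx → k) (row : chevE8.Idx) : ac (nc tp8 k i) v row =
    (∑ j : Fin chevE8.rank, chevE8.nMat k (chevE8.simple i) 1 row (Sum.inl j) * v (Sum.inl j)) +
      ∑ r : Fin chevE8.nroots, chevE8.nMat k (chevE8.simple i) 1 row (Sum.inr r) * v (Sum.inr r) := by
  show Matrix.mulVec ((nc tp8 k i : GL chevE8.Idx k) : Matrix chevE8.Idx chevE8.Idx k) v row = _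
  rw [coe_nc, Matrix.mulVec, dotProduct, Fintype.sum_sum_type]

/-- the action of the generators `n_i` on the Cartan part -/
theorem ac_nc (i : Fin 8) (c : Fin 8 → k) : ac (nc tp8 k i) (cv c) =
    cv (fun i' => ∑ j, ((_root_.Cfsg.Agent.H865.EE.act (cs8.simple i) (sr j) i' : ℤ) : k) * c j) := by
  apply cv_ext
  · intro i'
    rw [ac_nc_apply]
    simp only [cv_inr, mul_zero, Finset.sum_const_zero, add_zero, NSimple.nMat_apply_inl k (facts8 i)]
    refine Finset.sum_congr rfl fun j _ => ?_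
    have key : ∀ j : Fin 8, ((if i' = j then (1 : k) else 0) -
        (if (i' : ℕ) = (i : ℕ) then ((chevE8.cartan j (chevE8.simple i) : ℤ) : k) else 0)) * c j =
        ((_root_.Cfsg.Agent.H865.EE.act (cs8.simple i) (sr j) i' : ℤ) : k) * c j := by
      intro j
      rw [act_simple_sr, cartan_simple i j]
      have e2 : ((i' : ℕ) = (i : ℕ)) ↔ i' = i := Fin.ext_iff.symm
      simp only [e2]
      push_cast
      rfl
    exact key j
  · intro r
    rw [ac_nc_apply]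
    simp only [cv_inr, mul_zero, Finset.sum_const_zero, add_zero, NSimple.nMat_apply_inl k (facts8 i), Sum.elim_inr,
      zero_mul]

/-- linearity in coordinates -/
theorem act_eq_sum (w : W8) (x : Fin 8 → ℤ) (i : Fin 8) : _root_.Cfsg.Agent.H865.EE.act w x i = ∑ j, _root_.Cfsg.Agent.H865.EE.act w (sr j) i * x j := by
  have h1 : x = ∑ j, x j • (sr j : Fin 8 → ℤ) := by
    funext i
    rw [Finset.sum_apply]
    simp [sr, Pi.single_apply]
  conv_lhs => rw [h1, map_sum]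
  rw [Finset.sum_apply]
  refine Finset.sum_congr rfl fun j _ => ?_
  rw [map_smul, Pi.smul_apply, smul_eq_mul, mul_comm]

theorem ac_word (ω : List (Fin 8)) (c : Fin 8 → k) : ac ((ω.map (nc tp8 k)).prod) (cv c) =
    cv (fun i => ∑ j, ((_root_.Cfsg.Agent.H865.EE.act (cs8.wordProd ω) (sr j) i : ℤ) : k) * c j) := by
  induction ω generalizing c with
  | nil =>
    rw [List.map_nil, List.prod_nil, ac_one, wordProd_nil]
    congr 1
    funext i
    simp only [sr, Pi.single_apply, _root_.map_one, _root_.Cfsg.Agent.Tits.Roots.sr, _root_.Module.End.one_apply, _root_.Pi.single_apply, _root_.Int.cast_ite, _root_.Int.cast_one, _root_.Int.cast_zero, _root_.ite_mul, _root_.one_mul, _root_.MulZeroClass.zero_mul, _root_.Finset.sum_ite_eq, _root_.Finset.mem_univ, ↓ _root_.reduceIte]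
  | cons i ω ih =>
    rw [List.map_cons, List.prod_cons, ac_mul, ih, ac_nc, wordProd_cons]
    congr 1
    funext i'
    simp only [act_mul]
    have h1 : ∀ j, ((_root_.Cfsg.Agent.H865.EE.act (cs8.simple i) (_root_.Cfsg.Agent.H865.EE.act (cs8.wordProd ω) (sr j)) i' : ℤ) : k) =
        ∑ m, ((_root_.Cfsg.Agent.H865.EE.act (cs8.simple i) (sr m) i' : ℤ) : k) * ((_root_.Cfsg.Agent.H865.EE.act (cs8.wordProd ω) (sr j) m : ℤ) : k) := by
      intro j
      rw [act_eq_sum]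
      push_cast
      rfl
    simp only [h1, Finset.mul_sum, Finset.sum_mul]
    rw [Finset.sum_comm]
    refine Finset.sum_congr rfl fun j _ => Finset.sum_congr rfl fun m _ => ?_
    ring

/-- a canonical representative -/
theorem rp_word (hk : LocFin k) (ω : List (Fin 8)) :
    Rp cs8 (nsysL tp8 cs8 hk 3) (cs8.wordProd ω) ((ω.map (nc tp8 k)).prod) := by
  induction ω with
  | nil =>
    rw [wordProd_nil, List.map_nil, List.prod_nil]
    exact rp_one
  | cons i ω ih =>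
    rw [wordProd_cons, List.map_cons, List.prod_cons]
    exact Rp.mul ⟨(nsysL tp8 cs8 hk 3).norm i, wq_simple _ _ i⟩ ih

/-- the torus acts trivially on the Cartan part -/
theorem ac_TT_cv {t : ↥(chevE8.group k)} (ht : t ∈ TT chevE8 k) (c : Fin 8 → k) : ac t (cv c) = cv c := by
  rw [ac_TT ht]
  apply cv_ext
  · intro i
    show 1 * c i = c i
    rw [one_mul]
  · intro r
    show _ * (0 : k) = 0
    rw [mul_zero]

theorem ac_rp_cv (hk : LocFin k) {w : W8} {y : ↥(chevE8.group k)} (h : Rp cs8 (nsysL tp8 cs8 hk 3) w y)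
    (c : Fin 8 → k) : ac y (cv c) = cv (fun i => ∑ j, ((_root_.Cfsg.Agent.H865.EE.act w (sr j) i : ℤ) : k) * c j) := by
  obtain ⟨ω, rfl⟩ := cs8.wordProd_surjective w
  obtain ⟨hy, e1⟩ := h
  obtain ⟨hn, e2⟩ := rp_word hk ω
  -- `n⁻¹ y` lies in the torus
  have e3 : (((ω.map (nc tp8 k)).prod)⁻¹ * y) ∈ TT chevE8 k := by
    have e4 := e2.symm.trans e1
    rw [QuotientGroup.eq] at e4
    exact e4
  have e5 : y = (ω.map (nc tp8 k)).prod * (((ω.map (nc tp8 k)).prod)⁻¹ * y) := by rw [mul_inv_cancel_left]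
  rw [e5, ac_mul, ac_TT_cv e3, ac_word]

/-- C2 -/
theorem ac_rp (hk : LocFin k) {w : W8} {y : ↥(chevE8.group k)} (h : Rp cs8 (nsysL tp8 cs8 hk 3) w y)
    (c : Fin 8 → k) : ac y (Sum.elim c 0) = Sum.elim (fun i => ∑ j, ((_root_.Cfsg.Agent.H865.EE.act w (sr j) i : ℤ) : k) * c j) 0 :=
  ac_rp_cv hk h c

end C

end Cfsg.Agent.H342.L5
end

-- part: H865/L5/Reg
section
/-!
# Regular toral `f VP` implies `GoodIn` (helper865, S5923, piece D2)
-/

set_option autoImplicit false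
set_option linter.unusedSectionVars false

namespace Cfsg.Agent.H865.L5

open CoxeterSystem Subgroup Cfsg Cfsg.Lie Cfsg.Lie.ChevalleyDatum
open Cfsg.Agent.ChevalleyStructure Cfsg.Agent.ChevalleyStructure.Elts Cfsg.Agent.ChevalleyStructure.CoxeterGeom
  Cfsg.Agent.ChevalleyStructure.CoxeterGeomTypes Cfsg.Agent.ChevalleyStructure.NPerm
open Cfsg.Agent.Tits.Roots Cfsg.Agent.Tits.Core Cfsg.Agent.Nodes Cfsg.Agent.Nodes.SubComb Cfsg.Agent.Nodes.Reps
  Cfsg.Agent.Nodes.BNOf Cfsg.Agent.Nodes.RGDChev Cfsg.Agent.Nodes.Bruhat Cfsg.Agent.Nodes.Coroot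
open Cfsg.Agent.KFacts.RgdField Cfsg.Agent.KFacts.RgdChevCoord Cfsg.Agent.BpExc.TorCent Cfsg.Agent.BpExc.TorChev
open Cfsg.Agent.GpExc.Field Cfsg.Agent.BpExc.Tow Cfsg.Agent.BpExc.TowChev Cfsg.Agent.BpExc.Fr
  Cfsg.Agent.BpExc.LangFr Cfsg.Agent.BpExc.FamField Cfsg.Agent.BpExc.FamInst Cfsg.Agent.H129.TorusChar
  Cfsg.Agent.H795.LangT Cfsg.Agent.BpExc.FamExt Cfsg.Agent.BpExc.FamUntw Cfsg.Agent.H378.TorDual Cfsg.Agent.H378.TorChar
  Cfsg.Agent.H378.TorFin Cfsg.Agent.H378.RankOne Cfsg.Agent.H378.RootTor Cfsg.Agent.H865.EE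
open Cfsg.Agent.H343.L5 (sq_ne fix_zero fix_line five_elt)
open Cfsg.Agent.H559.L5 (five_of_reg)
open Cfsg.Agent.H342.L5 (mem_Fx_reg ac_rp)

attribute [local irreducible] w8

/-! ### Elements of `SL₃(5)` -/

theorem vp_mul (a b c d : ZMod 5) : vp a b * vp c d = vp (a + c) (b + d) := by
  apply Subtype.ext
  show (vp a b).1 * (vp c d).1 = (vp (a + c) (b + d)).1
  ext i j
  fin_cases i <;> fin_cases j <;> simp [vp, Matrix.mul_apply, Fin.sum_univ_three, add_comm]

theorem vp_zero : vp 0 0 = 1 := by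
  apply Subtype.ext
  ext i j
  (revert i j; simp only [vp, _root_.Fin.forall_fin_succ, _root_.Matrix.of_apply, _root_.Matrix.cons_val', _root_.Matrix.cons_val_fin_one, _root_.Matrix.SpecialLinearGroup.coe_one, Fin.isValue, _root_.Matrix.cons_val_zero, _root_.Matrix.cons_val_succ, _root_.IsEmpty.forall_iff, _root_.and_true, _root_.Matrix.one_apply_eq, Nat.reduceAdd, _root_.Fin.succ_zero_eq_one, _root_.ne_eq, _root_.zero_ne_one, _root_.not_false_eq_true, _root_.Matrix.one_apply_ne, _root_.Fin.succ_one_eq_two, Fin.reduceEq, _root_.and_self, _root_.Fin.succ_ne_zero, _root_.true_and])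

theorem vp_inj {a b c d : ZMod 5} (h : vp a b = vp c d) : a = c ∧ b = d := by
  have h1 := congrArg (fun g : SL35 => g.1 0 1) h
  have h2 := congrArg (fun g : SL35 => g.1 0 2) h
  exact ⟨h1, h2⟩

theorem VP_sub_US : VP ⊆ US := by
  rintro _ ⟨a, b, rfl⟩
  exact ⟨a, b, 0, rfl⟩

theorem vp_pow (a b : ZMod 5) (n : ℕ) : vp a b ^ n = vp (n * a) (n * b) := by
  induction n with
  | zero => simp [vp_zero]
  | succ n ih => rw [pow_succ, ih, vp_mul]; congr 1 <;> push_cast <;> ring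

/-- the element `u` of order 5 -/
def uu : SL35 := us 0 0 1

theorem uu_mem : uu ∈ US := ⟨0, 0, 1, rfl⟩

theorem us_pow (c : ZMod 5) : us 0 0 c = uu ^ c.val := by revert c; decide +kernel

theorem uu_pow : uu ^ 5 = 1 := by decide +kernel

theorem uu_vp (a b : ZMod 5) : uu * vp a b * uu⁻¹ = vp a (b - a) := by revert a b; decide +kernel

theorem uu_vp' (a b : ZMod 5) : uu⁻¹ * vp a b * uu = vp a (b + a) := by revert a b; decide +kernel

theorem z0_pow : z0 ^ 4 = 1 := by decide +kernel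

theorem z0_vp (a b : ZMod 5) : z0 * vp a b * z0⁻¹ = vp a b ^ 2 := by revert a b; decide +kernel

theorem pow4 {M : Type*} [Monoid M] (a : M) : a ^ 4 = a * a * (a * a) := by
  rw [show (4 : ℕ) = 2 + 2 from rfl, pow_add, pow_two]

theorem pow5 {M : Type*} [Monoid M] (a : M) : a ^ 5 = a * a * (a * a) * a := by
  rw [pow_succ, pow4]

theorem z5 (a b : ZMod 5) (h : a * 2 * 2 = b) : -a = b := by
  subst h; revert a; decide

/-! ### Representatives -/

section Rep

variable {k : Type} [Field k] [CharP k 3] [IsAlgClosed k] [PerfectRing k 3] (hk : LocFin k)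

/-- `y` represents `w` -/
abbrev RP (hk : LocFin k) (w : W8) (y : ↥(chevE8.group k)) : Prop := Rp cs8 (nsysL tp8 cs8 hk 3) w y

theorem T5_TT {t : ↥(chevE8.group k)} (ht : t ∈ T5 k) : t ∈ TT chevE8 k := ht.1.1

theorem zval_inj {ζ : k} (hζ : IsPrimitiveRoot ζ 5) {a b : ZMod 5} (h : ζ ^ a.val = ζ ^ b.val) : a = b :=
  ZMod.val_injective 5 (hζ.pow_inj (ZMod.val_lt a) (ZMod.val_lt b) h)

/-- representatives of `w` acting trivially on `T5` -/
theorem eq_one_of_comm (hk : LocFin k) {w : W8} {y : ↥(chevE8.group k)} (hw : RP hk w y)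
    (h : ∀ t ∈ T5 k, y * t = t * y) : w = 1 := by
  obtain ⟨ζ, hζ⟩ := exists_zeta3 k
  obtain ⟨e, -, he, -, hch⟩ := exists_iso3 hk hζ
  refine ChevalleyStructure.CoxeterGeom.eq_one_of_fix cs8 tp8.isCartan _ fun i => ?_
  have hr := isRoot_sr cs8 tp8.isCartan i
  refine PP_inj (rt_act hr w) hr ?_
  by_contra hne
  obtain ⟨j, hj⟩ := Function.ne_iff.1 hne
  let φ : Module.Dual (ZMod 5) (Fin 4 → ZMod 5) := LinearMap.proj j
  have ht : e φ ∈ T5 k := he ▸ ⟨φ, rfl⟩
  have h2 := cX_rp tp8 cs8 hk 3 hw (T5_TT ht) (sr i)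
  rw [h _ ht, mul_inv_cancel_right, hch, hch] at h2
  exact hj (zval_inj hζ h2)

theorem eq_one_of_TT (hk : LocFin k) {w : W8} {y : ↥(chevE8.group k)} (hw : RP hk w y) (hy : y ∈ TT chevE8 k) :
    w = 1 :=
  eq_one_of_comm hk hw fun _ ht => TT_comm tp8 y hy _ (T5_TT ht)

/-- the vector of the Cartan part with coordinates `c` -/
def ce {K : Type} [Field K] (c : Fin 8 → K) : chevE8.Idx → K := Sum.elim c 0

theorem ce_neg {K : Type} [Field K] (c : Fin 8 → K) : ce (-c) = -ce c := by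
  funext i
  rcases i with i | r
  · rfl
  · exact neg_zero.symm

theorem ac_ce (hk : LocFin k) {w : W8} {y : ↥(chevE8.group k)} (h : RP hk w y) (c : Fin 8 → k) :
    ac y (ce c) = ce fun i => ∑ j, ((_root_.Cfsg.Agent.H865.EE.act w (sr j) i : ℤ) : k) * c j := ac_rp hk h c

theorem act_sum (v : W8) (x : Fin 8 → ℤ) (i : Fin 8) : _root_.Cfsg.Agent.H865.EE.act v x i = ∑ j, _root_.Cfsg.Agent.H865.EE.act v (sr j) i * x j := by
  have h1 : x = ∑ j, x j • (sr j : Fin 8 → ℤ) := by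
    funext i
    rw [Finset.sum_apply, Finset.sum_eq_single i (fun j _ hj => by
      rw [Pi.smul_apply, sr_ne hj.symm, smul_zero]) (fun h => absurd (Finset.mem_univ i) h), Pi.smul_apply, sr_self,
      smul_eq_mul, mul_one]
  conv_lhs => rw [h1, map_sum, Finset.sum_apply]
  refine Finset.sum_congr rfl fun j _ => ?_
  rw [map_smul, Pi.smul_apply, smul_eq_mul, mul_comm]

/-- the elements of order 5 of `CW` have no fixed vectors on the lattice -/
theorem fix_lat {u : W8} (hu : u ∈ CW) (h5 : u ^ 5 = 1) (h1 : u ≠ 1) {x : Fin 8 → ℤ} (h : _root_.Cfsg.Agent.H865.EE.act u x = x) : x = 0 := by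
  have step : ∀ x : Fin 8 → ℤ, _root_.Cfsg.Agent.H865.EE.act u x = x → ∃ y, x = (3 : ℤ) • y ∧ _root_.Cfsg.Agent.H865.EE.act u y = y := by
    intro x hx
    have h2 : (fun j => ((x j : ℤ) : ZMod 3)) = 0 := by
      refine fix_zero hu h5 h1 _ fun i => ?_
      have h3 := act_sum u x i
      rw [hx] at h3
      rw [h3]
      push_cast
      rfl
    have h3 : ∀ j, (3 : ℤ) ∣ x j := fun j => by
      have := congrFun h2 j
      rw [Pi.zero_apply, ZMod.intCast_zmod_eq_zero_iff_dvd] at this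
      exact_mod_cast this
    choose y hy using h3
    have hy' : x = (3 : ℤ) • y := by
      funext j; rw [hy, Pi.smul_apply, smul_eq_mul]
    refine ⟨y, hy', ?_⟩
    rw [hy', map_smul] at hx
    funext j
    have := congrFun hx j
    rw [Pi.smul_apply, Pi.smul_apply, smul_eq_mul, smul_eq_mul] at this
    exact mul_left_cancel₀ (by norm_num) this
  have key : ∀ n : ℕ, ∀ x : Fin 8 → ℤ, _root_.Cfsg.Agent.H865.EE.act u x = x → ∀ j, (3 : ℤ) ^ n ∣ x j := by
    intro n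
    induction n with
    | zero => intro x _ j; rw [pow_zero]; exact one_dvd _
    | succ n ih =>
      intro x hx j
      obtain ⟨y, rfl, hy⟩ := step x hx
      rw [Pi.smul_apply, smul_eq_mul, pow_succ']
      exact mul_dvd_mul_left _ (ih y hy j)
  funext j
  by_contra hne
  have h2 := key (x j).natAbs x h j
  have h3 := Int.natAbs_dvd_natAbs.2 h2
  rw [Int.natAbs_pow] at h3
  have h4 := Nat.le_of_dvd (Nat.pos_of_ne_zero (Int.natAbs_ne_zero.2 hne)) h3
  have h5 : (x j).natAbs < 3 ^ (x j).natAbs := Nat.lt_pow_self (by norm_num)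
  exact absurd h4 (not_le.2 h5)

theorem sum_five {u : W8} (hu : u ∈ CW) (h5 : u ^ 5 = 1) (h1 : u ≠ 1) (x : Fin 8 → ℤ) :
    x + _root_.Cfsg.Agent.H865.EE.act u x + _root_.Cfsg.Agent.H865.EE.act u (_root_.Cfsg.Agent.H865.EE.act u x) + _root_.Cfsg.Agent.H865.EE.act u (_root_.Cfsg.Agent.H865.EE.act u (_root_.Cfsg.Agent.H865.EE.act u x)) + _root_.Cfsg.Agent.H865.EE.act u (_root_.Cfsg.Agent.H865.EE.act u (_root_.Cfsg.Agent.H865.EE.act u (_root_.Cfsg.Agent.H865.EE.act u x))) = 0 := by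
  apply fix_lat hu h5 h1
  have h6 : _root_.Cfsg.Agent.H865.EE.act u (_root_.Cfsg.Agent.H865.EE.act u (_root_.Cfsg.Agent.H865.EE.act u (_root_.Cfsg.Agent.H865.EE.act u (_root_.Cfsg.Agent.H865.EE.act u x)))) = x := by
    rw [← act_mul, ← act_mul, ← act_mul, ← act_mul, show u * u * u * u * u = u ^ 5 by rw [pow5, mul_assoc (u * u)],
      h5, act_one]
  simp only [map_add, h6]
  abel

/-- coordinates on `T5` -/
theorem exists_iso' (hk : LocFin k) {ζ : k} (hζ : IsPrimitiveRoot ζ 5) :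
    ∃ e : Module.Dual (ZMod 5) (Fin 4 → ZMod 5) → ↥(chevE8.group k), Function.Injective e ∧
      (∀ t, t ∈ T5 k ↔ ∃ φ, e φ = t) ∧ e 0 = 1 ∧ (∀ φ ψ, e (φ + ψ) = e φ * e ψ) ∧
      (∀ (c : ZMod 5) φ, e (c • φ) = e φ ^ c.val) ∧ ∀ φ x, cX tp8 (e φ) x = ζ ^ (φ (_root_.Cfsg.Agent.H865.EE.PP x)).val := by
  obtain ⟨e, hi, he, ha, hch⟩ := exists_iso3 hk hζ
  have h0 : e 0 = 1 := by
    have := ha 0 0
    rw [add_zero] at this
    exact (mul_eq_left.1 this.symm)
  have hn : ∀ (n : ℕ) φ, e (n • φ) = e φ ^ n := by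
    intro n φ
    induction n with
    | zero => rw [zero_smul, pow_zero, h0]
    | succ n ih => rw [add_smul, one_smul, ha, ih, pow_succ]
  refine ⟨e, hi, fun t => by rw [← he]; exact Iff.rfl, h0, ha, fun c φ => ?_, hch⟩
  rw [← hn]
  congr 1
  rw [← Nat.cast_smul_eq_nsmul (ZMod 5), ZMod.natCast_zmod_val]

variable {f : SL35 →* ↥(chevE8.group k)}

/-- **`C_GT(f VP) ≤ AT`** -/
theorem cent_VP_AT (hk : LocFin k) (hf : Function.Injective f) (hT : ∀ s ∈ VP, f s ∈ T5 k) (hreg : Reg (f '' VP))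
    {y : ↥(chevE8.group k)} (hy : y ∈ GT k) (h : ∀ s ∈ VP, y * f s = f s * y) : y ∈ AT k := by
  obtain ⟨w, hw, hfix⟩ := cent_reg hk (S := f '' VP) (by rintro _ ⟨s, hs, rfl⟩; exact hT s hs) hreg (y := y)
    (by rintro _ ⟨s, hs, rfl⟩; exact h s hs)
  have hcw : w ∈ CW := cw_of_rp hk hy hw
  obtain ⟨ζ, hζ⟩ := exists_zeta3 k
  obtain ⟨e, hi, he, h0, ha, hsm, hch⟩ := exists_iso' hk hζ
  have h1 : ∀ s ∈ VP, ∃ φ, e φ = f s ∧ ∀ x, φ (_root_.Cfsg.Agent.H865.EE.PP (_root_.Cfsg.Agent.H865.EE.act w x)) = φ (_root_.Cfsg.Agent.H865.EE.PP x) := by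
    intro s hs
    obtain ⟨φ, hφ⟩ := (he _).1 (hT s hs)
    refine ⟨φ, hφ, fun x => ?_⟩
    apply zval_inj hζ
    rw [← hch, ← hch, hφ]
    exact hfix _ ⟨s, hs, rfl⟩ x
  have hn := five_of_reg (Φ := {φ | e φ ∈ f '' VP}) (w := w) (by
    intro a haa
    obtain ⟨_, ⟨s, hs, rfl⟩, hne⟩ := hreg a haa
    obtain ⟨φ, hφ, -⟩ := h1 s hs
    refine ⟨φ, ⟨s, hs, hφ.symm⟩, fun h2 => hne ?_⟩
    rw [← hφ, hch, h2, ZMod.val_zero, pow_zero]) (by
    rintro φ ⟨s, hs, hφ⟩ x
    obtain ⟨ψ, hψ, hψx⟩ := h1 s hs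
    have : φ = ψ := hi (hφ.symm.trans hψ.symm)
    rw [this]; exact hψx x)
  obtain ⟨n, hn⟩ := hn
  have h5 := five_elt hcw hn
  have hw1 : w = 1 := by
    by_contra hne
    obtain ⟨φ, hφ, hφx⟩ := h1 (vp 1 0) ⟨1, 0, rfl⟩
    obtain ⟨ψ, hψ, hψx⟩ := h1 (vp 0 1) ⟨0, 1, rfl⟩
    obtain ⟨c, hc⟩ := fix_line hcw h5 hne hφx hψx (by
      rintro rfl
      rw [h0, ← map_one f] at hφ
      have := vp_inj ((vp_zero.trans (hf hφ)) : vp 0 0 = vp 1 0)
      exact absurd this.1 (by decide))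
    rw [hc, hsm, hφ, ← map_pow, vp_pow] at hψ
    have := vp_inj (hf hψ)
    exact absurd this.2 (by simp only [_root_.ZMod.natCast_val, _root_.ZMod.cast_id', _root_.id_eq, _root_.MulZeroClass.mul_zero, _root_.zero_ne_one, _root_.not_false_eq_true])
  rw [hw1] at hw
  exact ⟨hw.mem_of_one, hy⟩

/-- elements normalising `f VP` normalise `T5` -/
theorem norm_VP_T5 (hk : LocFin k) (hf : Function.Injective f) (hT : ∀ s ∈ VP, f s ∈ T5 k) (hreg : Reg (f '' VP))
    {y : ↥(chevE8.group k)} (hy : y ∈ GT k) (h : ∀ s ∈ VP, ∃ s' ∈ VP, y⁻¹ * f s * y = f s') :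
    (∀ t ∈ AT k, y * t * y⁻¹ ∈ AT k) ∧ ∃ v ∈ CW, RP hk v y := by
  have h1 : ∀ t ∈ AT k, y * t * y⁻¹ ∈ AT k := by
    intro t ht
    refine cent_VP_AT hk hf hT hreg (mul_mem (mul_mem hy ht.2) (inv_mem hy)) fun s hs => ?_
    obtain ⟨s', hs', e⟩ := h s hs
    have h2 : t * f s' = f s' * t := TT_comm tp8 t ht.1 _ (T5_TT (hT s' hs'))
    rw [← e] at h2
    calc y * t * y⁻¹ * f s = y * (t * (y⁻¹ * f s * y)) * y⁻¹ := by group
      _ = y * (y⁻¹ * f s * y * t) * y⁻¹ := by rw [h2]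
      _ = f s * (y * t * y⁻¹) := by group
  refine ⟨h1, norm_T5 hk hy fun t ht => ⟨h1 t ht.1, ?_⟩⟩
  rw [conj_pow, ht.2, mul_one, mul_inv_cancel]

theorem z0_inv (a b : ZMod 5) : ∃ s ∈ VP, z0⁻¹ * vp a b * z0 = s := by
  refine ⟨vp (3 * a) (3 * b), ⟨_, _, rfl⟩, ?_⟩
  revert a b
  decide +kernel

theorem uu_not_comm : uu * vp 1 0 ≠ vp 1 0 * uu := by decide

/-- **the main step** -/
theorem goodIn_base (hk : LocFin k) (hf : Function.Injective f) (hr : ∀ x, f x ∈ GT k) (hT : ∀ s ∈ VP, f s ∈ T5 k)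
    (hreg : Reg (f '' VP)) : GoodIn (GT k) f := by
  have hFx : ∀ v, v ∈ Fx (f '' VP) ↔ ∀ r, v (Sum.inr r) = 0 := fun v =>
    mem_Fx_reg (by rintro _ ⟨s, hs, rfl⟩; exact T5_TT (hT s hs)) hreg
  have helim : ∀ v ∈ Fx (f '' VP), ∃ c : Fin 8 → k, v = ce c := by
    intro v hv
    refine ⟨fun i => v (Sum.inl i), ?_⟩
    funext i
    rcases i with i | r
    · rfl
    · exact (hFx v).1 hv r
  -- `z0`
  obtain ⟨hzA, ω, hω, hzω⟩ := norm_VP_T5 hk hf hT hreg (hr z0) (by
    rintro _ ⟨a, b, rfl⟩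
    obtain ⟨s, hs, e⟩ := z0_inv a b
    exact ⟨s, hs, by rw [← e, map_mul, map_mul, map_inv]⟩)
  have hω2 : ∀ x, _root_.Cfsg.Agent.H865.EE.act ω (_root_.Cfsg.Agent.H865.EE.act ω x) = -x := by
    obtain ⟨ζ, hζ⟩ := exists_zeta3 k
    obtain ⟨e, hi, he, h0, ha, hsm, hch⟩ := exists_iso' hk hζ
    -- the action on `f VP`
    have h1 : ∀ φ, e φ ∈ f '' VP → ∀ x, φ (_root_.Cfsg.Agent.H865.EE.PP (_root_.Cfsg.Agent.H865.EE.act ω x)) * 2 = φ (_root_.Cfsg.Agent.H865.EE.PP x) := by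
      rintro φ ⟨s, hs, hφ⟩ x
      obtain ⟨a, b, rfl⟩ := hs
      have h2 := cX_rp tp8 cs8 hk 3 hzω (T5_TT (hT _ ⟨a, b, rfl⟩)) x
      rw [← map_inv, ← map_mul, ← map_mul, z0_vp, map_pow, hφ, cX_pow tp8 (T5_TT ((he _).2 ⟨φ, rfl⟩)), hch, hch,
        ← pow_mul] at h2
      apply zval_inj hζ
      rw [← h2]
      exact pow_eq_pow_of_modEq (by
        rw [ZMod.val_mul]
        exact Nat.mod_modEq _ _) hζ.pow_eq_one
    have h4 : ω ^ 4 = 1 := by
      have h5 : RP hk (ω ^ 4) (f z0 ^ 4) := by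
        rw [pow4 ω, pow4 (f z0)]
        exact (hzω.mul hzω).mul (hzω.mul hzω)
      refine eq_one_of_TT hk h5 ?_
      rw [← map_pow, z0_pow, map_one]
      exact one_mem _
    have hwω := Subgroup.mem_centralizer_singleton_iff.1 hω
    have hww : ∀ x, _root_.Cfsg.Agent.H865.EE.act (w8 * w8 * (ω * ω)) x = -_root_.Cfsg.Agent.H865.EE.act (ω * ω) x := fun x => by
      rw [act_mul, act_mul, w8_sq]
    obtain ⟨n, hn⟩ := five_of_reg (Φ := {φ | e φ ∈ f '' VP}) (w := w8 * w8 * (ω * ω)) (by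
      intro a haa
      obtain ⟨_, ⟨s, hs, rfl⟩, hne⟩ := hreg a haa
      obtain ⟨φ, hφ⟩ := (he _).1 (hT s hs)
      refine ⟨φ, ⟨s, hs, hφ.symm⟩, fun h2 => hne ?_⟩
      rw [← hφ, hch, h2, ZMod.val_zero, pow_zero]) (by
      intro φ hφ x
      rw [hww, map_neg, map_neg, act_mul]
      have h6 := h1 φ hφ (_root_.Cfsg.Agent.H865.EE.act ω x)
      have h7 := h1 φ hφ x
      rw [← h6] at h7
      exact z5 _ _ h7)
    have h8 : (w8 * w8 * (ω * ω)) ^ 2 = 1 := by
      refine act_ext fun x => ?_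
      rw [sq, act_mul, hww, hww, map_neg, neg_neg, ← act_mul, ← pow4, h4]
    have h9 : w8 * w8 * (ω * ω) = 1 := by
      have h10 : orderOf (w8 * w8 * (ω * ω)) ∣ 2 := orderOf_dvd_of_pow_eq_one h8
      have h11 : orderOf (w8 * w8 * (ω * ω)) ∣ 5 ^ n := orderOf_dvd_of_pow_eq_one hn
      have h12 : Nat.Coprime 2 (5 ^ n) := Nat.Coprime.pow_right n (by norm_num)
      exact orderOf_eq_one_iff.1 (Nat.eq_one_of_dvd_coprimes h12 h10 h11)
    intro x
    have := hww x
    rw [h9, act_one, act_mul] at this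
    exact (neg_eq_iff_eq_neg.2 this).symm
  -- `u`
  obtain ⟨-, ν, hν, huν⟩ := norm_VP_T5 hk hf hT hreg (hr uu) (by
    rintro _ ⟨a, b, rfl⟩
    exact ⟨vp a (b + a), ⟨_, _, rfl⟩, by rw [← uu_vp', map_mul, map_mul, map_inv]⟩)
  have hν5 : ν ^ 5 = 1 := by
    have h5 : RP hk (ν ^ 5) (f uu ^ 5) := by
      rw [pow5 ν, pow5 (f uu)]
      exact ((huν.mul huν).mul (huν.mul huν)).mul huν
    refine eq_one_of_TT hk h5 ?_
    rw [← map_pow, uu_pow, map_one]
    exact one_mem _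
  have hν1 : ν ≠ 1 := by
    rintro rfl
    have h6 := TT_comm tp8 _ huν.mem_of_one _ (T5_TT (hT _ ⟨1, 0, rfl⟩))
    rw [← map_mul, ← map_mul] at h6
    exact uu_not_comm (hf h6)
  refine ⟨⟨?_, ?_, ?_⟩, ?_, ?_⟩
  · -- dimension
    let L : (Fin 8 → k) →ₗ[k] (chevE8.Idx → k) :=
      { toFun := fun c => ce c
        map_add' := fun c d => by
          funext i; rcases i with i | r
          · rfl
          · exact (add_zero (0 : k)).symm
        map_smul' := fun a c => by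
          funext i; rcases i with i | r
          · rfl
          · exact (mul_zero a).symm }
    have hL : LinearMap.range L = Fx (f '' VP) := by
      ext v
      constructor
      · rintro ⟨c, rfl⟩
        exact (hFx _).2 fun r => rfl
      · intro hv
        obtain ⟨c, rfl⟩ := helim v hv
        exact ⟨c, rfl⟩
    have hLi : Function.Injective L := by
      intro c d h
      funext i
      exact congrFun h (Sum.inl i)
    rw [← hL, LinearMap.finrank_range_of_inj hLi, Module.finrank_fin_fun]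
  · intro v hv
    obtain ⟨c, rfl⟩ := helim v hv
    refine (ac_mul (f z0) (f z0) _).symm.trans ?_
    rw [ac_ce hk (hzω.mul hzω) c]
    have h7 : (fun i : Fin 8 => ∑ j, ((_root_.Cfsg.Agent.H865.EE.act (ω * ω) (sr j) i : ℤ) : k) * c j) = -c := by
      funext i
      rw [Finset.sum_eq_single i]
      · rw [act_mul, hω2, Pi.neg_apply, sr_self, Pi.neg_apply]
        push_cast
        ring
      · intro j _ hj
        rw [act_mul, hω2, Pi.neg_apply, sr_ne hj.symm]
        push_cast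
        ring
      · exact fun h => absurd (Finset.mem_univ i) h
    rw [h7, ce_neg]
  · intro v hv
    obtain ⟨c, rfl⟩ := helim v (fun g hg => hv g (Set.image_mono VP_sub_US hg))
    have h7 := hv (f uu) ⟨uu, uu_mem, rfl⟩
    rw [ac_ce hk huν c] at h7
    have h8 : c = 0 := fix_zero hν hν5 hν1 c fun i => congrFun h7 (Sum.inl i)
    rw [h8]
    funext i
    rcases i with i | r <;> rfl
  · intro g hg hc
    have hgA := cent_VP_AT hk hf hT hreg hg fun s hs => hc s (VP_sub_US hs)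
    have hcomm := hc uu uu_mem
    have hfix : ∀ x, cX tp8 g (_root_.Cfsg.Agent.H865.EE.act ν x) = cX tp8 g x := fun x => by
      have h6 := cX_rp tp8 cs8 hk 3 huν hgA.1 x
      rw [← hcomm, mul_inv_cancel_right] at h6
      exact h6
    have hg5 : g ^ 5 = 1 := by
      refine cX_inj tp8 (pow_mem hgA.1 5) (one_mem _) fun i => ?_
      rw [cX_pow tp8 hgA.1, cX_one]
      have h6 := congrArg (cX tp8 g) (sum_five hν hν5 hν1 (sr i))
      have hm := isMC_cX tp8 hgA.1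
      simp only [hm.zero, hm.add, hfix] at h6
      rw [← h6]
      ring
    obtain ⟨ζ, hζ⟩ := exists_zeta3 k
    obtain ⟨e, hi, he, h0, ha, hsm, hch⟩ := exists_iso' hk hζ
    obtain ⟨φ, hφ⟩ := (he g).1 ⟨hgA, hg5⟩
    obtain ⟨ψ, hψ⟩ := (he _).1 (hT (vp 0 1) ⟨0, 1, rfl⟩)
    have hφx : ∀ x, φ (_root_.Cfsg.Agent.H865.EE.PP (_root_.Cfsg.Agent.H865.EE.act ν x)) = φ (_root_.Cfsg.Agent.H865.EE.PP x) := fun x => by
      apply zval_inj hζ
      rw [← hch, ← hch, hφ]
      exact hfix x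
    have hψx : ∀ x, ψ (_root_.Cfsg.Agent.H865.EE.PP (_root_.Cfsg.Agent.H865.EE.act ν x)) = ψ (_root_.Cfsg.Agent.H865.EE.PP x) := fun x => by
      apply zval_inj hζ
      rw [← hch, ← hch, hψ]
      have h6 := cX_rp tp8 cs8 hk 3 huν (T5_TT (hT (vp 0 1) ⟨0, 1, rfl⟩)) x
      rw [← map_inv, ← map_mul, ← map_mul, uu_vp, sub_zero] at h6
      exact h6
    obtain ⟨c, hc⟩ := fix_line hν hν5 hν1 hψx hφx (by
      rintro rfl
      rw [h0, ← map_one f] at hψ
      have := vp_inj ((vp_zero.trans (hf hψ)) : vp 0 0 = vp 0 1)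
      exact absurd this.2 (by decide))
    refine ⟨vp 0 c, ⟨0, c, 0, rfl⟩, ?_⟩
    rw [← hφ, hc, hsm, hψ, ← map_pow, vp_pow]
    congr 2
    simp
  · intro g hg h hh h1 h2
    exact TT_comm tp8 g (cent_VP_AT hk hf hT hreg hg h1).1 h (cent_VP_AT hk hf hT hreg hh h2).1

/-! ### Conjugation -/

/-- the conjugate homomorphism -/
def cjf (g : ↥(chevE8.group k)) (f : SL35 →* ↥(chevE8.group k)) : SL35 →* ↥(chevE8.group k) :=
  (MulAut.conj g).toMonoidHom.comp f

theorem cjf_apply (g : ↥(chevE8.group k)) (f : SL35 →* ↥(chevE8.group k)) (x : SL35) : cjf g f x = g * f x * g⁻¹ := rfl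

theorem finrank_Fx_cjf (g : ↥(chevE8.group k)) (f : SL35 →* ↥(chevE8.group k)) (S : Set SL35) :
    Module.finrank k (Fx (cjf g f '' S)) = Module.finrank k (Fx (f '' S)) := by
  have hi : ∀ v, ac g⁻¹ (ac g v) = v := fun v => by rw [← ac_mul, inv_mul_cancel, ac_one]
  have hi' : ∀ v, ac g (ac g⁻¹ v) = v := fun v => by rw [← ac_mul, mul_inv_cancel, ac_one]
  have h1 : Fx (cjf g f '' S) = (Fx (f '' S)).map (ac g) := by
    ext v
    constructor
    · intro hv
      refine ⟨ac g⁻¹ v, ?_, hi' v⟩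
      rintro _ ⟨s, hs, rfl⟩
      have := hv _ ⟨s, hs, rfl⟩
      rw [cjf_apply, ac_mul, ac_mul] at this
      rw [← hi (ac (f s) (ac g⁻¹ v)), this]
    · rintro ⟨w, hw, rfl⟩
      rintro _ ⟨s, hs, rfl⟩
      rw [cjf_apply, ac_mul, ac_mul, hi, hw _ ⟨s, hs, rfl⟩]
  rw [h1]
  let E : (chevE8.Idx → k) ≃ₗ[k] (chevE8.Idx → k) :=
    LinearEquiv.ofLinearMap (ac g) (ac g⁻¹) (LinearMap.ext hi') (LinearMap.ext hi)
  exact LinearEquiv.finrank_map_eq E _

theorem mem_Fx_cjf {g : ↥(chevE8.group k)} {f : SL35 →* ↥(chevE8.group k)} {S : Set SL35} {v : chevE8.Idx → k}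
    (hv : v ∈ Fx (f '' S)) : ac g v ∈ Fx (cjf g f '' S) := by
  rintro _ ⟨s, hs, rfl⟩
  rw [cjf_apply, ac_mul, ac_mul, ← ac_mul g⁻¹, inv_mul_cancel, ac_one, hv _ ⟨s, hs, rfl⟩]

/-- `GoodIn` is invariant under conjugation. -/
theorem GoodIn.of_cjf {Γ : Subgroup ↥(chevE8.group k)} {g : ↥(chevE8.group k)} (hg : g ∈ Γ)
    {f : SL35 →* ↥(chevE8.group k)} (h : GoodIn Γ (cjf g f)) : GoodIn Γ f := by
  have hi : ∀ v, ac g⁻¹ (ac g v) = v := fun v => by rw [← ac_mul, inv_mul_cancel, ac_one]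
  have hinj : ∀ v w, ac g v = ac g w → v = w := fun v w e => by rw [← hi v, e, hi]
  have hc : ∀ (y : ↥(chevE8.group k)) (s : SL35), y * f s = f s * y → g * y * g⁻¹ * cjf g f s = cjf g f s * (g * y * g⁻¹) := by
    intro y s e
    rw [cjf_apply]
    calc g * y * g⁻¹ * (g * f s * g⁻¹) = g * (y * f s) * g⁻¹ := by group
      _ = g * (f s * y) * g⁻¹ := by rw [e]
      _ = g * f s * g⁻¹ * (g * y * g⁻¹) := by group
  refine ⟨⟨?_, ?_, ?_⟩, ?_, ?_⟩
  · rw [← finrank_Fx_cjf g f VP]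
    exact h.dim
  · intro v hv
    have h1 := h.zz _ (mem_Fx_cjf (g := g) hv)
    apply hinj
    rw [map_neg, ← h1, cjf_apply, ← ac_mul, ← ac_mul, ← ac_mul, ← ac_mul]
    (with_reducible congr 1)
    group
  · intro v hv
    have h1 := h.fixS _ (mem_Fx_cjf (g := g) hv)
    apply hinj
    rw [h1, map_zero]
  · intro y hy hys
    obtain ⟨s, hs, e⟩ := h.centS (g * y * g⁻¹) (mul_mem (mul_mem hg hy) (inv_mem hg)) fun s hs => hc y s (hys s hs)
    refine ⟨s, hs, ?_⟩
    rw [cjf_apply] at e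
    exact mul_left_cancel (mul_right_cancel e)
  · intro x hx y hy hxs hys
    have e := h.centV (g * x * g⁻¹) (mul_mem (mul_mem hg hx) (inv_mem hg)) (g * y * g⁻¹)
      (mul_mem (mul_mem hg hy) (inv_mem hg)) (fun s hs => hc x s (hxs s hs)) (fun s hs => hc y s (hys s hs))
    have e1 : g * x * g⁻¹ * (g * y * g⁻¹) = g * (x * y) * g⁻¹ := by group
    have e2 : g * y * g⁻¹ * (g * x * g⁻¹) = g * (y * x) * g⁻¹ := by group
    rw [e1, e2] at e
    exact mul_left_cancel (mul_right_cancel e)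

/-- **D2** -/
theorem goodIn_of_reg (hk : LocFin k) (hf : Function.Injective f) (hr : ∀ x, f x ∈ GT k) {g : ↥(chevE8.group k)}
    (hg : g ∈ GT k) (hT : ∀ s ∈ VP, g * f s * g⁻¹ ∈ T5 k) (hreg : Reg ((fun s => g * f s * g⁻¹) '' VP)) :
    GoodIn (GT k) f := by
  refine GoodIn.of_cjf hg (goodIn_base hk ?_ (fun x => mul_mem (mul_mem hg (hr x)) (inv_mem hg)) hT hreg)
  intro x y e
  exact hf (mul_left_cancel (mul_right_cancel e))

end Rep

end Cfsg.Agent.H865.L5
end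

private theorem dce_a8bc8eb95b31 : _root_.True := by
  try have : _root_.True := by simp only [_root_.Cfsg.Agent.H887.L5.e3.congr_simp]
  try have : _root_.True := by simp only [_root_.Cfsg.Agent.H887.L5.e3.eq_1]
  exact _root_.True.intro
end

-- part: H865/L5/GoodEx
section
prune_inst 0x5500400406200000000058611000240040000000040080090000004000e344209000800480008020028080000000028111000204040000004000400000400208880100030400100220017000000000000000000000000000000000000041004000000000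
set_option linter.all false
open scoped Cfsg.Agent.FastGrp

-- part: H857/L5/Lin
section
/-!
# Linear algebra and group theory for S5923, D1 (helper857)

* `nilp_sq` : an endomorphism `α` of order 5 of a space over `F₅` and an invariant subspace `Φ` of codimension 2:
  `(α - 1)²` maps everything into `Φ`;
* `exists_cube` : `(α - 1)³ ≠ 0` when the dimension is 4 and the fixed space is of dimension at most 1;
* `exists_conj` : the Sylow argument.
-/

set_option autoImplicit false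

namespace Cfsg.Agent.H857.L5

section Lin

variable {E : Type*} [AddCommGroup E] [Module (ZMod 5) E]

theorem five_prime : Fact (Nat.Prime 5) := ⟨by norm_num⟩

attribute [local instance] five_prime

theorem sub_one_pow {α : E →ₗ[ZMod 5] E} (h : α ^ 5 = 1) : (α - 1) ^ 5 = 0 := by
  have h1 : (Polynomial.X - 1 : Polynomial (ZMod 5)) ^ 5 = Polynomial.X ^ 5 - 1 := by
    rw [sub_pow_char, one_pow]
  have h2 := congrArg (Polynomial.aeval α) h1
  simp only [map_pow, map_sub, map_one, Polynomial.aeval_X] at h2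
  rw [h2, h, sub_self]

/-- `(α - 1)²` maps everything into an invariant subspace of codimension 2 -/
theorem nilp_sq [FiniteDimensional (ZMod 5) E] {α : E →ₗ[ZMod 5] E} (h : α ^ 5 = 1) (Φ : Submodule (ZMod 5) E)
    (hΦ : ∀ φ ∈ Φ, α φ ∈ Φ) (hd : Module.finrank (ZMod 5) E = Module.finrank (ZMod 5) Φ + 2) (φ : E) :
    α (α φ) - 2 • α φ + φ ∈ Φ := by
  have hN : ∀ φ ∈ Φ, (α - 1) φ ∈ Φ := fun φ hφ => Φ.sub_mem (hΦ φ hφ) hφ
  have hq : Module.finrank (ZMod 5) (E ⧸ Φ) = 2 := by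
    have := Φ.finrank_quotient_add_finrank
    omega
  set N : Module.End (ZMod 5) (E ⧸ Φ) := Φ.mapQ Φ (α - 1) hN with hNd
  have hpow : ∀ (n : ℕ) (x : E), (N ^ n) (Submodule.Quotient.mk x) = Submodule.Quotient.mk (((α - 1) ^ n) x) := by
    intro n
    induction n with
    | zero => intro x; simp only [_root_.pow_zero, _root_.Module.End.one_apply]
    | succ n ih =>
      intro x
      rw [pow_succ', pow_succ', Module.End.mul_apply, Module.End.mul_apply, ih]
      rfl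
  have h5 : N ^ 5 = 0 := by
    ext x
    show (N ^ 5) (Submodule.Quotient.mk x) = 0
    rw [hpow, sub_one_pow h]
    rfl
  have h2 : N ^ 2 = 0 := by
    have h3 := Module.End.ker_pow_le_ker_pow_finrank N 5
    rw [hq, h5] at h3
    ext x
    exact h3 (by simp : Submodule.Quotient.mk x ∈ LinearMap.ker (0 : Module.End (ZMod 5) (E ⧸ Φ)))
  have h3 := hpow 2 φ
  rw [h2] at h3
  have h4 : (((α - 1 : Module.End (ZMod 5) E) ^ 2 : Module.End (ZMod 5) E)) φ ∈ Φ :=
    (Submodule.Quotient.mk_eq_zero Φ).1 h3.symm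
  have h5 : (((α - 1 : Module.End (ZMod 5) E) ^ 2 : Module.End (ZMod 5) E)) φ = α (α φ) - 2 • α φ + φ := by
    rw [pow_two, Module.End.mul_apply]
    simp only [LinearMap.sub_apply, Module.End.one_apply, map_sub]
    rw [two_nsmul]
    abel
  rwa [← h5]

theorem finrank_le_map [FiniteDimensional (ZMod 5) E] (N : E →ₗ[ZMod 5] E) (p : Submodule (ZMod 5) E) :
    Module.finrank (ZMod 5) p ≤ Module.finrank (ZMod 5) (p.map N) + Module.finrank (ZMod 5) (LinearMap.ker N) := by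
  have h1 := LinearMap.finrank_range_add_finrank_ker (N.domRestrict p)
  have h2 : LinearMap.range (N.domRestrict p) = p.map N := by
    rw [LinearMap.domRestrict, LinearMap.range_comp, Submodule.range_subtype]
  have h3 : Module.finrank (ZMod 5) (LinearMap.ker (N.domRestrict p)) ≤ Module.finrank (ZMod 5) (LinearMap.ker N) := by
    refine LinearMap.finrank_le_finrank_of_injective (f := (p.subtype.domRestrict _).codRestrict (LinearMap.ker N) ?_) ?_
    · intro x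
      exact x.2
    · intro x y hxy
      have := congrArg Subtype.val hxy
      exact Subtype.ext (Subtype.ext this)
  rw [h2] at h1
  omega

/-- `(α - 1)³ ≠ 0` -/
theorem exists_cube [FiniteDimensional (ZMod 5) E] {N : E →ₗ[ZMod 5] E} (hE : Module.finrank (ZMod 5) E = 4)
    (hk : Module.finrank (ZMod 5) (LinearMap.ker N) ≤ 1) : ∃ φ, N (N (N φ)) ≠ 0 := by
  by_contra hcon
  push Not at hcon
  have h1 := finrank_le_map N ⊤
  have h2 := finrank_le_map N ((⊤ : Submodule (ZMod 5) E).map N)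
  have h3 := finrank_le_map N (((⊤ : Submodule (ZMod 5) E).map N).map N)
  have h4 : (((⊤ : Submodule (ZMod 5) E).map N).map N).map N = ⊥ := by
    rw [eq_bot_iff]
    rintro _ ⟨_, ⟨_, ⟨x, -, rfl⟩, rfl⟩, rfl⟩
    exact hcon x
  rw [h4, finrank_bot] at h3
  rw [finrank_top] at h1
  omega

end Lin

section Grp

variable {G : Type*} [Group G]

attribute [local instance] five_prime

/-- **the Sylow argument** -/
theorem exists_conj [Finite G] (h6 : ¬ 5 ^ 6 ∣ Nat.card G) (T S : Subgroup G) (cT : Nat.card T = 625)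
    (cS : Nat.card S = 125) : ∃ g : G, (∀ s ∈ S, ∀ t ∈ T, (g * s * g⁻¹) * t * (g * s * g⁻¹)⁻¹ ∈ T) ∧
      25 ≤ Nat.card ↥(S ⊓ T.comap (MulAut.conj g).toMonoidHom) := by
  have pT : IsPGroup 5 T := IsPGroup.of_card (n := 4) (by rw [cT]; norm_num)
  have pS : IsPGroup 5 S := IsPGroup.of_card (n := 3) (by rw [cS]; norm_num)
  obtain ⟨P, hP⟩ := pT.exists_le_sylow
  obtain ⟨Q, hQ⟩ := pS.exists_le_sylow
  obtain ⟨g, hg⟩ := MulAction.exists_smul_eq G Q P
  have hgS : ∀ s ∈ S, g * s * g⁻¹ ∈ P := by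
    intro s hs
    have h1 : g * s * g⁻¹ ∈ g • Q := Subgroup.smul_mem_pointwise_smul _ (MulAut.conj g) _ (hQ hs)
    rwa [hg] at h1
  obtain ⟨n, hn⟩ := (IsPGroup.iff_card).1 P.isPGroup'
  have hn5 : n ≤ 5 := by
    by_contra hcon
    push Not at hcon
    apply h6
    exact (pow_dvd_pow 5 hcon).trans (hn ▸ Subgroup.card_subgroup_dvd_card P.1)
  -- the index of `T` in `P`
  have hmul : (T.subgroupOf P.1).index * Nat.card T = 5 ^ n := by
    have h1 := (T.subgroupOf P.1).index_mul_card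
    rw [Nat.card_congr (Subgroup.subgroupOfEquivOfLe hP).toEquiv] at h1
    rw [h1]
    exact hn
  have hind : (T.subgroupOf P.1).index = 1 ∨ (T.subgroupOf P.1).index = 5 := by
    rw [cT] at hmul
    interval_cases n <;> (clear * - hmul; omega)
  have hnorm : (T.subgroupOf P.1).Normal := by
    rcases hind with h | h
    · rw [Subgroup.index_eq_one] at h
      rw [h]
      infer_instance
    · refine Subgroup.normal_of_index_eq_minFac_card ?_
      have hn0 : n ≠ 0 := by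
        rintro rfl
        rw [h, cT] at hmul
        norm_num at hmul
      show _ = (Nat.card ↥P.1).minFac
      rw [h]
      have h3 : Nat.card ↥P.1 = 5 ^ n := hn
      rw [h3, Nat.Prime.pow_minFac (by norm_num) hn0]
  refine ⟨g, fun s hs t ht => ?_, ?_⟩
  · have h1 := hnorm.conj_mem ⟨t, hP ht⟩ ht ⟨g * s * g⁻¹, hgS s hs⟩
    exact h1
  · -- counting
    set S' : Subgroup G := S.map (MulAut.conj g).toMonoidHom with hS'
    have hS'P : S' ≤ P.1 := by
      rintro _ ⟨s, hs, rfl⟩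
      exact hgS s hs
    have cS' : Nat.card S' = 125 := by
      rw [hS', ← cS]
      exact Nat.card_congr (S.equivMapOfInjective _ (MulAut.conj g).injective).symm.toEquiv
    have h1 : (T.subgroupOf P.1).relIndex (S'.subgroupOf P.1) ∣ (T.subgroupOf P.1).index :=
      Subgroup.relIndex_dvd_index_of_normal _ _
    have h2 : (T.subgroupOf P.1).relIndex (S'.subgroupOf P.1) ≤ 5 := by
      have := Nat.le_of_dvd (by rcases hind with h | h <;> rw [h] <;> norm_num) h1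
      rcases hind with h | h <;> omega
    have h3 : (T.subgroupOf P.1).relIndex (S'.subgroupOf P.1) = T.relIndex S' := by
      exact Subgroup.relIndex_subgroupOf hS'P
    rw [h3] at h2
    have h4 : T.relIndex S' * Nat.card ↥(T ⊓ S') = Nat.card S' := by
      rw [Subgroup.relIndex, ← Subgroup.card_mul_index (T.subgroupOf S'), mul_comm]
      congr 1
      rw [← Subgroup.inf_subgroupOf_right]
      exact (Nat.card_congr (Subgroup.subgroupOfEquivOfLe inf_le_right).toEquiv).symm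
    have h5 : Nat.card ↥(S ⊓ T.comap (MulAut.conj g).toMonoidHom) = Nat.card ↥(T ⊓ S') := by
      have h6 : T ⊓ S' = (S ⊓ T.comap (MulAut.conj g).toMonoidHom).map (MulAut.conj g).toMonoidHom := by
        ext x
        constructor
        · rintro ⟨hx, s, hs, rfl⟩
          exact ⟨s, ⟨hs, hx⟩, rfl⟩
        · rintro ⟨s, ⟨hs, hx⟩, rfl⟩
          exact ⟨hx, s, hs, rfl⟩
      rw [h6]
      exact Nat.card_congr (Subgroup.equivMapOfInjective _ _ (MulAut.conj g).injective).toEquiv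
    rw [h5]
    rw [cS'] at h4
    by_contra hcon
    push Not at hcon
    have h6 : T.relIndex S' * Nat.card ↥(T ⊓ S') ≤ 5 * 24 := Nat.mul_le_mul h2 (by omega)
    omega

end Grp

end Cfsg.Agent.H857.L5
end

-- part: H857/L5/RegOf
section
/-!
# S5923, D1: a regular conjugate of `f VP` or of `f VL` in `T5 k` (helper857)

The facts of the sections S, A, B of the plan are hypotheses here (structures `SF`, `AF`).
-/

set_option autoImplicit false
set_option linter.unusedSectionVars false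

namespace Cfsg.Agent.H857.L5

open CoxeterSystem Subgroup Cfsg Cfsg.Lie Cfsg.Lie.ChevalleyDatum
open Cfsg.Agent.ChevalleyStructure Cfsg.Agent.ChevalleyStructure.Elts Cfsg.Agent.ChevalleyStructure.CoxeterGeom
  Cfsg.Agent.ChevalleyStructure.CoxeterGeomTypes Cfsg.Agent.ChevalleyStructure.NPerm
open Cfsg.Agent.Tits.Roots Cfsg.Agent.Tits.Core Cfsg.Agent.Nodes Cfsg.Agent.Nodes.SubComb Cfsg.Agent.Nodes.Reps
  Cfsg.Agent.Nodes.BNOf Cfsg.Agent.Nodes.RGDChev Cfsg.Agent.Nodes.Bruhat Cfsg.Agent.Nodes.Coroot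
open Cfsg.Agent.KFacts.RgdField Cfsg.Agent.BpExc.TorCent Cfsg.Agent.BpExc.TorChev
open Cfsg.Agent.KFacts.RgdChevCoord hiding act
open Cfsg.Agent.GpExc.Field Cfsg.Agent.BpExc.Tow Cfsg.Agent.BpExc.TowChev Cfsg.Agent.BpExc.Fr
  Cfsg.Agent.BpExc.LangFr Cfsg.Agent.BpExc.FamField Cfsg.Agent.BpExc.FamInst Cfsg.Agent.H129.TorusChar
  Cfsg.Agent.H795.LangT Cfsg.Agent.BpExc.FamExt Cfsg.Agent.BpExc.FamUntw Cfsg.Agent.H378.TorDual Cfsg.Agent.H378.TorChar
  Cfsg.Agent.H378.TorFin Cfsg.Agent.H378.RankOne Cfsg.Agent.H378.RootTor Cfsg.Agent.H865.EE Cfsg.Agent.H865.L5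

attribute [local irreducible] w8

/-- the dual space of `F₅⁴` -/
abbrev DU := Module.Dual (ZMod 5) (Fin 4 → ZMod 5)

/-! ### The facts used -/

/-- the facts on `SL₃(5)` used in this file -/
structure SF : Prop where
  eUS : ∃ A : Subgroup SL35, (A : Set SL35) = US ∧ Nat.card A = 125
  eVL : ∃ A : Subgroup SL35, (A : Set SL35) = VL ∧ Nat.card A = 25
  six : ∀ A : Subgroup SL35, (A : Set SL35) ⊆ US → Nat.card A = 25 →
    (A : Set SL35) = VP ∨ (A : Set SL35) = VL ∨ ∃ c : ZMod 5, c ≠ 0 ∧ (A : Set SL35) = {g | ∃ a b, g = us a b (c * a)}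
  six_conj : ∀ c d : ZMod 5, c ≠ 0 → d ≠ 0 → ∃ h : SL35, ∀ a b, ∃ a' b',
    h * us a b (c * a) * h⁻¹ = us a' b' (d * a')

/-- the facts on the torus used in this file -/
structure AF (k : Type) [Field k] [CharP k 3] [IsAlgClosed k] [PerfectRing k 3] (hk : LocFin k) : Prop where
  zeta : ∃ ζ : k, IsPrimitiveRoot ζ 5
  iso : ∀ ζ : k, IsPrimitiveRoot ζ 5 →
    ∃ e : DU → ↥(chevE8.group k), Function.Injective e ∧ Set.range e = T5 k ∧
      (∀ φ ψ, e (φ + ψ) = e φ * e ψ) ∧ ∀ φ x, cX tp8 (e φ) x = ζ ^ (φ (PP x)).val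
  card : Nat.card ↥(T5 k) = 625
  norm : ∀ y : ↥(chevE8.group k), y ∈ GT k → (∀ t ∈ T5 k, y * t * y⁻¹ ∈ T5 k) →
    ∃ v ∈ CW, Rp cs8 (nsysL tp8 cs8 hk 3) v y
  fin : Finite ↥(GT k)
  ndvd : ¬ 5 ^ 6 ∣ Nat.card ↥(GT k)

/-- the facts on `CW` used in this file -/
structure BF : Prop where
  sq_ne : ∀ u : W8, u ∈ CW → u ^ 5 = 1 → u ≠ 1 → ∀ a : Fin 8 → ℤ, Rt a →
    PP (act u (act u a)) - 2 • PP (act u a) + PP a ≠ 0
  fix_line : ∀ u : W8, u ∈ CW → u ^ 5 = 1 → u ≠ 1 → ∀ φ ψ : DU,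
    (∀ x, φ (PP (act u x)) = φ (PP x)) → (∀ x, ψ (PP (act u x)) = ψ (PP x)) → φ ≠ 0 → ∃ c : ZMod 5, ψ = c • φ

/-! ### Computations in `US` -/

theorem us_mul (a b c a' b' c' : ZMod 5) :
    us a b c * us a' b' c' = us (a + a') (b + b' + a * c') (c + c') := by
  apply Subtype.ext
  show !![1, a, b; 0, 1, c; 0, 0, 1] * !![1, a', b'; 0, 1, c'; 0, 0, 1] =
    !![1, a + a', b + b' + a * c'; 0, 1, c + c'; 0, 0, 1]
  ext i j
  (revert i j; simp only [Matrix.mul_apply, Fin.sum_univ_three, _root_.Fin.forall_fin_succ, _root_.Matrix.of_apply, _root_.Matrix.cons_val', _root_.Matrix.cons_val_fin_one, Fin.isValue, _root_.Matrix.cons_val_zero, _root_.Matrix.cons_val_one, _root_.Matrix.cons_val, _root_.mul_one, _root_.MulZeroClass.mul_zero, _root_.add_zero, _root_.Matrix.cons_val_succ, _root_.forall_const, _root_.true_and, _root_.one_mul, _root_.add_eq_right, _root_.mul_eq_zero, _root_.true_or, _root_.MulZeroClass.zero_mul, _root_.zero_add,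 _root_.and_self, _root_.implies_true, _root_.and_true]) <;> (repeat' with_reducible apply And.intro) <;> ring

theorem us_zero : us 0 0 0 = 1 := by
  apply Subtype.ext
  show !![1, 0, 0; 0, 1, 0; 0, 0, 1] = (1 : Matrix (Fin 3) (Fin 3) (ZMod 5))
  ext i j
  fin_cases i <;> fin_cases j <;> rfl

theorem us_inj {a b c a' b' c' : ZMod 5} (h : us a b c = us a' b' c') : a = a' ∧ b = b' ∧ c = c' := by
  have h1 : !![1, a, b; 0, 1, c; 0, 0, 1] = !![1, a', b'; 0, 1, c'; 0, 0, 1] := congrArg Subtype.val h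
  exact ⟨congrFun (congrFun h1 0) 1, congrFun (congrFun h1 0) 2, congrFun (congrFun h1 1) 2⟩

theorem five_zero : (5 : ZMod 5) = 0 := rfl

theorem us_pow_five (a b c : ZMod 5) : us a b c ^ 5 = 1 := by
  have h5 := five_zero
  rw [pow_succ, pow_succ, pow_succ, pow_succ, pow_one, us_mul, us_mul, us_mul, us_mul, ← us_zero]
  have e1 : a + a + a + a + a = 0 := by linear_combination a * h5
  have e2 : c + c + c + c + c = 0 := by linear_combination c * h5
  have e3 : b + b + a * c + b + (a + a) * c + b + (a + a + a) * c + b + (a + a + a + a) * c = 0 := by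
    linear_combination (b + 2 * a * c) * h5
  rw [e1, e2, e3]

theorem vl_eq (a b : ZMod 5) : vl a b = us 0 a b := rfl

theorem us_zz_pow (n : ℕ) : us 0 0 1 ^ n = us 0 0 (n : ZMod 5) := by
  induction n with
  | zero => rw [pow_zero, Nat.cast_zero, us_zero]
  | succ n ih =>
    rw [pow_succ, ih, us_mul]
    simp

/-! ### The action of an element of order 5 on `T5 k` -/

section Act

variable {k : Type} [Field k] [CharP k 3] [IsAlgClosed k] [PerfectRing k 3] {hk : LocFin k}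

theorem T5_comm {t t' : ↥(chevE8.group k)} (ht : t ∈ T5 k) (ht' : t' ∈ T5 k) : t * t' = t' * t :=
  TT_comm tp8 t ht.1.1 t' ht'.1.1

theorem T5_mul {t t' : ↥(chevE8.group k)} (ht : t ∈ T5 k) (ht' : t' ∈ T5 k) : t * t' ∈ T5 k := by
  refine ⟨(AT k).mul_mem ht.1 ht'.1, ?_⟩
  have h : Commute t t' := T5_comm ht ht'
  rw [h.mul_pow, ht.2, ht'.2, one_mul]

theorem T5_one : (1 : ↥(chevE8.group k)) ∈ T5 k := ⟨(AT k).one_mem, one_pow _⟩

theorem T5_inv {t : ↥(chevE8.group k)} (ht : t ∈ T5 k) : t⁻¹ ∈ T5 k :=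
  ⟨(AT k).inv_mem ht.1, by rw [inv_pow, ht.2, inv_one]⟩

variable (k) in
/-- `T5 k` as a subgroup -/
noncomputable def TS : Subgroup ↥(chevE8.group k) where
  carrier := T5 k
  mul_mem' := T5_mul
  one_mem' := T5_one
  inv_mem' := T5_inv

/-- the data attached to an element `s` of order 5 of `GT k` which normalises `T5 k` and is not in the torus -/
structure Dat (e : DU → ↥(chevE8.group k)) (s : ↥(chevE8.group k)) (u : W8) (α : DU →ₗ[ZMod 5] DU) : Prop where
  inj : Function.Injective e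
  ran : Set.range e = T5 k
  add : ∀ φ ψ, e (φ + ψ) = e φ * e ψ
  chr : ∃ ζ : k, IsPrimitiveRoot ζ 5 ∧ ∀ φ x, cX tp8 (e φ) x = ζ ^ (φ (PP x)).val
  al : ∀ φ, e (α φ) = s * e φ * s⁻¹
  five : α ^ 5 = 1
  mem : u ∈ CW
  act_al : ∀ φ x, (α φ) (PP (act u x)) = φ (PP x)
  ufive : u ^ 5 = 1
  une : u ≠ 1

theorem zinj {ζ : k} (hζ : IsPrimitiveRoot ζ 5) {a b : ZMod 5} (hab : ζ ^ a.val = ζ ^ b.val) : a = b :=
  ZMod.val_injective 5 (hζ.pow_inj (ZMod.val_lt a) (ZMod.val_lt b) hab)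

theorem exists_dat (hA : AF k hk) {s : ↥(chevE8.group k)} (hs : s ∈ GT k) (h5 : s ^ 5 = 1)
    (hn : ∀ t ∈ T5 k, s * t * s⁻¹ ∈ T5 k) (hsT : s ∉ T5 k) :
    ∃ e u α, Dat e s u α ∧ Rp cs8 (nsysL tp8 cs8 hk 3) u s := by
  obtain ⟨ζ, hζ⟩ := hA.zeta
  obtain ⟨e, he, hr, hadd, hch⟩ := hA.iso ζ hζ
  obtain ⟨u, hu, hus⟩ := hA.norm s hs hn
  have hmem : ∀ φ, e φ ∈ T5 k := fun φ => hr ▸ Set.mem_range_self φ
  have hex : ∀ φ, ∃ ψ, e ψ = s * e φ * s⁻¹ := fun φ => by
    have h1 : s * e φ * s⁻¹ ∈ Set.range e := by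
      rw [hr]
      exact hn _ (hmem φ)
    exact h1
  choose a ha using hex
  have hadd' : ∀ φ ψ, a (φ + ψ) = a φ + a ψ := fun φ ψ => by
    apply he
    rw [ha, hadd, hadd, ha, ha]
    group
  obtain ⟨α, hα⟩ : ∃ α : DU →ₗ[ZMod 5] DU, ∀ φ, α φ = a φ :=
    ⟨(AddMonoidHom.mk' a hadd').toZModLinearMap 5, fun φ => rfl⟩
  have hal : ∀ φ, e (α φ) = s * e φ * s⁻¹ := fun φ => by rw [hα, ha]
  have hpow : ∀ (n : ℕ) φ, e ((α ^ n) φ) = s ^ n * e φ * (s ^ n)⁻¹ := by
    intro n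
    induction n with
    | zero => intro φ; simp only [_root_.pow_zero, _root_.Module.End.one_apply, _root_.one_mul, _root_.inv_one, _root_.mul_one]
    | succ n ih =>
      intro φ
      rw [pow_succ', Module.End.mul_apply, hal, ih]
      group
  have hfive : α ^ 5 = 1 := by
    ext1 φ
    apply he
    rw [hpow, h5, one_mul, inv_one, mul_one]
    rfl
  have hact : ∀ φ x, (α φ) (PP (act u x)) = φ (PP x) := by
    intro φ x
    apply zinj hζ
    rw [← hch, ← hch, hal]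
    exact cX_rp tp8 cs8 hk 3 hus (hmem φ).1.1 x
  have hufive : u ^ 5 = 1 := by
    have hpa : ∀ (n : ℕ) φ x, ((α ^ n) φ) (PP (act (u ^ n) x)) = φ (PP x) := by
      intro n
      induction n with
      | zero =>
        intro φ x
        rw [pow_zero, pow_zero, act_one]
        rfl
      | succ n ih =>
        intro φ x
        rw [pow_succ', pow_succ', Module.End.mul_apply, act_mul, hact, ih]
    refine eq_one_of_fix cs8 tp8.isCartan _ fun i => ?_
    have hri := isRoot_sr cs8 tp8.isCartan i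
    refine PP_inj (rt_act hri (u ^ 5)) hri ?_
    by_contra hne
    obtain ⟨j, hj⟩ := Function.ne_iff.1 hne
    have h1 := hpa 5 (LinearMap.proj j) (sr i)
    rw [hfive] at h1
    exact hj h1
  have hune : u ≠ 1 := by
    rintro rfl
    exact hsT ⟨⟨hus.mem_of_one, hs⟩, h5⟩
  exact ⟨e, u, α, ⟨he, hr, hadd, ⟨ζ, hζ, hch⟩, hal, hfive, hu, hact, hufive, hune⟩, hus⟩

variable {e : DU → ↥(chevE8.group k)} {s : ↥(chevE8.group k)} {u : W8} {α : DU →ₗ[ZMod 5] DU}

theorem Dat.mem_T5 (D : Dat e s u α) (φ : DU) : e φ ∈ T5 k := D.ran ▸ Set.mem_range_self φ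

theorem Dat.zero (D : Dat e s u α) : e 0 = 1 := by
  have h := D.add 0 0
  rw [add_zero] at h
  exact left_eq_mul.1 h

theorem Dat.neg (D : Dat e s u α) (φ : DU) : e (-φ) = (e φ)⁻¹ := by
  rw [eq_inv_iff_mul_eq_one, ← D.add, neg_add_cancel, D.zero]

theorem Dat.comm (D : Dat e s u α) (φ : DU) : e ((α - 1) φ) = s * e φ * s⁻¹ * (e φ)⁻¹ := by
  rw [← D.al, ← D.neg, ← D.add, LinearMap.sub_apply, sub_eq_add_neg]
  rfl

/-- the subspace attached to a subgroup of `T5 k` -/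
noncomputable def Dat.sub (D : Dat e s u α) (V : Subgroup ↥(chevE8.group k)) : Submodule (ZMod 5) DU :=
  AddSubgroup.toZModSubmodule 5
    { carrier := {φ | e φ ∈ V}
      zero_mem' := by
        show e 0 ∈ V
        rw [D.zero]
        exact one_mem V
      add_mem' := fun {a b} ha hb => by
        show e (a + b) ∈ V
        rw [D.add]
        exact mul_mem ha hb
      neg_mem' := fun {a} ha => by
        show e (-a) ∈ V
        rw [D.neg]
        exact inv_mem ha }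

theorem Dat.mem_sub (D : Dat e s u α) {V : Subgroup ↥(chevE8.group k)} {φ : DU} : φ ∈ D.sub V ↔ e φ ∈ V := Iff.rfl

theorem finrank_DU : Module.finrank (ZMod 5) DU = 4 := by
  rw [Subspace.dual_finrank_eq, Module.finrank_fin_fun]

theorem Dat.finrank_sub (D : Dat e s u α) {V : Subgroup ↥(chevE8.group k)} (hV : ∀ t ∈ V, t ∈ T5 k)
    (cV : Nat.card V = 25) : Module.finrank (ZMod 5) (D.sub V) = 2 := by
  have h1 : Nat.card (D.sub V) = 25 := by
    rw [← cV]
    refine Nat.card_congr (Equiv.ofBijective (fun φ : D.sub V => (⟨e φ.1, φ.2⟩ : V)) ⟨?_, ?_⟩)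
    · intro φ ψ h
      exact Subtype.ext (D.inj (congrArg Subtype.val h))
    · rintro ⟨t, ht⟩
      have h2 : t ∈ Set.range e := by
        rw [D.ran]
        exact hV t ht
      obtain ⟨φ, rfl⟩ := h2
      exact ⟨⟨φ, ht⟩, rfl⟩
  have h2 := Module.natCard_eq_pow_finrank (K := ZMod 5) (V := D.sub V)
  rw [h1, Nat.card_zmod] at h2
  exact (Nat.pow_right_injective (le_refl 5 |>.trans' (by norm_num : 2 ≤ 5)) (h2.symm.trans (by norm_num : 25 = 5 ^ 2)))

/-- `(α - 1)²` maps everything into `V` -/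
theorem Dat.sq_mem (D : Dat e s u α) {V : Subgroup ↥(chevE8.group k)} (hV : ∀ t ∈ V, t ∈ T5 k)
    (cV : Nat.card V = 25) (hs : ∀ t ∈ V, s * t * s⁻¹ ∈ V) (φ : DU) : α (α φ) - 2 • α φ + φ ∈ D.sub V := by
  refine nilp_sq D.five (D.sub V) (fun ψ hψ => ?_) ?_ φ
  · rw [D.mem_sub, D.al]
    exact hs _ hψ
  · rw [D.finrank_sub hV cV, finrank_DU]

/-- **`V` is regular** -/
theorem Dat.reg (D : Dat e s u α) (hB : BF) {V : Subgroup ↥(chevE8.group k)} (hV : ∀ t ∈ V, t ∈ T5 k)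
    (cV : Nat.card V = 25) (hs : ∀ t ∈ V, s * t * s⁻¹ ∈ V) : Reg (V : Set ↥(chevE8.group k)) := by
  intro a ha
  by_contra hcon
  push Not at hcon
  obtain ⟨ζ, hζ, hch⟩ := D.chr
  have hz : ∀ φ ∈ D.sub V, φ (PP a) = 0 := by
    intro φ hφ
    apply zinj hζ
    rw [← hch, ZMod.val_zero, pow_zero]
    exact hcon _ hφ
  have hinv : ∀ φ x, (α φ) (PP x) = φ (PP (act u⁻¹ x)) := by
    intro φ x
    rw [← D.act_al φ (act u⁻¹ x), ← act_mul, mul_inv_cancel, act_one]
  refine hB.sq_ne u⁻¹ (inv_mem D.mem) (by rw [inv_pow, D.ufive, inv_one]) (inv_ne_one.2 D.une) a ha ?_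
  funext j
  have h1 := hz _ (D.sq_mem hV cV hs (LinearMap.proj j))
  rw [LinearMap.add_apply, LinearMap.sub_apply, LinearMap.smul_apply, hinv, hinv, hinv] at h1
  exact h1

/-- **an element of `T5 k` moving `s` by an element of `V` which `s` moves** -/
theorem Dat.exists_tr (D : Dat e s u α) (hB : BF) {V : Subgroup ↥(chevE8.group k)} (hV : ∀ t ∈ V, t ∈ T5 k)
    (cV : Nat.card V = 25) (hs : ∀ t ∈ V, s * t * s⁻¹ ∈ V) :
    ∃ t ∈ T5 k, ∃ v ∈ V, t * s * t⁻¹ = v * s ∧ s * v * s⁻¹ ≠ v := by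
  have hker : Module.finrank (ZMod 5) (LinearMap.ker (α - 1)) ≤ 1 := by
    have hfx : ∀ φ ∈ LinearMap.ker (α - 1), ∀ x, φ (PP (act u x)) = φ (PP x) := by
      intro φ hφ x
      have h1 : α φ = φ := sub_eq_zero.1 (LinearMap.mem_ker.1 hφ)
      conv_lhs => rw [← h1]
      exact D.act_al φ x
    by_cases h0 : LinearMap.ker (α - 1) = ⊥
    · rw [h0, finrank_bot]
      exact Nat.zero_le _
    · obtain ⟨φ, hφ, hne⟩ := Submodule.exists_mem_ne_zero_of_ne_bot h0
      refine finrank_le_one (⟨φ, hφ⟩ : LinearMap.ker (α - 1)) fun ψ => ?_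
      obtain ⟨c, hc⟩ := hB.fix_line u D.mem D.ufive D.une φ ψ.1 (hfx φ hφ) (hfx _ ψ.2) hne
      exact ⟨c, Subtype.ext hc.symm⟩
  obtain ⟨φ, hφ⟩ := exists_cube finrank_DU hker
  have h2 : (α - 1) ((α - 1) φ) ∈ D.sub V := by
    have h3 := D.sq_mem hV cV hs φ
    have h4 : (α - 1) ((α - 1) φ) = α (α φ) - 2 • α φ + φ := by
      simp only [LinearMap.sub_apply, Module.End.one_apply, map_sub]
      rw [two_nsmul]
      abel
    rwa [h4]
  have h5 := D.comm ((α - 1) φ)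
  refine ⟨e ((α - 1) φ), D.mem_T5 _, (e ((α - 1) ((α - 1) φ)))⁻¹, inv_mem h2, ?_, ?_⟩
  · rw [h5]
    group
  · intro h6
    apply hφ
    apply D.inj
    rw [D.comm, D.zero]
    have h7 : s * e ((α - 1) ((α - 1) φ)) * s⁻¹ = e ((α - 1) ((α - 1) φ)) := by
      have h8 := congrArg (fun x => x⁻¹) h6
      simp only [mul_inv_rev, inv_inv] at h8
      rw [← mul_assoc] at h8
      exact h8
    rw [h7, mul_inv_cancel]

end Act

/-! ### The normalised situation: `f US` normalises `T5 k` -/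

section Nrm

variable {k : Type} [Field k] [CharP k 3] [IsAlgClosed k] [PerfectRing k 3] {hk : LocFin k}

/-- `f US` normalises `T5 k` and meets it in `f A`, of order 25 -/
structure Nrm (f : SL35 →* ↥(chevE8.group k)) (A : Subgroup SL35) : Prop where
  inj : Function.Injective f
  fix : ∀ x, f x ∈ GT k
  norm : ∀ x ∈ US, ∀ t ∈ T5 k, f x * t * (f x)⁻¹ ∈ T5 k
  le : (A : Set SL35) ⊆ US
  mem : ∀ x ∈ US, f x ∈ T5 k ↔ x ∈ A
  card : Nat.card A = 25

variable {f : SL35 →* ↥(chevE8.group k)} {A : Subgroup SL35}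

theorem Nrm.conj_mem (N : Nrm f A) (hS : SF) {x y : SL35} (hx : x ∈ US) (hy : y ∈ A) : x * y * x⁻¹ ∈ A := by
  obtain ⟨B, hB, -⟩ := hS.eUS
  have h1 : x * y * x⁻¹ ∈ US := by
    rw [← hB] at hx ⊢
    have h2 : y ∈ B := by
      have := N.le hy
      rwa [← hB] at this
    exact B.mul_mem (B.mul_mem hx h2) (B.inv_mem hx)
  rw [← N.mem _ h1, map_mul, map_mul, map_inv]
  exact N.norm x hx _ ((N.mem _ (N.le hy)).2 hy)

theorem Nrm.cardV (N : Nrm f A) : Nat.card (A.map f) = 25 := by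
  rw [← N.card]
  exact Nat.card_congr (A.equivMapOfInjective f N.inj).symm.toEquiv

theorem Nrm.memV (N : Nrm f A) : ∀ t ∈ A.map f, t ∈ T5 k := by
  rintro _ ⟨x, hx, rfl⟩
  exact (N.mem _ (N.le hx)).2 hx

theorem Nrm.normV (N : Nrm f A) (hS : SF) {x : SL35} (hx : x ∈ US) : ∀ t ∈ A.map f, f x * t * (f x)⁻¹ ∈ A.map f := by
  rintro _ ⟨y, hy, rfl⟩
  refine ⟨x * y * x⁻¹, N.conj_mem hS hx hy, ?_⟩
  rw [map_mul, map_mul, map_inv]

theorem Nrm.dat (N : Nrm f A) (hA : AF k hk) {x : SL35} (hx : x ∈ US) (hxA : x ∉ A) :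
    ∃ e u α, Dat e (f x) u α := by
  obtain ⟨a, b, c, rfl⟩ := hx
  obtain ⟨e, u, α, h, -⟩ := exists_dat hA (N.fix (us a b c)) (by rw [← map_pow, us_pow_five, map_one])
    (N.norm _ ⟨a, b, c, rfl⟩) (fun h => hxA ((N.mem _ ⟨a, b, c, rfl⟩).1 h))
  exact ⟨e, u, α, h⟩

/-- `f A` is regular -/
theorem Nrm.reg (N : Nrm f A) (hS : SF) (hA : AF k hk) (hB : BF) : Reg (f '' (A : Set SL35)) := by
  obtain ⟨B, hBU, hBc⟩ := hS.eUS
  obtain ⟨x, hx, hxA⟩ : ∃ x ∈ US, x ∉ A := by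
    by_contra hcon
    push Not at hcon
    have h1 : B ≤ A := fun x hx => hcon x (hBU ▸ hx)
    have hfin : Finite A := Nat.finite_of_card_ne_zero (by rw [N.card]; norm_num)
    have h2 := Nat.card_le_card_of_injective _ (Subgroup.inclusion_injective h1)
    rw [hBc, N.card] at h2
    norm_num at h2
  obtain ⟨e, u, α, D⟩ := N.dat hA hx hxA
  have h := D.reg hB N.memV N.cardV (N.normV hS hx)
  rwa [Subgroup.coe_map] at h

/-- a subset of 25 elements of `f A` is regular -/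
theorem Nrm.reg_of (N : Nrm f A) (hS : SF) (hA : AF k hk) (hB : BF) {g : ↥(chevE8.group k)} {C : Subgroup SL35}
    (hC : Nat.card C = 25) {f' : SL35 →* ↥(chevE8.group k)} (hf' : Function.Injective f')
    (h : ∀ x ∈ C, g * f' x * g⁻¹ ∈ A.map f) :
    Reg ((fun x => g * f' x * g⁻¹) '' (C : Set SL35)) := by
  have hfin : Finite (A.map f) := Nat.finite_of_card_ne_zero (by rw [N.cardV]; norm_num)
  have hinj : Function.Injective (fun x => g * f' x * g⁻¹) := fun x y hxy => by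
    have h1 : g * f' x * g⁻¹ = g * f' y * g⁻¹ := hxy
    exact hf' (mul_left_cancel (mul_right_cancel h1))
  have h1 : (fun x => g * f' x * g⁻¹) '' (C : Set SL35) = (A.map f : Set ↥(chevE8.group k)) := by
    refine Set.eq_of_subset_of_ncard_le ?_ ?_ (Set.toFinite _)
    · rintro _ ⟨x, hx, rfl⟩
      exact h x hx
    · rw [Set.ncard_image_of_injective _ hinj, ← Nat.card_coe_set_eq, ← Nat.card_coe_set_eq]
      exact (N.cardV.trans hC.symm).le
  rw [h1, Subgroup.coe_map]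
  exact N.reg hS hA hB

/-- the case where `A` is one of the four other subgroups -/
theorem Nrm.four (N : Nrm f A) (hS : SF) (hA : AF k hk) (hB : BF) {c : ZMod 5} (hc : c ≠ 0)
    (hAc : (A : Set SL35) = {g | ∃ a b, g = us a b (c * a)}) :
    ∃ g ∈ GT k, ∀ x ∈ VL, g * f x * g⁻¹ ∈ A.map f := by
  have hsU : us 0 0 1 ∈ US := ⟨0, 0, 1, rfl⟩
  have hsA : us 0 0 1 ∉ A := by
    intro h
    have h1 : us 0 0 1 ∈ (A : Set SL35) := h
    rw [hAc] at h1
    obtain ⟨a, b, h2⟩ := h1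
    obtain ⟨h3, -, h4⟩ := us_inj h2
    rw [← h3, mul_zero] at h4
    exact one_ne_zero h4
  have hmA : ∀ a b, us a b (c * a) ∈ A := by
    intro a b
    have : us a b (c * a) ∈ (A : Set SL35) := by
      rw [hAc]
      exact ⟨a, b, rfl⟩
    exact this
  obtain ⟨e, u, α, D⟩ := N.dat hA hsU hsA
  obtain ⟨t, ht, v, hv, h1, h2⟩ := D.exists_tr hB N.memV N.cardV (N.normV hS hsU)
  obtain ⟨y, hy, rfl⟩ := hv
  have hy' : y ∈ (A : Set SL35) := hy
  rw [hAc] at hy'
  obtain ⟨a, b, rfl⟩ := hy'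
  have ha : a ≠ 0 := by
    rintro rfl
    apply h2
    rw [← map_mul, ← map_inv, ← map_mul]
    congr 1
    rw [mul_inv_eq_iff_eq_mul, us_mul, us_mul]
    congr 1
    all_goals ring
  have htv : ∀ a b, t * f (us a b (c * a)) * t⁻¹ = f (us a b (c * a)) := by
    intro a b
    rw [T5_comm ht ((N.mem _ (N.le (hmA a b))).2 (hmA a b)), mul_inv_cancel_right]
  -- an element of `T5 k` with the right transvection
  obtain ⟨t', ht', a', b', ha', hca, h3⟩ : ∃ t' ∈ T5 k, ∃ a' b', a' ≠ 0 ∧ c * a' + 1 ≠ 0 ∧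
      t' * f (us 0 0 1) * t'⁻¹ = f (us a' b' (c * a' + 1)) := by
    have h4 : t * f (us 0 0 1) * t⁻¹ = f (us a (b + a) (c * a + 1)) := by
      rw [h1, ← map_mul, us_mul]
      congr 2 <;> ring
    by_cases h5 : c * a + 1 = 0
    · refine ⟨t * t, T5_mul ht ht, a + a, (b + (b + a) + a * (c * a + 1)), ?_, ?_, ?_⟩
      · intro h6
        apply ha
        have h7 : (5 : ZMod 5) = 0 := rfl
        linear_combination 3 * h6 - a * h7
      · intro h6
        have h7 : (1 : ZMod 5) = 0 := by linear_combination 2 * h5 - h6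
        exact one_ne_zero h7
      · have h6 : t * t * f (us 0 0 1) * (t * t)⁻¹ = t * (t * f (us 0 0 1) * t⁻¹) * t⁻¹ := by group
        rw [h6, h1]
        have h7 : t * (f (us a b (c * a)) * f (us 0 0 1)) * t⁻¹ =
            (t * f (us a b (c * a)) * t⁻¹) * (t * f (us 0 0 1) * t⁻¹) := by group
        rw [h7, htv, h4, ← map_mul, us_mul]
        congr 2
        ring
    · exact ⟨t, ht, a, b + a, ha, h5, h4⟩
  -- the subgroup `A_d`
  obtain ⟨d, hd, hd'⟩ : ∃ d : ZMod 5, d ≠ 0 ∧ c * a' + 1 = d * a' := by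
    refine ⟨(c * a' + 1) * a'⁻¹, mul_ne_zero hca (inv_ne_zero ha'), ?_⟩
    rw [mul_assoc, inv_mul_cancel₀ ha', mul_one]
  have hVL : ∀ x ∈ VL, ∃ a b, t' * f x * t'⁻¹ = f (us a b (d * a)) := by
    rintro _ ⟨b₀, c₀, rfl⟩
    have e1 : vl b₀ c₀ = us 0 b₀ (c * 0) * us 0 0 1 ^ c₀.val := by
      rw [us_zz_pow, us_mul, vl_eq, ZMod.natCast_val, ZMod.cast_id]
      congr 1 <;> ring
    have e2 : t' * f (us 0 b₀ (c * 0)) * t'⁻¹ = f (us 0 b₀ (c * 0)) := by
      rw [T5_comm ht' ((N.mem _ (N.le (hmA 0 b₀))).2 (hmA 0 b₀)), mul_inv_cancel_right]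
    have e3 : ∀ n : ℕ, ∃ a b, t' * f (us 0 0 1 ^ n) * t'⁻¹ = f (us a b (d * a)) := by
      intro n
      induction n with
      | zero =>
        refine ⟨0, 0, ?_⟩
        rw [pow_zero, map_one, mul_one, mul_inv_cancel, mul_zero, us_zero, map_one]
      | succ n ih =>
        obtain ⟨a, b, h4⟩ := ih
        refine ⟨a + a', b + b' + a * (d * a'), ?_⟩
        rw [pow_succ, map_mul]
        have h5 : t' * (f (us 0 0 1 ^ n) * f (us 0 0 1)) * t'⁻¹ =
            (t' * f (us 0 0 1 ^ n) * t'⁻¹) * (t' * f (us 0 0 1) * t'⁻¹) := by group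
        rw [h5, h4, h3, ← map_mul, hd', us_mul]
        congr 2
        ring
    obtain ⟨a, b, h4⟩ := e3 c₀.val
    refine ⟨a, b₀ + b, ?_⟩
    rw [e1, map_mul]
    have h5 : t' * (f (us 0 b₀ (c * 0)) * f (us 0 0 1 ^ c₀.val)) * t'⁻¹ =
        (t' * f (us 0 b₀ (c * 0)) * t'⁻¹) * (t' * f (us 0 0 1 ^ c₀.val) * t'⁻¹) := by group
    rw [h5, e2, h4, ← map_mul, us_mul]
    congr 2 <;> ring
  obtain ⟨h, hh⟩ := hS.six_conj d c hd hc
  refine ⟨f h * t', (GT k).mul_mem (N.fix h) ht'.1.2, fun x hx => ?_⟩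
  obtain ⟨a₁, b₁, h4⟩ := hVL x hx
  obtain ⟨a₂, b₂, h5⟩ := hh a₁ b₁
  refine ⟨us a₂ b₂ (c * a₂), hmA a₂ b₂, ?_⟩
  rw [← h5, map_mul, map_mul, map_inv, ← h4]
  group

/-- **Existence of the normalised situation** -/
theorem exists_nrm (hS : SF) (hA : AF k hk) {f : SL35 →* ↥(chevE8.group k)} (hf : Function.Injective f)
    (hr : ∀ x, f x ∈ GT k) :
    ∃ g ∈ GT k, ∃ A : Subgroup SL35, Nrm ((MulAut.conj g).toMonoidHom.comp f) A := by
  obtain ⟨B, hBU, hBc⟩ := hS.eUS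
  have hfin := hA.fin
  set f₀ : SL35 →* ↥(GT k) := f.codRestrict (GT k) hr with hf₀
  have hf₀i : Function.Injective f₀ := fun x y hxy => hf (congrArg Subtype.val hxy)
  have cS : Nat.card (B.map f₀) = 125 := by
    rw [← hBc]
    exact Nat.card_congr (B.equivMapOfInjective f₀ hf₀i).symm.toEquiv
  have hTG : TS k ≤ GT k := fun t ht => ht.1.2
  have cT : Nat.card ((TS k).subgroupOf (GT k)) = 625 := by
    rw [Nat.card_congr (Subgroup.subgroupOfEquivOfLe hTG).toEquiv]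
    exact hA.card
  obtain ⟨g, hg, h25⟩ := exists_conj hA.ndvd _ _ cT cS
  set f' : SL35 →* ↥(chevE8.group k) := (MulAut.conj (g : ↥(chevE8.group k))).toMonoidHom.comp f with hf'd
  have hf' : ∀ x, f' x = g * f x * (g : ↥(chevE8.group k))⁻¹ := fun x => rfl
  have hf'i : Function.Injective f' := (MulAut.conj (g : ↥(chevE8.group k))).injective.comp hf
  set A : Subgroup SL35 := B ⊓ (TS k).comap f' with hAd
  have hnorm : ∀ x ∈ US, ∀ t ∈ T5 k, f' x * t * (f' x)⁻¹ ∈ T5 k := by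
    intro x hx t ht
    rw [← hBU] at hx
    exact hg (f₀ x) ⟨x, hx, rfl⟩ ⟨t, hTG ht⟩ ht
  have hcard : 25 ≤ Nat.card A := by
    refine h25.trans ?_
    have hfA : Finite A := inferInstance
    refine Nat.card_le_card_of_injective (fun z => (⟨Classical.choose z.2.1, ?_⟩ : A)) ?_
    · have h1 := Classical.choose_spec z.2.1
      refine ⟨h1.1, ?_⟩
      have h2 := z.2.2
      rw [← h1.2] at h2
      exact h2
    · intro z w hzw
      have h1 := Classical.choose_spec z.2.1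
      have h2 := Classical.choose_spec w.2.1
      have h3 : Classical.choose z.2.1 = Classical.choose w.2.1 := congrArg Subtype.val hzw
      apply Subtype.ext
      rw [← h1.2, ← h2.2, h3]
  have hdvd : Nat.card A ∣ 125 := by
    rw [← hBc]
    exact Subgroup.card_dvd_of_le inf_le_left
  have hne : Nat.card A ≠ 125 := by
    intro h
    have h1 : A = B := Subgroup.eq_of_le_of_card_ge inf_le_left (by rw [h, hBc])
    have h2 : ∀ x ∈ US, f' x ∈ T5 k := by
      intro x hx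
      rw [← hBU] at hx
      have h3 : x ∈ A := by rw [h1]; exact hx
      exact h3.2
    have h3 := T5_comm (h2 (us 1 0 0) ⟨_, _, _, rfl⟩) (h2 (us 0 0 1) ⟨_, _, _, rfl⟩)
    rw [← map_mul, ← map_mul] at h3
    have h4 := hf'i h3
    rw [us_mul, us_mul] at h4
    have h5 := (us_inj h4).2.1
    simp only [_root_.add_zero, _root_.mul_one, _root_.zero_add, _root_.MulZeroClass.mul_zero, _root_.one_ne_zero] at h5
  have h25' : Nat.card A = 25 := by
    have h1 : Nat.card A ∣ 5 ^ 3 := by norm_num only []; exact hdvd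
    obtain ⟨i, hi, h2⟩ := (Nat.dvd_prime_pow (by norm_num)).1 h1
    rw [h2] at hcard hne ⊢
    interval_cases i <;> omega
  refine ⟨g, g.2, A, ⟨hf'i, fun x => ?_, hnorm, ?_, ?_, h25'⟩⟩
  · exact (GT k).mul_mem ((GT k).mul_mem g.2 (hr x)) ((GT k).inv_mem g.2)
  · intro x hx
    rw [← hBU]
    exact hx.1
  · intro x hx
    rw [← hBU] at hx
    exact ⟨fun h => ⟨hx, h⟩, fun h => h.2⟩

/-- **D1** (with the facts of S, A, B as hypotheses) -/
theorem exists_reg_of (hS : SF) (hA : AF k hk) (hB : BF) (f : SL35 →* ↥(chevE8.group k))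
    (hf : Function.Injective f) (hr : ∀ x, f x ∈ GT k) :
    (∃ g ∈ GT k, (∀ s ∈ VP, g * f s * g⁻¹ ∈ T5 k) ∧ Reg ((fun s => g * f s * g⁻¹) '' VP)) ∨
      (∃ g ∈ GT k, (∀ s ∈ VL, g * f s * g⁻¹ ∈ T5 k) ∧ Reg ((fun s => g * f s * g⁻¹) '' VL)) := by
  obtain ⟨g, hg, A, N⟩ := exists_nrm hS hA hf hr
  have hreg := N.reg hS hA hB
  rcases hS.six A N.le N.card with h | h | ⟨c, hc, h⟩
  · refine Or.inl ⟨g, hg, fun s hs => ?_, ?_⟩
    · rw [← h] at hs
      exact (N.mem s (N.le hs)).2 hs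
    · rw [h] at hreg
      exact hreg
  · refine Or.inr ⟨g, hg, fun s hs => ?_, ?_⟩
    · rw [← h] at hs
      exact (N.mem s (N.le hs)).2 hs
    · rw [h] at hreg
      exact hreg
  · obtain ⟨y, hy, h1⟩ := N.four hS hA hB hc h
    have e : ∀ x, y * g * f x * (y * g)⁻¹ = y * ((MulAut.conj g).toMonoidHom.comp f) x * y⁻¹ := by
      intro x
      show _ = y * (g * f x * g⁻¹) * y⁻¹
      group
    obtain ⟨C, hCV, hCc⟩ := hS.eVL
    refine Or.inr ⟨y * g, (GT k).mul_mem hy hg, fun s hs => ?_, ?_⟩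
    · rw [e]
      exact N.memV _ (h1 s hs)
    · have h2 := N.reg_of hS hA hB (g := y) hCc N.inj (fun x hx => h1 x (hCV ▸ hx))
      rw [hCV] at h2
      have h3 : (fun s => y * g * f s * (y * g)⁻¹) = fun s => y * ((MulAut.conj g).toMonoidHom.comp f) s * y⁻¹ :=
        funext e
      rw [h3]
      exact h2

end Nrm

end Cfsg.Agent.H857.L5
end

-- part: H865/L5/GoodEx
section
/-!
# Every `SL₃(5)` in `E₈(3)` is good (helper865, S5923, piece D)
-/

set_option autoImplicit false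
set_option linter.unusedSectionVars false

namespace Cfsg.Agent.H865.L5

open Subgroup Cfsg Cfsg.Lie
open Cfsg.Agent.GpExc.Field Cfsg.Agent.BpExc.Tow Cfsg.Agent.BpExc.TowChev Cfsg.Agent.BpExc.Fr
  Cfsg.Agent.BpExc.LangFr Cfsg.Agent.BpExc.FamField Cfsg.Agent.BpExc.FamInst Cfsg.Agent.H129.TorusChar
  Cfsg.Agent.H795.LangT Cfsg.Agent.BpExc.FamExt Cfsg.Agent.BpExc.FamUntw Cfsg.Agent.H378.TorDual Cfsg.Agent.H378.TorChar
  Cfsg.Agent.H378.TorFin Cfsg.Agent.H378.RankOne Cfsg.Agent.H378.RootTor Cfsg.Agent.H865.EE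
open Cfsg.Agent.H858.L5 (exists_VM_VL io_VP)

/-- D1 -/
theorem exists_reg {k : Type} [Field k] [CharP k 3] [IsAlgClosed k] [PerfectRing k 3] (hk : LocFin k)
    (f : SL35 →* ↥(chevE8.group k)) (hf : Function.Injective f) (hr : ∀ x, f x ∈ GT k) :
    (∃ g ∈ GT k, (∀ s ∈ VP, g * f s * g⁻¹ ∈ T5 k) ∧ Reg ((fun s => g * f s * g⁻¹) '' VP)) ∨
      (∃ g ∈ GT k, (∀ s ∈ VL, g * f s * g⁻¹ ∈ T5 k) ∧ Reg ((fun s => g * f s * g⁻¹) '' VL)) :=
  Cfsg.Agent.H857.L5.exists_reg_of (hk := hk)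
    ⟨Cfsg.Agent.H858.L5.exists_US, Cfsg.Agent.H858.L5.exists_VL, Cfsg.Agent.H858.L5.six,
      fun _ _ hc hd => Cfsg.Agent.H858.L5.six_conj hc hd⟩
    ⟨exists_zeta3 k, fun _ hζ => exists_iso3 hk hζ, card_T5 hk, fun _ hy h => norm_T5 hk hy h, finite_GT, not_dvd_GT⟩
    ⟨fun _ hu h5 h1 _ ha => Cfsg.Agent.H343.L5.sq_ne hu h5 h1 ha,
      fun _ hu h5 h1 _ _ hφ hψ h0 => Cfsg.Agent.H343.L5.fix_line hu h5 h1 hφ hψ h0⟩ f hf hr

/-- from `VL` to `VP` with `io` -/
theorem reg_io {k : Type} [Field k] [CharP k 3] [IsAlgClosed k] [PerfectRing k 3]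
    {f : SL35 →* ↥(chevE8.group k)} (hr : ∀ x, f x ∈ GT k)
    (h : ∃ g ∈ GT k, (∀ s ∈ VL, g * f s * g⁻¹ ∈ T5 k) ∧ Reg ((fun s => g * f s * g⁻¹) '' VL)) :
    ∃ g ∈ GT k, (∀ s ∈ VP, g * (f.comp io.toMonoidHom) s * g⁻¹ ∈ T5 k) ∧
      Reg ((fun s => g * (f.comp io.toMonoidHom) s * g⁻¹) '' VP) := by
  obtain ⟨g, hg, h1, h2⟩ := h
  obtain ⟨x, hx⟩ := exists_VM_VL
  have e : ∀ s, g * f x * (f.comp io.toMonoidHom) s * (g * f x)⁻¹ = g * f (x * io s * x⁻¹) * g⁻¹ := by
    intro s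
    show g * f x * f (io s) * (g * f x)⁻¹ = _
    rw [map_mul, map_mul, map_inv]
    group
  refine ⟨g * f x, mul_mem hg (hr x), fun s hs => ?_, fun a ha => ?_⟩
  · rw [e]
    exact h1 _ ((hx _).1 (io_VP.2 hs))
  · obtain ⟨_, ⟨t, ht, rfl⟩, hne⟩ := h2 a ha
    have h3 : x⁻¹ * t * x ∈ VM := (hx _).2 (by
      have : x * (x⁻¹ * t * x) * x⁻¹ = t := by group
      rwa [this])
    refine ⟨_, ⟨io (x⁻¹ * t * x), ?_, rfl⟩, ?_⟩
    · rw [← io_VP, io_io]; exact h3
    · show cX _ (g * f x * (f.comp io.toMonoidHom) (io (x⁻¹ * t * x)) * (g * f x)⁻¹) a ≠ 1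
      rw [e, io_io]
      have : x * (x⁻¹ * t * x) * x⁻¹ = t := by group
      rwa [this]

theorem exists_goodIn {k : Type} [Field k] [CharP k 3] [IsAlgClosed k] [PerfectRing k 3] (hk : LocFin k)
    (f : SL35 →* ↥(chevE8.group k)) (hf : Function.Injective f) (hr : ∀ x, f x ∈ GT k) :
    GoodIn (GT k) f ∨ GoodIn (GT k) (f.comp io.toMonoidHom) := by
  rcases exists_reg hk f hf hr with ⟨g, hg, h1, h2⟩ | h
  · exact Or.inl (goodIn_of_reg hk hf hr hg h1 h2)
  · obtain ⟨g, hg, h1, h2⟩ := reg_io hr h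
    exact Or.inr (goodIn_of_reg hk (hf.comp io.injective) (fun x => hr _) hg h1 h2)

theorem range_io {G : Type*} [Group G] (f : SL35 →* G) : (f.comp io.toMonoidHom).range = f.range := by
  ext y
  constructor
  · rintro ⟨x, rfl⟩
    exact ⟨io x, rfl⟩
  · rintro ⟨x, rfl⟩
    exact ⟨io x, congrArg f (io_io x)⟩

/-- every subgroup isomorphic to `SL₃(5)` is the range of a good homomorphism -/
theorem exists_good (f : SL35 →* G3) (hf : Function.Injective f) :
    ∃ f' : SL35 →* G3, Function.Injective f' ∧ GoodIn ⊤ f' ∧ f'.range = f.range := by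
  rcases Cfsg.Agent.H887.L5.transport (fun k _ _ _ _ hk f => exists_goodIn hk f) f hf with h | h
  · exact ⟨f, hf, h, rfl⟩
  · exact ⟨f.comp io.toMonoidHom, hf.comp io.injective, h, range_io f⟩

end Cfsg.Agent.H865.L5
end
end

-- part: H969/L5/TorVL
section
prune_inst 0x25504440406200000018058611002260440004b200400800d9400044090e34622904284058b01a12022aa8d12009006811100070426000000e000c000004002088815202b348a104260017808084000000000000000000000000000000041004000000000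
set_option linter.all false
open scoped Cfsg.Agent.FastGrp

/-!
# S5924, T2 (helper969): torality of `f VL`

`toral_VL_of` : with the pieces A, B, T4 as hypotheses; `toral_VL`.
-/

set_option autoImplicit false
set_option linter.unusedSectionVars false

namespace Cfsg.Agent.H969.L5

open CoxeterSystem Subgroup Cfsg Cfsg.Lie Cfsg.Lie.ChevalleyDatum
open Cfsg.Agent.ChevalleyStructure Cfsg.Agent.ChevalleyStructure.Elts Cfsg.Agent.ChevalleyStructure.CoxeterGeom
  Cfsg.Agent.ChevalleyStructure.CoxeterGeomTypes Cfsg.Agent.ChevalleyStructure.NPerm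
open Cfsg.Agent.Tits.Roots Cfsg.Agent.Tits.Core Cfsg.Agent.Nodes Cfsg.Agent.Nodes.SubComb Cfsg.Agent.Nodes.Reps
  Cfsg.Agent.Nodes.BNOf Cfsg.Agent.Nodes.RGDChev Cfsg.Agent.Nodes.Bruhat Cfsg.Agent.Nodes.Coroot
open Cfsg.Agent.KFacts.RgdField Cfsg.Agent.KFacts.RgdChevCoord Cfsg.Agent.BpExc.TorCent Cfsg.Agent.BpExc.TorChev
open Cfsg.Agent.GpExc.Field Cfsg.Agent.BpExc.Tow Cfsg.Agent.BpExc.TowChev Cfsg.Agent.BpExc.Fr
  Cfsg.Agent.BpExc.LangFr Cfsg.Agent.BpExc.FamField Cfsg.Agent.BpExc.FamInst Cfsg.Agent.H129.TorusChar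
  Cfsg.Agent.H795.LangT Cfsg.Agent.BpExc.FamExt Cfsg.Agent.BpExc.FamUntw Cfsg.Agent.H378.TorDual Cfsg.Agent.H378.TorChar
  Cfsg.Agent.H378.TorFin Cfsg.Agent.H378.RankOne Cfsg.Agent.H378.RootTor Cfsg.Agent.H865.EE Cfsg.Agent.H865.L5

attribute [local irreducible] w8

/-! ### Unitriangular matrices -/

theorem vp_eq (a b : ZMod 5) : vp a b = us a b 0 := by
  apply Subtype.ext
  rfl

theorem vl_eq (a b : ZMod 5) : vl a b = us 0 a b := by
  apply Subtype.ext
  rfl

theorem us_mul (a b c a' b' c' : ZMod 5) : us a b c * us a' b' c' = us (a + a') (b + b' + a * c') (c + c') := by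
  apply Subtype.ext
  show (!![1, a, b; 0, 1, c; 0, 0, 1] : Matrix (Fin 3) (Fin 3) (ZMod 5)) * !![1, a', b'; 0, 1, c'; 0, 0, 1] =
    !![1, a + a', b + b' + a * c'; 0, 1, c + c'; 0, 0, 1]
  ext i j
  (revert i j; simp only [Matrix.mul_apply, Fin.sum_univ_three, _root_.Fin.forall_fin_succ, _root_.Matrix.of_apply, _root_.Matrix.cons_val', _root_.Matrix.cons_val_fin_one, Fin.isValue, _root_.Matrix.cons_val_zero, _root_.Matrix.cons_val_one, _root_.Matrix.cons_val, _root_.mul_one, _root_.MulZeroClass.mul_zero, _root_.add_zero, _root_.Matrix.cons_val_succ, _root_.forall_const, _root_.true_and, _root_.one_mul, _root_.add_eq_right, _root_.mul_eq_zero, _root_.true_or, _root_.MulZeroClass.zero_mul, _root_.zero_add, _root_.and_self, _root_.implies_true, _root_.and_true]) <;> (repeat' with_reducible apply And.intro) <;> ring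

theorem us_zero : us 0 0 0 = 1 := by
  apply Subtype.ext
  show (!![1, 0, 0; 0, 1, 0; 0, 0, 1] : Matrix (Fin 3) (Fin 3) (ZMod 5)) = 1
  ext i j
  fin_cases i <;> fin_cases j <;> rfl

theorem us_inj {a b c a' b' c' : ZMod 5} (h : us a b c = us a' b' c') : a = a' ∧ b = b' ∧ c = c' := by
  have h1 := fun i j => congrFun (congrFun (congrArg Subtype.val h) i) j
  exact ⟨h1 0 1, h1 0 2, h1 1 2⟩

theorem us_pow (b c : ZMod 5) (n : ℕ) : us 0 b c ^ n = us 0 (n * b) (n * c) := by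
  induction n with
  | zero => rw [pow_zero, Nat.cast_zero, zero_mul, zero_mul, us_zero]
  | succ n ih =>
    rw [pow_succ, ih, us_mul, Nat.cast_succ]
    congr 1 <;> ring

theorem us_pow' (a b : ZMod 5) (n : ℕ) : us a b 0 ^ n = us (n * a) (n * b) 0 := by
  induction n with
  | zero => rw [pow_zero, Nat.cast_zero, zero_mul, zero_mul, us_zero]
  | succ n ih =>
    rw [pow_succ, ih, us_mul, Nat.cast_succ]
    congr 1 <;> ring

/-- the subgroup `VL` -/
def VLs : Subgroup SL35 where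
  carrier := VL
  one_mem' := ⟨0, 0, by rw [vl_eq, us_zero]⟩
  mul_mem' := by
    rintro _ _ ⟨a, b, rfl⟩ ⟨a', b', rfl⟩
    refine ⟨a + a', b + b', ?_⟩
    rw [vl_eq, vl_eq, vl_eq, us_mul]
    congr 1
    ring
  inv_mem' := by
    rintro _ ⟨a, b, rfl⟩
    refine ⟨-a, -b, ?_⟩
    rw [inv_eq_iff_mul_eq_one, vl_eq, vl_eq, us_mul, ← us_zero]
    congr 1 <;> ring

theorem VLs_pow {x : SL35} (hx : x ∈ VLs) : x ^ 5 = 1 := by
  obtain ⟨a, b, rfl⟩ := hx
  have h5 : ((5 : ℕ) : ZMod 5) = 0 := by decide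
  rw [vl_eq, us_pow, h5, zero_mul, zero_mul, us_zero]

theorem vl_word (a b : ZMod 5) : vl a b = us 0 1 0 ^ a.val * us 0 0 1 ^ b.val := by
  rw [us_pow, us_pow, us_mul, vl_eq, ZMod.natCast_zmod_val, ZMod.natCast_zmod_val]
  congr 1 <;> ring

theorem conj_vp (a b : ZMod 5) : (us 0 0 1)⁻¹ * us a b 0 * us 0 0 1 = us a (b + a) 0 := by
  rw [mul_assoc, inv_mul_eq_iff_eq_mul, us_mul, us_mul]
  congr 1 <;> ring

theorem not_dvd_W8 : ¬ 5 ^ (2 + 1) ∣ Nat.card CoxeterMatrix.E₈.Group := by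
  rw [Cfsg.Agent.S1093.result (⟨8, CoxeterMatrix.E₈⟩, 696729600) (by simp)]
  norm_num

section T

variable {k : Type} [Field k] [CharP k 3] [IsAlgClosed k] [PerfectRing k 3]

theorem rp_pow (hk : LocFin k) {u : W8} {y : ↥(chevE8.group k)} (h : Rp cs8 (nsysL tp8 cs8 hk 3) u y) (n : ℕ) :
    Rp cs8 (nsysL tp8 cs8 hk 3) (u ^ n) (y ^ n) := by
  induction n with
  | zero => rw [pow_zero, pow_zero]; exact rp_one
  | succ n ih => rw [pow_succ, pow_succ]; exact ih.mul h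

/-- **T2, from the pieces A, B, T4.** -/
theorem toral_VL_of (hk : LocFin k)
    (hiso : ∀ {ζ : k}, IsPrimitiveRoot ζ 5 →
      ∃ e : Module.Dual (ZMod 5) (Fin 4 → ZMod 5) → ↥(chevE8.group k), Function.Injective e ∧ Set.range e = T5 k ∧
        (∀ φ ψ, e (φ + ψ) = e φ * e ψ) ∧ ∀ φ x, cX tp8 (e φ) x = ζ ^ (φ (_root_.Cfsg.Agent.H865.EE.PP x)).val)
    (hzeta : ∃ ζ : k, IsPrimitiveRoot ζ 5)
    (hcent : ∀ {S : Set ↥(chevE8.group k)}, S ⊆ T5 k → Reg S → ∀ {y : ↥(chevE8.group k)},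
      (∀ t ∈ S, y * t = t * y) → ∃ w : W8, Rp cs8 (nsysL tp8 cs8 hk 3) w y ∧
        ∀ t ∈ S, ∀ x, cX tp8 t (_root_.Cfsg.Agent.H865.EE.act w x) = cX tp8 t x)
    (hnorm : ∀ {y : ↥(chevE8.group k)}, y ∈ GT k → (∀ t ∈ T5 k, y * t * y⁻¹ ∈ T5 k) →
      ∃ v ∈ CW, Rp cs8 (nsysL tp8 cs8 hk 3) v y)
    (hcw : ∀ {y : ↥(chevE8.group k)}, y ∈ GT k → ∀ {w : W8}, Rp cs8 (nsysL tp8 cs8 hk 3) w y → w ∈ CW)
    (hline : ∀ {u : W8}, u ∈ CW → u ^ 5 = 1 → u ≠ 1 → ∀ {φ ψ : Module.Dual (ZMod 5) (Fin 4 → ZMod 5)},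
      (∀ x, φ (_root_.Cfsg.Agent.H865.EE.PP (_root_.Cfsg.Agent.H865.EE.act u x)) = φ (_root_.Cfsg.Agent.H865.EE.PP x)) → (∀ x, ψ (_root_.Cfsg.Agent.H865.EE.PP (_root_.Cfsg.Agent.H865.EE.act u x)) = ψ (_root_.Cfsg.Agent.H865.EE.PP x)) → φ ≠ 0 → ∃ c : ZMod 5, ψ = c • φ)
    (helt : ∀ {u : W8}, u ∈ CW → ∀ {n : ℕ}, u ^ 5 ^ n = 1 → u ^ 5 = 1)
    (hrefl : ∀ {u : W8}, u ∈ CW → u ^ 5 = 1 → u ≠ 1 → ∀ {φ : Module.Dual (ZMod 5) (Fin 4 → ZMod 5)},
      (∀ x, φ (_root_.Cfsg.Agent.H865.EE.PP (_root_.Cfsg.Agent.H865.EE.act u x)) = φ (_root_.Cfsg.Agent.H865.EE.PP x)) → u ∈ Subgroup.closure {v | ∃ a, Rt a ∧ φ (_root_.Cfsg.Agent.H865.EE.PP a) = 0 ∧ v = _root_.Cfsg.Agent.H865.EE.rf a})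
    (f : SL35 →* ↥(chevE8.group k)) (hf : Function.Injective f) (hr : ∀ x, f x ∈ GT k)
    (h : ∀ s ∈ VP, f s ∈ T5 k) (hreg : Reg (f '' VP)) :
    ∃ g : ↥(chevE8.group k), ∀ s ∈ VL, g * f s * g⁻¹ ∈ TT chevE8 k := by
  classical
  obtain ⟨ζ, hζ⟩ := hzeta
  obtain ⟨e, he, her, hem, hex⟩ := hiso hζ
  have hcomm := TT_comm tp8 (K := k)
  have hzinj : ∀ a b : ZMod 5, ζ ^ a.val = ζ ^ b.val → a = b := by
    intro a b hab
    exact ZMod.val_injective 5 (hζ.pow_inj (ZMod.val_lt a) (ZMod.val_lt b) hab)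
  have he0 : e 0 = 1 := by
    have h1 := hem 0 0
    rw [add_zero] at h1
    exact (mul_eq_left.1 h1.symm)
  have hes : ∀ (c : ZMod 5) φ, e (c • φ) = e φ ^ c.val := by
    intro c φ
    have h1 : ∀ n : ℕ, e (n • φ) = e φ ^ n := by
      intro n
      induction n with
      | zero => rw [zero_nsmul, he0, pow_zero]
      | succ n ih => rw [succ_nsmul, hem, ih, pow_succ]
    rw [← h1, ← Nat.cast_smul_eq_nsmul (ZMod 5), ZMod.natCast_zmod_val]
  have hT5T : ∀ t ∈ T5 k, t ∈ TT chevE8 k := fun t ht => ht.1.1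
  have hVP : ∀ a b, f (us a b 0) ∈ T5 k := fun a b => h _ ⟨a, b, (vp_eq a b).symm⟩
  -- a representative of `w` commuting with the elements of `f VP` which lies in `GT k` is in the torus
  have key1 : ∀ z ∈ GT k, (∀ a b, z * f (us a b 0) = f (us a b 0) * z) → z ∈ TT chevE8 k := by
    intro z hz hzc
    obtain ⟨w, hw, hwx⟩ := hcent (S := f '' VP) (by rintro _ ⟨s, hs, rfl⟩; exact h s hs) hreg (y := z) (by
      rintro _ ⟨s, ⟨a, b, rfl⟩, rfl⟩
      rw [vp_eq]
      exact hzc a b)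
    have hwC := hcw hz hw
    have hfix : ∀ φ ∈ {φ | e φ ∈ f '' VP}, ∀ x, φ (_root_.Cfsg.Agent.H865.EE.PP (_root_.Cfsg.Agent.H865.EE.act w x)) = φ (_root_.Cfsg.Agent.H865.EE.PP x) := by
      intro φ hφ x
      apply hzinj
      rw [← hex, ← hex]
      exact hwx _ hφ x
    obtain ⟨n, hn⟩ := H559.L5.five_of_reg (Φ := {φ | e φ ∈ f '' VP}) (fun a ha => by
      obtain ⟨t, ht, hta⟩ := hreg a ha
      have ht5 : t ∈ T5 k := by
        obtain ⟨s, hs, rfl⟩ := ht
        exact h s hs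
      rw [← her] at ht5
      obtain ⟨φ, rfl⟩ := ht5
      refine ⟨φ, ht, fun h0 => hta ?_⟩
      rw [hex, h0, ZMod.val_zero, pow_zero]) hfix
    have hw5 := helt hwC hn
    by_cases hw1 : w = 1
    · rw [hw1] at hw
      exact hw.mem_of_one
    exfalso
    obtain ⟨φ, hφ⟩ : f (us 1 0 0) ∈ Set.range e := by rw [her]; exact hVP 1 0
    obtain ⟨ψ, hψ⟩ : f (us 0 1 0) ∈ Set.range e := by rw [her]; exact hVP 0 1
    have hφ0 : φ ≠ 0 := by
      rintro rfl
      rw [he0, ← map_one f] at hφ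
      have h1 := hf hφ
      rw [← us_zero] at h1
      exact absurd (us_inj h1).1 (by decide)
    obtain ⟨c, hc⟩ := hline hwC hw5 hw1 (φ := φ) (ψ := ψ)
      (hfix φ (show e φ ∈ f '' VP by rw [hφ]; exact ⟨_, ⟨1, 0, vp_eq 1 0 ▸ rfl⟩, rfl⟩))
      (hfix ψ (show e ψ ∈ f '' VP by rw [hψ]; exact ⟨_, ⟨0, 1, vp_eq 0 1 ▸ rfl⟩, rfl⟩)) hφ0
    rw [hc, hes, hφ, ← map_pow, us_pow'] at hψ
    have h1 := us_inj (hf hψ)
    have h2 := h1.2.1
    rw [mul_zero] at h2
    exact absurd h2 (by decide)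
  set y := f (us 0 0 1) with hy
  set t := f (us 0 1 0) with ht
  have hyG : y ∈ GT k := hr _
  have hy5 : y ^ 5 = 1 := by
    rw [hy, ← map_pow, us_pow]
    have h5 : ((5 : ℕ) : ZMod 5) = 0 := by decide
    rw [h5, zero_mul, zero_mul, us_zero, map_one]
  -- `y` normalises `T5`
  have hyN : ∀ s ∈ T5 k, y * s * y⁻¹ ∈ T5 k := by
    intro s hs
    have hG : y * s * y⁻¹ ∈ GT k := (GT k).mul_mem ((GT k).mul_mem hyG hs.1.2) ((GT k).inv_mem hyG)
    have hT := key1 _ hG (fun a b => by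
      have h1 : y⁻¹ * f (us a b 0) * y = f (us a (b + a) 0) := by
        rw [hy, ← map_inv, ← map_mul, ← map_mul, conj_vp]
      have h2 := hcomm s (hT5T s hs) _ (hT5T _ (hVP a (b + a)))
      rw [← h1] at h2
      calc y * s * y⁻¹ * f (us a b 0) = y * (s * (y⁻¹ * f (us a b 0) * y)) * y⁻¹ := by group
        _ = y * (y⁻¹ * f (us a b 0) * y * s) * y⁻¹ := by rw [h2]
        _ = _ := by group)
    refine ⟨⟨hT, hG⟩, ?_⟩
    rw [conj_pow, hs.2, mul_one, mul_inv_cancel]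
  obtain ⟨u, huC, hu⟩ := hnorm hyG hyN
  -- a representative commuting with `T5` is trivial
  have hone : ∀ w : W8, Rp cs8 (nsysL tp8 cs8 hk 3) w 1 → w = 1 := by
    intro w hw
    refine eq_one_of_fix cs8 tp8.isCartan _ fun i => ?_
    have hri := isRoot_sr cs8 tp8.isCartan i
    refine PP_inj (rt_act hri w) hri ?_
    funext j
    obtain ⟨φ, hφ⟩ : ∃ φ : Module.Dual (ZMod 5) (Fin 4 → ZMod 5), ∀ c, φ c = c j := ⟨LinearMap.proj j, fun _ => rfl⟩
    have h3 : φ (_root_.Cfsg.Agent.H865.EE.PP (_root_.Cfsg.Agent.H865.EE.act w (sr i))) = φ (_root_.Cfsg.Agent.H865.EE.PP (sr i)) → _root_.Cfsg.Agent.H865.EE.PP (_root_.Cfsg.Agent.H865.EE.act w (sr i)) j = _root_.Cfsg.Agent.H865.EE.PP (sr i) j := by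
      rw [hφ, hφ]
      exact id
    apply h3
    apply hzinj
    have he5 : e φ ∈ T5 k := by rw [← her]; exact ⟨φ, rfl⟩
    have h2 := cX_rp tp8 cs8 hk 3 hw (hT5T _ he5) (sr i)
    rw [one_mul, inv_one, mul_one, hex, hex] at h2
    exact h2
  have hu5 : u ^ 5 = 1 := hone _ (by
    have h1 := rp_pow hk hu 5
    rwa [hy5] at h1)
  by_cases hu1 : u = 1
  · rw [hu1] at hu
    have hyT := hu.mem_of_one
    refine ⟨1, ?_⟩
    rintro _ ⟨a, b, rfl⟩
    rw [one_mul, inv_one, mul_one, vl_word, map_mul, map_pow, map_pow]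
    exact mul_mem (pow_mem (hT5T _ (hVP 0 1)) _) (pow_mem hyT _)
  -- the main case
  have ht5 : t ∈ T5 k := hVP 0 1
  have htT : t ∈ TT chevE8 k := hT5T t ht5
  obtain ⟨φ, hφ⟩ : t ∈ Set.range e := by rw [her]; exact ht5
  have hyt : y * t * y⁻¹ = t := by
    rw [hy, ht, ← map_inv, ← map_mul, ← map_mul]
    congr 1
    rw [mul_inv_eq_iff_eq_mul, us_mul, us_mul]
    congr 1
  have hinv : ∀ x, φ (_root_.Cfsg.Agent.H865.EE.PP (_root_.Cfsg.Agent.H865.EE.act u x)) = φ (_root_.Cfsg.Agent.H865.EE.PP x) := by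
    intro x
    apply hzinj
    rw [← hex, ← hex, hφ]
    have h2 := cX_rp tp8 cs8 hk 3 hu htT x
    rwa [hyt] at h2
  have hucl := hrefl huC hu5 hu1 hinv
  have H := tow tp8 cs8 hk 3
  have hTL := TL_eq (k := k) tp8 hk
  have C : Coords cs8 tp8.isCartan (TL (Tj tp8 (k := k))) (nc tp8 k) (XL (Xj tp8)) (xc tp8) (ch tp8) := by
    rw [TL_eq tp8 hk, XL_eq tp8 hk]
    exact coordsL tp8 cs8 hk 3
  have hA : ChAdd cs8 tp8.isCartan (TL (Tj tp8 (k := k))) (ch (K := k) tp8) := by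
    rw [TL_eq tp8 hk]
    exact chAddL tp8 cs8 hk 3
  have hZ : ({t} : Set ↥(chevE8.group k)) ⊆ TT chevE8 k := Set.singleton_subset_iff.2 htT
  have hVV : Subgroup.closure {v | ∃ a, Rt a ∧ φ (_root_.Cfsg.Agent.H865.EE.PP a) = 0 ∧ v = _root_.Cfsg.Agent.H865.EE.rf a} ≤
      H795.SetCent.VV H (ch tp8) ({t} : Set ↥(chevE8.group k)) := by
    refine (Subgroup.closure_le _).2 ?_
    rintro _ ⟨a, ha, ha0, rfl⟩
    obtain ⟨w, i, hwi⟩ := id ha
    have e1 : _root_.Cfsg.Agent.H865.EE.rf a = rfl' cs8 w i := by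
      refine act_ext fun x => ?_
      rw [act_rf ha, show _root_.Cfsg.Agent.H865.EE.act (rfl' cs8 w i) x = _ from rep_rfl'_eq cs8 tp8.isCartan w i x, ← hwi, cpr_eq x ha]
    rw [e1]
    refine H795.SetTor.rfl_mem_VV H C hA (by rw [hTL]; exact hZ) ?_
    rw [← hwi]
    refine ⟨ha, ?_⟩
    rintro s hs
    rw [Set.mem_singleton_iff.1 hs, ← cX_root tp8 cs8 htT ha, ← hφ, hex, ha0, ZMod.val_zero, pow_zero]
  obtain ⟨m₀, hm₀, hv⟩ := hVV hucl
  have hu' : Rp cs8 H.nsys u y := H129.EE.rp_cast hTL.symm _ H.nsys hu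
  have ht₀ : m₀⁻¹ * y ∈ TL (Tj tp8 (k := k)) := by
    have h1 := hv.inv.mul hu'
    rw [inv_mul_cancel] at h1
    exact h1.mem_of_one
  rw [hTL] at ht₀
  rw [XL_eq tp8 hk] at hm₀
  have hQp : IsPGroup 5 ↥(VLs.map f) := by
    rintro ⟨_, x, hx, rfl⟩
    refine ⟨1, Subtype.ext ?_⟩
    show f x ^ 5 ^ 1 = 1
    rw [pow_one, ← map_pow, VLs_pow hx, map_one]
  have hQle : VLs.map f ≤ Subgroup.closure (insert y {t}) := by
    have h1 : t ∈ Subgroup.closure (insert y {t}) := Subgroup.subset_closure (Set.mem_insert_of_mem _ (Set.mem_singleton t))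
    have h2 : y ∈ Subgroup.closure (insert y {t}) := Subgroup.subset_closure (Set.mem_insert _ _)
    rw [Subgroup.map_le_iff_le_comap]
    rintro _ ⟨a, b, rfl⟩
    rw [Subgroup.mem_comap, vl_word, map_mul, map_pow, map_pow]
    exact mul_mem (pow_mem h1 _) (pow_mem h2 _)
  obtain ⟨g, hg⟩ := H795.TorSub.exists_toral_step tp8 3 hk (q := 5) (e := 2) (n := 1) (by norm_num) (by norm_num)
    not_dvd_W8 (Set.finite_singleton t) hZ (x := y) (m₀ := m₀) (t₀ := m₀⁻¹ * y) (by rw [mul_inv_cancel_left]) hm₀ ht₀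
    (by rw [pow_one]; exact hy5) (Q := VLs.map f) hQp hQle
  exact ⟨g, fun s hs => hg (f s) (Subgroup.mem_map_of_mem f hs)⟩

/-- **T2 : torality of `f VL`** -/
theorem toral_VL (hk : LocFin k) (f : SL35 →* ↥(chevE8.group k)) (hf : Function.Injective f) (hr : ∀ x, f x ∈ GT k)
    (h : ∀ s ∈ VP, f s ∈ T5 k) (hreg : Reg (f '' VP)) :
    ∃ g : ↥(chevE8.group k), ∀ s ∈ VL, g * f s * g⁻¹ ∈ TT chevE8 k :=
  toral_VL_of hk (fun hζ => H865.L5.exists_iso3 hk hζ) (H865.L5.exists_zeta3 k) (fun hS hr _ h => H865.L5.cent_reg hk hS hr h)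
    (fun hy h => H865.L5.norm_T5 hk hy h) (fun hy _ h => H865.L5.cw_of_rp hk hy h)
    (fun hu h5 h1 _ _ hφ hψ h0 => H343.L5.fix_line hu h5 h1 hφ hψ h0) (fun hu _ h => H343.L5.five_elt hu h)
    (fun hu h5 h1 _ hφ => H762.L5.mem_refl hu h5 h1 hφ) f hf hr h hreg

end T

end Cfsg.Agent.H969.L5
end

-- part: H305/L5/U1
section
set_option linter.all false
open scoped Cfsg.Agent.FastGrp

/-!
# S5924, piece U1c: the regular toral groups `f VP` are conjugate in `GT` (helper305)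

`conj_VP_of` : from the representatives of `CW` in `GT k` (piece A6).
-/

set_option autoImplicit false
set_option linter.unusedSectionVars false

namespace Cfsg.Agent.H305.L5

open CoxeterSystem Subgroup Cfsg Cfsg.Lie Cfsg.Lie.ChevalleyDatum
open Cfsg.Agent.ChevalleyStructure Cfsg.Agent.ChevalleyStructure.Elts Cfsg.Agent.ChevalleyStructure.CoxeterGeom
  Cfsg.Agent.ChevalleyStructure.CoxeterGeomTypes Cfsg.Agent.ChevalleyStructure.NPerm
open Cfsg.Agent.Tits.Roots Cfsg.Agent.Tits.Core Cfsg.Agent.Nodes Cfsg.Agent.Nodes.SubComb Cfsg.Agent.Nodes.Reps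
  Cfsg.Agent.Nodes.BNOf Cfsg.Agent.Nodes.RGDChev Cfsg.Agent.Nodes.Bruhat Cfsg.Agent.Nodes.Coroot
open Cfsg.Agent.KFacts.RgdField Cfsg.Agent.KFacts.RgdChevCoord Cfsg.Agent.BpExc.TorCent Cfsg.Agent.BpExc.TorChev
open Cfsg.Agent.GpExc.Field Cfsg.Agent.BpExc.Tow Cfsg.Agent.BpExc.TowChev Cfsg.Agent.BpExc.Fr
  Cfsg.Agent.BpExc.LangFr Cfsg.Agent.BpExc.FamField Cfsg.Agent.BpExc.FamInst Cfsg.Agent.H129.TorusChar
  Cfsg.Agent.H795.LangT Cfsg.Agent.BpExc.FamExt Cfsg.Agent.BpExc.FamUntw Cfsg.Agent.H378.TorDual Cfsg.Agent.H378.TorChar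
  Cfsg.Agent.H378.TorFin Cfsg.Agent.H378.RankOne Cfsg.Agent.H378.RootTor Cfsg.Agent.H865.EE
open Cfsg.Agent.H865.L5

attribute [local irreducible] w8

section

variable {k : Type} [Field k] [CharP k 3] [IsAlgClosed k] [PerfectRing k 3]

/-- the plane of functionals attached to `f VP` -/
theorem exists_plane {f : SL35 →* ↥(chevE8.group k)} (hf : Function.Injective f) (hT : ∀ s ∈ VP, f s ∈ T5 k)
    {e : Module.Dual (ZMod 5) (Fin 4 → ZMod 5) → ↥(chevE8.group k)} (he : ∀ t, t ∈ T5 k ↔ ∃ φ, e φ = t) (h0 : e 0 = 1)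
    (ha : ∀ φ ψ, e (φ + ψ) = e φ * e ψ) (hsm : ∀ (c : ZMod 5) φ, e (c • φ) = e φ ^ c.val) :
    ∃ Φ : Submodule (ZMod 5) (Module.Dual (ZMod 5) (Fin 4 → ZMod 5)), Module.finrank (ZMod 5) Φ = 2 ∧
      (∀ ψ ∈ Φ, ∃ s ∈ VP, f s = e ψ) ∧ ∀ s ∈ VP, ∃ ψ ∈ Φ, e ψ = f s := by
  obtain ⟨φ₁, h1⟩ := (he _).1 (hT (vp 1 0) ⟨1, 0, rfl⟩)
  obtain ⟨φ₂, h2⟩ := (he _).1 (hT (vp 0 1) ⟨0, 1, rfl⟩)
  have key : ∀ a b : ZMod 5, e (a • φ₁ + b • φ₂) = f (vp a b) := by
    intro a b
    rw [ha, hsm, hsm, h1, h2, ← map_pow, ← map_pow, vp_pow, vp_pow, ← map_mul, vp_mul, ZMod.natCast_zmod_val,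
      ZMod.natCast_zmod_val, mul_one, mul_zero, mul_zero, mul_one, add_zero, zero_add]
  have hli : LinearIndependent (ZMod 5) ![φ₁, φ₂] := by
    rw [LinearIndependent.pair_iff]
    intro a b hab
    have h3 := key a b
    rw [hab, h0, ← map_one f, ← vp_zero] at h3
    obtain ⟨h4, h5⟩ := vp_inj (hf h3)
    exact ⟨h4.symm, h5.symm⟩
  refine ⟨Submodule.span (ZMod 5) {φ₁, φ₂}, ?_, ?_, ?_⟩
  · have h3 := finrank_span_eq_card hli
    rw [Matrix.range_cons, Matrix.range_cons, Matrix.range_empty, Set.union_empty, Set.singleton_union,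
      Fintype.card_fin] at h3
    exact h3
  · intro ψ hψ
    obtain ⟨a, b, rfl⟩ := Submodule.mem_span_pair.1 hψ
    exact ⟨vp a b, ⟨a, b, rfl⟩, (key a b).symm⟩
  · rintro _ ⟨a, b, rfl⟩
    exact ⟨_, Submodule.mem_span_pair.2 ⟨a, b, rfl⟩, key a b⟩

/-- **U1c** -/
theorem conj_VP_of (hk : LocFin k)
    (A6 : ∀ {v : W8}, v ∈ CW → ∃ y ∈ GT k, Rp cs8 (nsysL tp8 cs8 hk 3) v y) {f f' : SL35 →* ↥(chevE8.group k)}
    (hf : Function.Injective f) (hT : ∀ s ∈ VP, f s ∈ T5 k) (hreg : Reg (f '' VP))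
    (hf' : Function.Injective f') (hT' : ∀ s ∈ VP, f' s ∈ T5 k) (hreg' : Reg (f' '' VP)) :
    ∃ g ∈ GT k, ∀ s ∈ VP, ∃ s' ∈ VP, f' s = g * f s' * g⁻¹ := by
  obtain ⟨ζ, hζ⟩ := exists_zeta3 k
  obtain ⟨e, hi, he, h0, ha, hsm, hch⟩ := exists_iso' hk hζ
  have plane : ∀ {f : SL35 →* ↥(chevE8.group k)}, Function.Injective f → (∀ s ∈ VP, f s ∈ T5 k) → Reg (f '' VP) →
      ∃ Φ : Submodule (ZMod 5) (Module.Dual (ZMod 5) (Fin 4 → ZMod 5)),
        Module.finrank (ZMod 5) Φ.dualCoannihilator = 2 ∧ (∀ ψ ∈ Φ, ∃ s ∈ VP, f s = e ψ) ∧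
        (∀ s ∈ VP, ∃ ψ ∈ Φ, e ψ = f s) ∧ ∀ a, Rt a → PP a ∉ Φ.dualCoannihilator := by
    intro f hf hT hreg
    obtain ⟨Φ, hΦ, h1, h2⟩ := exists_plane hf hT he h0 ha hsm
    refine ⟨Φ, ?_, h1, h2, fun a haa hin => ?_⟩
    · have h3 := Subspace.finrank_add_finrank_dualCoannihilator_eq Φ
      rw [hΦ, Module.finrank_fin_fun] at h3
      omega
    · obtain ⟨_, ⟨s, hs, rfl⟩, hne⟩ := hreg a haa
      obtain ⟨ψ, hψ, h3⟩ := h2 s hs
      apply hne
      rw [← h3, hch, (Submodule.mem_dualCoannihilator _).1 hin ψ hψ, ZMod.val_zero, pow_zero]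
  obtain ⟨Φ, hA, h1, -, hreg₁⟩ := plane hf hT hreg
  obtain ⟨Ψ, hB, -, h2', hreg₂⟩ := plane hf' hT' hreg'
  obtain ⟨v, hv, hvx⟩ := Cfsg.Agent.H136.L5.trans_reg _ _ hA hB hreg₁ hreg₂
  obtain ⟨y, hy, hyr⟩ := A6 hv
  refine ⟨y, hy, fun s hs => ?_⟩
  obtain ⟨ψ, hψ, h3⟩ := h2' s hs
  -- `t = y⁻¹ (f' s) y`
  have hinv : Rp cs8 (nsysL tp8 cs8 hk 3) v⁻¹ y⁻¹ := hyr.inv
  have ht : y⁻¹ * f' s * y ∈ T5 k := by
    have h5 := hT' s hs
    refine ⟨⟨?_, ?_⟩, ?_⟩
    · have h6 := (Subgroup.mem_normalizer_iff.1 hinv.mem_normalizer (f' s)).1 h5.1.1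
      rwa [inv_inv] at h6
    · have hg : y⁻¹ ∈ GT k := inv_mem hy
      exact mul_mem (mul_mem hg h5.1.2) hy
    · have h6 := conj_pow (i := 5) (a := y⁻¹) (b := f' s)
      rw [inv_inv] at h6
      rw [h6, h5.2, mul_one, inv_mul_cancel]
  obtain ⟨φ, hφ⟩ := (he _).1 ht
  have hrel : ∀ x, φ (PP x) = ψ (PP (act v x)) := by
    intro x
    apply zval_inj hζ
    have h6 := cX_rp tp8 cs8 hk 3 hyr (T5_TT ht) x
    have h7 : y * (y⁻¹ * f' s * y) * y⁻¹ = f' s := by group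
    rw [h7, ← hφ, ← h3, hch, hch] at h6
    exact h6.symm
  have hin : φ ∈ Φ := by
    rw [← Subspace.dualCoannihilator_dualAnnihilator_eq (W := Φ), Submodule.mem_dualAnnihilator]
    intro c hc
    obtain ⟨x, rfl⟩ := PP_surj c
    rw [hrel]
    exact (Submodule.mem_dualCoannihilator _).1 ((hvx x).1 hc) ψ hψ
  obtain ⟨s', hs', h4⟩ := h1 φ hin
  refine ⟨s', hs', ?_⟩
  rw [h4, hφ]
  group

end

end Cfsg.Agent.H305.L5
end

-- part: H513/L5/UniAbs_mg
section

end

-- part: H136/L5/XChk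
section
set_option linter.all false
open scoped Cfsg.Agent.FastGrp

/-!
# Kernel checks: six elements of `E₈(3)` satisfy the Steinberg relations of `SL₃(5)` (helper136, S5924)
-/

set_option autoImplicit false
set_option maxRecDepth 100000
set_option Elab.async false

namespace Cfsg.Agent.H136.L5.XChk

open Cfsg.Agent.Th.MatEngine Cfsg.Agent.Th.Words248 Cfsg.Agent.Th.E8Run Cfsg.Agent.H136.L5.XData

/-- `x_01`, packed -/
noncomputable def m01 : ℕ := expd l01
/-- `x_02`, packed -/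
noncomputable def m02 : ℕ := expd l02
/-- `x_10`, packed -/
noncomputable def m10 : ℕ := expd l10
/-- `x_12`, packed -/
noncomputable def m12 : ℕ := expd l12
/-- `x_20`, packed -/
noncomputable def m20 : ℕ := expd l20
/-- `x_21`, packed -/
noncomputable def m21 : ℕ := expd l21

section bit
open Cfsg.Agent.Th.Bit3

theorem sim01 : SimN m01 (cmp l01) true := ⟨fun _ => Sim.expd (m := l01) (by decide +kernel)⟩
theorem sim02 : SimN m02 (cmp l02) true := ⟨fun _ => Sim.expd (m := l02) (by decide +kernel)⟩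
theorem sim10 : SimN m10 (cmp l10) true := ⟨fun _ => Sim.expd (m := l10) (by decide +kernel)⟩
theorem sim12 : SimN m12 (cmp l12) true := ⟨fun _ => Sim.expd (m := l12) (by decide +kernel)⟩
theorem sim20 : SimN m20 (cmp l20) true := ⟨fun _ => Sim.expd (m := l20) (by decide +kernel)⟩
theorem sim21 : SimN m21 (cmp l21) true := ⟨fun _ => Sim.expd (m := l21) (by decide +kernel)⟩

end bit

theorem ok01 : Ok m01 := (sim01.sim rfl).ok
theorem ok02 : Ok m02 := (sim02.sim rfl).ok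
theorem ok10 : Ok m10 := (sim10.sim rfl).ok
theorem ok12 : Ok m12 := (sim12.sim rfl).ok
theorem ok20 : Ok m20 := (sim20.sim rfl).ok
theorem ok21 : Ok m21 := (sim21.sim rfl).ok

/-- fourth power -/
noncomputable def p4 (x : ℕ) : ℕ := force (mul x x) fun y => mul y y

open Cfsg.Agent.Th.Bit3 in
theorem simP4 (x a : ℕ) (c : Bool) [h : SimN x a c] : SimN (p4 x) (mul3 (mul3 a a) (mul3 a a)) c :=
  ⟨fun e => by
    unfold p4
    rw [force_eq]
    exact ((h.sim e).mul (h.sim e)).mul ((h.sim e).mul (h.sim e))⟩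

attribute [local instance] sim01 sim02 sim10 sim12 sim20 sim21 simP4

theorem p01 : Nat.beq (mul m01 (p4 m01)) idm = true := Cfsg.Agent.Th.Bit3.yes (by decide +kernel)
theorem p02 : Nat.beq (mul m02 (p4 m02)) idm = true := Cfsg.Agent.Th.Bit3.yes (by decide +kernel)
theorem p10 : Nat.beq (mul m10 (p4 m10)) idm = true := Cfsg.Agent.Th.Bit3.yes (by decide +kernel)
theorem p12 : Nat.beq (mul m12 (p4 m12)) idm = true := Cfsg.Agent.Th.Bit3.yes (by decide +kernel)
theorem p20 : Nat.beq (mul m20 (p4 m20)) idm = true := Cfsg.Agent.Th.Bit3.yes (by decide +kernel)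
theorem p21 : Nat.beq (mul m21 (p4 m21)) idm = true := Cfsg.Agent.Th.Bit3.yes (by decide +kernel)

theorem r012 : Nat.beq (mul m01 m12) (mul m02 (mul m12 m01)) = true := Cfsg.Agent.Th.Bit3.yes (by decide +kernel)
theorem r021 : Nat.beq (mul m02 m21) (mul m01 (mul m21 m02)) = true := Cfsg.Agent.Th.Bit3.yes (by decide +kernel)
theorem r102 : Nat.beq (mul m10 m02) (mul m12 (mul m02 m10)) = true := Cfsg.Agent.Th.Bit3.yes (by decide +kernel)
theorem r120 : Nat.beq (mul m12 m20) (mul m10 (mul m20 m12)) = true := Cfsg.Agent.Th.Bit3.yes (by decide +kernel)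
theorem r201 : Nat.beq (mul m20 m01) (mul m21 (mul m01 m20)) = true := Cfsg.Agent.Th.Bit3.yes (by decide +kernel)
theorem r210 : Nat.beq (mul m21 m10) (mul m20 (mul m10 m21)) = true := Cfsg.Agent.Th.Bit3.yes (by decide +kernel)

theorem c0102 : Nat.beq (mul m01 m02) (mul m02 m01) = true := Cfsg.Agent.Th.Bit3.yes (by decide +kernel)
theorem c1012 : Nat.beq (mul m10 m12) (mul m12 m10) = true := Cfsg.Agent.Th.Bit3.yes (by decide +kernel)
theorem c2021 : Nat.beq (mul m20 m21) (mul m21 m20) = true := Cfsg.Agent.Th.Bit3.yes (by decide +kernel)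
theorem c1020 : Nat.beq (mul m10 m20) (mul m20 m10) = true := Cfsg.Agent.Th.Bit3.yes (by decide +kernel)
theorem c0121 : Nat.beq (mul m01 m21) (mul m21 m01) = true := Cfsg.Agent.Th.Bit3.yes (by decide +kernel)
theorem c0212 : Nat.beq (mul m02 m12) (mul m12 m02) = true := Cfsg.Agent.Th.Bit3.yes (by decide +kernel)

theorem ne01 : Nat.beq m01 idm = false := Cfsg.Agent.Th.Bit3.no (by decide +kernel)

section rows
open Cfsg.Agent.Th.Bit3 Cfsg.Agent.Th.E8Tab

/-- row operations on two bit planes: for `(s, u, c)` add `c` times the old row `s` to row `u` -/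
noncomputable def ro {α : Type} (n r on ot : ℕ) (L : List (ℕ × ℕ × ℕ)) (k : ℕ → ℕ → α) : ℕ → ℕ → α :=
  List.rec (motive := fun _ => ℕ → ℕ → α) k
    (fun a _ ih sn st =>
      (fun yn cn sh =>
        (fun pn pt =>
          (fun s => ih (Nat.lor (Nat.xor sn pn) (Nat.xor s st)) (Nat.land s (Nat.xor st pn)))
          (Nat.xor sn pt))
        (Nat.shiftLeft (Nat.mul cn yn) sh)
        (Nat.shiftLeft (Nat.xor (Nat.mul (Nat.div a.2.2 2) yn)
          (Nat.mul cn (Nat.land (Nat.shiftRight ot (Nat.mul n a.1)) r))) sh))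
      (Nat.land (Nat.shiftRight on (Nat.mul n a.1)) r) (Nat.div (Nat.succ a.2.2) 2) (Nat.mul n a.2.1)) L

theorem shl_row {n u y : ℕ} (hu : u < n) (hy : y < 2 ^ n) : y <<< (n * u) < 2 ^ (n * n) ∧
    ∀ i < n, ∀ k < n, (y <<< (n * u)).testBit (n * i + k) = (decide (i = u) && y.testBit k) := by
  refine ⟨?_, fun i hi k hk => ?_⟩
  · rw [Nat.shiftLeft_eq]
    calc y * 2 ^ (n * u) < 2 ^ n * 2 ^ (n * u) := Nat.mul_lt_mul_of_pos_right hy (Nat.two_pow_pos _)
      _ = 2 ^ (n * (u + 1)) := by rw [← pow_add]; congr 1; ring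
      _ ≤ 2 ^ (n * n) := Nat.pow_le_pow_right (by omega) (Nat.mul_le_mul_left _ hu)
  · rw [Nat.testBit_shiftLeft]
    rcases lt_trichotomy i u with h | h | h
    · have h1 : n * (i + 1) ≤ n * u := Nat.mul_le_mul_left _ h
      rw [Nat.mul_succ] at h1
      rw [decide_eq_false (by omega), decide_eq_false h.ne, Bool.false_and, Bool.false_and]
    · subst h
      rw [decide_eq_true (by omega), decide_eq_true rfl, Nat.add_sub_cancel_left]
    · have h1 : n * (u + 1) ≤ n * i := Nat.mul_le_mul_left _ h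
      rw [Nat.mul_succ] at h1
      rw [decide_eq_false h.ne', Bool.false_and,
        Nat.testBit_lt_two_pow (lt_of_lt_of_le hy (Nat.pow_le_pow_right (by omega) (by omega))), Bool.and_false]

theorem bmul {n y : ℕ} (b : Bool) (hy : y < 2 ^ n) : b.toNat * y < 2 ^ n ∧ ∀ k, (b.toNat * y).testBit k = (b && y.testBit k) := by
  cases b
  · simp
  · simpa using hy

theorem coef {c : ℕ} (hc : c ≤ 2) : ∃ a a' : Bool, Nat.div (Nat.succ c) 2 = a.toNat ∧ Nat.div c 2 = a'.toNat ∧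
    (a' = true → a = true) ∧ v3 a a' = (c : ZMod 3) := by
  interval_cases c
  · exact ⟨false, false, rfl, rfl, id, rfl⟩
  · exact ⟨true, false, rfl, rfl, fun _ => rfl, rfl⟩
  · exact ⟨true, true, rfl, rfl, id, rfl⟩

theorem ro_spec {α : Type} {n on ot : ℕ} {A : ℕ → ℕ → ZMod 3} (hA : Pl n on ot A) (L : List (ℕ × ℕ × ℕ))
    (hL : ∀ a ∈ L, a.1 < n ∧ a.2.1 < n ∧ a.2.2 ≤ 2) : ∀ sn st f, Pl n sn st f → ∃ u v,
      (∀ k : ℕ → ℕ → α, ro n (2 ^ n - 1) on ot L k sn st = k u v) ∧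
      Pl n u v (fun i l => f i l + (L.map fun a => if i = a.2.1 then ((a.2.2 : ℕ) : ZMod 3) * A a.1 l else 0).sum) := by
  induction L with
  | nil =>
    intro sn st f h
    exact ⟨sn, st, fun _ => rfl, by simpa using h⟩
  | cons a L ih =>
    intro sn st f h
    obtain ⟨hs, hu, hc⟩ := hL a (List.mem_cons_self ..)
    obtain ⟨c, c', e1, e2, hcc, hv⟩ := coef hc
    obtain ⟨y1, y2⟩ := row1 n on a.1
    obtain ⟨z1, z2⟩ := row1 n ot a.1
    obtain ⟨p1, p2⟩ := shl_row hu (bmul c y1).1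
    obtain ⟨q1, q2⟩ := shl_row hu (Nat.xor_lt_two_pow (bmul c' y1).1 (bmul c z1).1)
    generalize hpn : (c.toNat * Nat.land (on >>> (n * a.1)) (2 ^ n - 1)) <<< (n * a.2.1) = pn at p1 p2
    generalize hpt : ((c'.toNat * Nat.land (on >>> (n * a.1)) (2 ^ n - 1)) ^^^
      (c.toNat * Nat.land (ot >>> (n * a.1)) (2 ^ n - 1))) <<< (n * a.2.1) = pt at q1 q2
    have e : ∀ k : ℕ → ℕ → α, ro n (2 ^ n - 1) on ot (a :: L) k sn st =
        ro n (2 ^ n - 1) on ot L k ((sn ^^^ pn) ||| ((sn ^^^ pt) ^^^ st)) ((sn ^^^ pt) &&& (st ^^^ pn)) := by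
      intro k
      subst hpn hpt
      rw [← e1, ← e2]
      rfl
    have hP : Pl n ((sn ^^^ pn) ||| ((sn ^^^ pt) ^^^ st)) ((sn ^^^ pt) &&& (st ^^^ pn))
        (fun i l => f i l + if i = a.2.1 then ((a.2.2 : ℕ) : ZMod 3) * A a.1 l else 0) := by
      refine ⟨Nat.or_lt_two_pow (Nat.xor_lt_two_pow h.1 p1) (Nat.xor_lt_two_pow (Nat.xor_lt_two_pow h.1 q1) h.2.1),
        Nat.and_lt_two_pow _ (Nat.xor_lt_two_pow h.2.1 p1), fun i hi l hl => ?_⟩
      obtain ⟨s1, s2⟩ := h.2.2 i hi l hl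
      obtain ⟨b1, b3⟩ := hA.2.2 a.1 hs l hl
      simp only [Nat.testBit_or, Nat.testBit_and, Nat.testBit_xor, p2 i hi l hl, q2 i hi l hl, (bmul c y1).2,
        (bmul c' y1).2, (bmul c z1).2, y2 l hl, z2 l hl]
      rw [← s2, ← b3, ← hv]
      by_cases hi : i = a.2.1
      · rw [decide_eq_true hi, if_pos hi, Bool.true_and, Bool.true_and]
        exact v3_step _ _ _ _ _ _ s1 hcc b1
      · rw [decide_eq_false hi, if_neg hi, Bool.false_and, Bool.false_and]
        have := v3_step _ _ false false false false s1 id id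
        simpa [v3] using this
    obtain ⟨u, v, e3, e4⟩ := ih (fun b hb => hL b (List.mem_cons_of_mem _ hb)) _ _ _ hP
    refine ⟨u, v, fun k => (e k).trans (e3 k), ?_⟩
    simpa only [List.map_cons, List.sum_cons, add_assoc] using e4

/-- the product of the word `w` and the matrix with the planes `sn`, `st` -/
noncomputable def run3 {α : Type} (n r : ℕ) (w : List ℕ) (sn st : ℕ) : (ℕ → ℕ → α) → α :=
  List.rec (motive := fun _ => (ℕ → ℕ → α) → α) (fun k => k sn st)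
    (fun a _ ih k => ih fun u v => force u fun u => force v fun v =>
      ro n r u v (row (Nat.beq (a % 2) 1) (a / 2)) k u v) w

attribute [local irreducible] row

theorem run3_spec {α : Type} {n : ℕ} (hn : n = 248) (w : List ℕ) (hw : ∀ a ∈ w, a < 480) {sn st : ℕ} {f : ℕ → ℕ → ZMod 3}
    (h : Pl n sn st f) : ∃ u v g, (∀ k : ℕ → ℕ → α, run3 n (2 ^ n - 1) w sn st k = k u v) ∧ Pl n u v g ∧
      (Matrix.of fun i j : Fin 248 => g i j) =
        (w.map fun a => xm (letter a).1 (letter a).2).prod * Matrix.of fun i j : Fin 248 => f i j := by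
  induction w with
  | nil => exact ⟨sn, st, f, fun _ => rfl, h, (one_mul _).symm⟩
  | cons a w ih =>
    obtain ⟨u, v, g, e1, e2, e3⟩ := ih (fun a ha => hw a (List.mem_cons_of_mem _ ha))
    have ha : a / 2 < 240 := by
      have := hw a (List.mem_cons_self ..)
      omega
    obtain ⟨u', v', e4, e5⟩ := ro_spec (α := α) e2 (row (Nat.beq (a % 2) 1) (a / 2))
      (by rw [hn]; exact (row_ok _ ha).2) u v g e2
    refine ⟨u', v', _, fun k => ?_, e5, ?_⟩
    · refine (e1 _).trans ?_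
      rw [force_eq, force_eq]
      exact e4 k
    · rw [List.map_cons, List.prod_cons, mul_assoc, ← e3]
      ext i j
      have := xm_mul (Nat.beq (a % 2) 1) (letter a).1 (Matrix.of fun i j : Fin 248 => g i j) g (fun _ _ => rfl) i j
      rw [letter_val ha] at this
      exact this.symm

/-- the check with the parameters visible -/
noncomputable def chkP (n N r mk : ℕ) (w : List ℕ) (x y : ℕ) : Bool :=
  force r fun r => run3 n r w (Nat.land x mk) (Nat.shiftRight x N) fun u v => Nat.beq (Nat.lor u (Nat.shiftLeft v N)) y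

theorem chkP_spec {n N r mk : ℕ} (hn : n = 248) (hN : N = n * n) (hr : r = 2 ^ n - 1) (hmk : mk = 2 ^ N - 1) {w : List ℕ}
    (hw : ∀ a ∈ w, a < 480) {x y : ℕ} (hx : OkG n x) (h : chkP n N r mk w x y = true) :
    (Matrix.of fun i j : Fin 248 => entG n y i j) =
      (w.map fun a => xm (letter a).1 (letter a).2).prod * Matrix.of fun i j : Fin 248 => entG n x i j := by
  subst hN hr hmk
  unfold chkP at h
  rw [force_eq] at h
  obtain ⟨u, v, g, e1, e2, e3⟩ := run3_spec (α := Bool) hn w hw hx.pl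
  have h1 : Nat.beq (u ||| (v <<< (n * n))) y = true := (e1 _).symm.trans h
  rw [← e3, ← Nat.eq_of_beq_eq_true h1]
  ext i j
  exact e2.ok.2 i (by rw [hn]; exact i.2) j (by rw [hn]; exact j.2)

/-- the kernel check on bit planes: `y` is the product of the word `w` -/
noncomputable def chk3 (w : List ℕ) (y : ℕ) : Bool := chkP 248 61504 rM pM w id3 y

theorem chk3_spec {w : List ℕ} (hw : ∀ a ∈ w, a < 480) {x y : ℕ} (hx : Sim x y) (h : chk3 w y = true) :
    mat x = (w.map fun a => xm (letter a).1 (letter a).2).prod := by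
  unfold chk3 at h
  have h1 : mat3 y = _ * mat3 id3 := chkP_spec (n := 248) (N := 61504) (r := rM) (mk := pM) rfl (by norm_num) rM_eq pM_eq hw Sim.one.1 h
  rw [hx.mat, h1, ← Sim.one.mat, idm_spec.2, mul_one]

end rows

theorem lt01 : ∀ a ∈ w01, a < 480 := by decide +kernel
theorem lt12 : ∀ a ∈ w12, a < 480 := by decide +kernel
theorem lt20 : ∀ a ∈ w20, a < 480 := by decide +kernel

theorem prod01 : mat m01 = (w01.map fun a => xm (letter a).1 (letter a).2).prod :=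
  chk3_spec lt01 (sim01.sim rfl) (by decide +kernel)
theorem prod12 : mat m12 = (w12.map fun a => xm (letter a).1 (letter a).2).prod :=
  chk3_spec lt12 (sim12.sim rfl) (by decide +kernel)
theorem prod20 : mat m20 = (w20.map fun a => xm (letter a).1 (letter a).2).prod :=
  chk3_spec lt20 (sim20.sim rfl) (by decide +kernel)

end Cfsg.Agent.H136.L5.XChk
end
end
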